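import Groth.Agent.EtBC48.Site
import Groth.Agent.Unr55.Et.Stalk
import Groth.Agent.EtCore45.SheafCrit

/-!
Base change maps are local for the etale topology: isomorphisms are detected on a covering, squares paste.
-/

set_option autoImplicit false
set_option backward.isDefEq.respectTransparency.types false
universe u

open CategoryTheory CategoryTheory.Limits AlgebraicGeometry Opposite

namespace Groth.Agent.EtBC48

variable (A : Type (u + 2)) [Category.{u + 1} A]

/-- Inverse image exists. -/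
class HasPull : Prop where
  out : ∀ {X Y : Scheme.{u}} (f : X ⟶ Y), (push A f).IsRightAdjoint

instance [HasPull A] {X Y : Scheme.{u}} (f : X ⟶ Y) : (push A f).IsRightAdjoint := HasPull.out f

variable [HasPull A]

/-- Inverse image. -/
noncomputable abbrev pull {X Y : Scheme.{u}} (f : X ⟶ Y) :
    Sheaf Y.smallEtaleTopology A ⥤ Sheaf X.smallEtaleTopology A :=
  (EtCoh.bc f).sheafPullback A Y.smallEtaleTopology X.smallEtaleTopology

/-- The adjunction. -/
noncomputable abbrev adj {X Y : Scheme.{u}} (f : X ⟶ Y) : pull A f ⊣ push A f :=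
  (EtCoh.bc f).sheafAdjunctionContinuous A Y.smallEtaleTopology X.smallEtaleTopology

variable {X S X' S' : Scheme.{u}} (f : X ⟶ S) (g : S' ⟶ S) (f' : X' ⟶ S') (g' : X' ⟶ X) (w : g' ≫ f = f' ≫ g)

/-- The base change map. -/
noncomputable def bc0 (F : Sheaf X.smallEtaleTopology A) :
    (pull A g).obj ((push A f).obj F) ⟶ (push A f').obj ((pull A g').obj F) :=
  bcM (adj A g) (adj A g') (sqIso A f g f' g' w).hom F

@[reassoc]
theorem bc0_natural {F G : Sheaf X.smallEtaleTopology A} (φ : F ⟶ G) :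
    (pull A g).map ((push A f).map φ) ≫ bc0 A f g f' g' w G =
      bc0 A f g f' g' w F ≫ (push A f').map ((pull A g').map φ) :=
  bcM_natural _ _ _ φ

theorem isIso_bc0_of_etale [Etale g] (sq : IsPullback g' f' f g) (F : Sheaf X.smallEtaleTopology A) :
    IsIso (bc0 A f g f' g' sq.w F) := by
  have : Etale g' := MorphismProperty.of_isPullback (P := @Etale) sq.flip inferInstance
  exact isIso_bcM_change (adj A g) (adj A g') _ (restrAdj A g) (restrAdj A g') (isIso_bcM_restr A f g f' g' sq F)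

/-- The natural isomorphism between inverse images along composable morphisms. -/
noncomputable def pullC {W : Scheme.{u}} (g : S' ⟶ S) (i : W ⟶ S') : pull A (i ≫ g) ≅ pull A g ⋙ pull A i :=
  Adjunction.leftAdjointUniq (adj A (i ≫ g)) (((adj A g).comp (adj A i)).ofNatIsoRight (pushC A g i))

/-- Pasting of base change maps. -/
theorem bc0_paste {W Z : Scheme.{u}} (i : W ⟶ S') (j : Z ⟶ W) (k : Z ⟶ X') (w' : k ≫ f' = j ≫ i)
    (w'' : (k ≫ g') ≫ f = j ≫ i ≫ g) (F : Sheaf X.smallEtaleTopology A) :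
    bc0 A f (i ≫ g) j (k ≫ g') w'' F =
      (pullC A g i).hom.app ((push A f).obj F) ≫ (pull A i).map (bc0 A f g f' g' w F) ≫
        bc0 A f' i j k w' ((pull A g').obj F) ≫ (push A j).map ((pullC A g' k).inv.app F) := by
  have h := bcM_change (adj A (i ≫ g)) (adj A (k ≫ g')) (sqIso A f (i ≫ g) j (k ≫ g') w'').hom
    (((adj A g).comp (adj A i)).ofNatIsoRight (pushC A g i))
    (((adj A g').comp (adj A k)).ofNatIsoRight (pushC A g' k)) F
  rw [bcM_comp (adj A g) (adj A g') (sqIso A f g f' g' w).hom (adj A i) (adj A k) (sqIso A f' i j k w').hom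
    (pushC A g i) (pushC A g' k) (sqIso A f (i ≫ g) j (k ≫ g') w'').hom
    (sqIso_paste A f g f' g' w i j k w' w'') F] at h
  simp only [bc0, pullC]
  rw [reassoc_of% h, ← Functor.map_comp, Iso.hom_inv_id_app, CategoryTheory.Functor.map_id, Category.comp_id]

instance hasPull_type : HasPull.{u} (Type (u + 1)) where out _ := inferInstance

instance hasPull_ab : HasPull.{u} AddCommGrpCat.{u + 1} where out _ := inferInstance

/-- Isomorphisms of sheaves are detected on etale coverings. -/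
class DetectsLocal : Prop where
  out : ∀ {X : Scheme.{u}} {ι : Type u} (U : ι → X.Etale) (_ : EtCoh.Covers U) [∀ i, Etale (U i).hom]
    {F G : Sheaf X.smallEtaleTopology A} (φ : F ⟶ G),
    (∀ i, IsIso ((restr A (U i).hom).map φ)) → IsIso φ

theorem bijective_app_of_covers {X : Scheme.{u}} {ι : Type u} (U : ι → X.Etale) (hU : EtCoh.Covers U)
    [∀ i, Etale (U i).hom] {F G : Sheaf X.smallEtaleTopology (Type (u + 1))} (φ : F ⟶ G)
    (h : ∀ i, IsIso ((restr (Type (u + 1)) (U i).hom).map φ)) (W : X.Etale) :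
    Function.Bijective (φ.hom.app (op W)) := by
  let S : ∀ W : X.Etale, Sieve W := fun W =>
    { arrows := fun V _ => ∃ i, Nonempty (V ⟶ U i)
      downward_closed := fun ⟨i, ⟨a⟩⟩ k => ⟨i, ⟨k ≫ a⟩⟩ }
  have hS : ∀ W : X.Etale, S W ∈ X.smallEtaleTopology W := fun W => Unr55.EtSh.mem_topology fun x => by
    obtain ⟨i, y, hy⟩ := hU (W.hom x)
    obtain ⟨z, hz1, hz2⟩ := Scheme.Pullback.exists_preimage_pullback (f := W.hom) (g := (U i).hom) x y hy.symm
    have : Etale W.hom := W.prop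
    exact ⟨Scheme.Etale.mk (pullback.fst W.hom (U i).hom ≫ W.hom),
      MorphismProperty.Over.homMk (pullback.fst W.hom (U i).hom) rfl trivial, z,
      ⟨i, ⟨MorphismProperty.Over.homMk (pullback.snd W.hom (U i).hom) pullback.condition.symm trivial⟩⟩, hz1⟩
  have hb : ∀ {V : X.Etale} (i : ι) (_ : V ⟶ U i), Function.Bijective (φ.hom.app (op V)) := fun {V} i a => by
    let l : V.left ⟶ (U i).left := a.left
    have : Etale l := EtCore45.etale_left a
    let e : V ≅ (EtShriek.compEtale (U i).hom).obj (Scheme.Etale.mk l) :=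
      MorphismProperty.Over.isoMk (Iso.refl _) ((Category.id_comp _).trans (Over.w a.hom))
    have h1 := h i
    have h2 : IsIso (φ.hom.app (op ((EtShriek.compEtale (U i).hom).obj (Scheme.Etale.mk l)))) :=
      inferInstanceAs (IsIso (((sheafToPresheaf _ _).map ((restr (Type (u + 1)) (U i).hom).map φ)).app
        (op (Scheme.Etale.mk l))))
    have h3 : IsIso (φ.hom.app (op V)) := by
      have := φ.hom.naturality e.hom.op
      have e' : φ.hom.app (op V) = inv (F.obj.map e.hom.op) ≫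
          φ.hom.app (op ((EtShriek.compEtale (U i).hom).obj (Scheme.Etale.mk l))) ≫ G.obj.map e.hom.op := by
        rw [← this, IsIso.inv_hom_id_assoc]
      rw [e']
      infer_instance
    exact (CategoryTheory.isIso_iff_bijective _).1 h3
  have hF := fun (F : Sheaf X.smallEtaleTopology (Type (u + 1))) =>
    (isSheaf_iff_isSheaf_of_type _ _).1 F.property (S W) (hS W)
  refine ⟨fun s t e => (hF F).isSeparatedFor.ext fun V g ⟨i, ⟨a⟩⟩ => ?_, fun t => ?_⟩
  · refine (hb i a).1 ?_
    exact (NatTrans.naturality_apply φ.hom g.op s).trans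
      ((congrArg (G.obj.map g.op) e).trans (NatTrans.naturality_apply φ.hom g.op t).symm)
  · let x : Presieve.FamilyOfElements F.obj (S W).arrows := fun V g hg =>
      ((hb hg.choose hg.choose_spec.some).2 (G.obj.map g.op t)).choose
    have hx : ∀ {V : X.Etale} (g : V ⟶ W) (hg : S W g), φ.hom.app (op V) (x g hg) = G.obj.map g.op t :=
      fun g hg => ((hb hg.choose hg.choose_spec.some).2 (G.obj.map g.op t)).choose_spec
    have hc : x.Compatible := fun Y₁ Y₂ Z g₁ g₂ f₁ f₂ h₁ h₂ eg => by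
      obtain ⟨i, ⟨a⟩⟩ := id h₁
      refine (hb i (g₁ ≫ a)).1 ?_
      refine (NatTrans.naturality_apply φ.hom g₁.op _).trans (Eq.trans ?_ (NatTrans.naturality_apply φ.hom g₂.op _).symm)
      rw [hx _ h₁, hx _ h₂, ← FunctorToTypes.map_comp_apply, ← FunctorToTypes.map_comp_apply, ← op_comp, ← op_comp, eg]
    refine ⟨(hF F).amalgamate x hc, (hF G).isSeparatedFor.ext fun V g hg => ?_⟩
    rw [← hx g hg, ← (hF F).valid_glue hc g hg]
    exact (NatTrans.naturality_apply φ.hom g.op _).symm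

instance detectsLocal_type : DetectsLocal.{u} (Type (u + 1)) where
  out U hU _ _ _ φ h := by
    have := @NatIso.isIso_of_isIso_app _ _ _ _ _ _ φ.hom fun W =>
      (CategoryTheory.isIso_iff_bijective _).2 (bijective_app_of_covers U hU φ h W.unop)
    exact @isIso_of_reflects_iso _ _ _ _ _ _ φ (sheafToPresheaf _ _) this _

instance detectsLocal_ab : DetectsLocal.{u} AddCommGrpCat.{u + 1} where
  out {X} _ U hU _ _ _ φ h := by
    let Φ := sheafCompose X.smallEtaleTopology (forget AddCommGrpCat.{u + 1})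
    have := @NatIso.isIso_of_isIso_app _ _ _ _ _ _ φ.hom fun W =>
      (ConcreteCategory.isIso_iff_bijective _).2 (bijective_app_of_covers U hU (Φ.map φ) (fun i => by
        have := h i
        exact inferInstanceAs (IsIso
          ((sheafCompose _ (forget AddCommGrpCat.{u + 1})).map ((restr AddCommGrpCat.{u + 1} (U i).hom).map φ))))
        W.unop)
    exact @isIso_of_reflects_iso _ _ _ _ _ _ φ (sheafToPresheaf _ _) this _

section LocalCriterion

theorem isIso_restr_map_iff {U : Scheme.{u}} (p : U ⟶ S) [Etale p] {F G : Sheaf S.smallEtaleTopology A} (φ : F ⟶ G) :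
    IsIso ((pull A p).map φ) ↔ IsIso ((restr A p).map φ) :=
  NatIso.isIso_map_iff (Adjunction.leftAdjointUniq (adj A p) (restrAdj A p)) φ

variable {T Y : Scheme.{u}}

theorem isIso_bc0_congr {g₁ g₂ : S' ⟶ S} {k₁ k₂ : X' ⟶ X} (e : g₁ = g₂) (e' : k₁ = k₂)
    (w₁ : k₁ ≫ f = f' ≫ g₁) (w₂ : k₂ ≫ f = f' ≫ g₂) (F : Sheaf X.smallEtaleTopology A)
    (h : IsIso (bc0 A f g₁ f' k₁ w₁ F)) : IsIso (bc0 A f g₂ f' k₂ w₂ F) := by
  subst e e'
  exact h

/-- A base change map whose local forms are isomorphisms is an isomorphism after restriction. -/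
theorem isIso_pull_bc0 {g₀ : T ⟶ S} {f₀ : X ⟶ S} {h : Y ⟶ X} {e : Y ⟶ T} (c : IsPullback e h g₀ f₀)
    {U V Ti Yi : Scheme.{u}} (p : U ⟶ X) [Etale p] (v : V ⟶ S) [Etale v] (a : U ⟶ V) (ha : a ≫ v = p ≫ f₀)
    (gi : Ti ⟶ V) (ti : Ti ⟶ T) (cT : IsPullback ti gi g₀ v) (hi : Yi ⟶ U) (ei : Yi ⟶ Ti)
    (cY : IsPullback ei hi gi a) (F : Sheaf T.smallEtaleTopology A)
    (hloc : IsIso (bc0 A gi a hi ei cY.w ((pull A ti).obj F))) :
    IsIso ((pull A p).map (bc0 A g₀ f₀ h e c.w F)) := by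
  have w : (ei ≫ ti) ≫ g₀ = (hi ≫ p) ≫ f₀ := by
    rw [Category.assoc, cT.w, ← Category.assoc, cY.w, Category.assoc, ha, Category.assoc]
  let k : Yi ⟶ Y := c.lift (ei ≫ ti) (hi ≫ p) w
  have hk1 : k ≫ e = ei ≫ ti := c.lift_fst _ _ _
  have hk2 : k ≫ h = hi ≫ p := c.lift_snd _ _ _
  have big : IsPullback (k ≫ e) hi g₀ (p ≫ f₀) := by
    rw [hk1, ← ha]
    exact cY.paste_horiz cT
  have small : IsPullback k hi h p := IsPullback.of_right big hk2 c
  have i1 : IsIso (bc0 A g₀ v gi ti cT.w F) := isIso_bc0_of_etale A g₀ v gi ti cT F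
  have i2 : IsIso (bc0 A h p hi k small.w ((pull A e).obj F)) := isIso_bc0_of_etale A h p hi k small _
  have wo : (ei ≫ ti) ≫ g₀ = hi ≫ a ≫ v := by rw [w, ha, Category.assoc]
  have i3 : IsIso (bc0 A g₀ (a ≫ v) hi (ei ≫ ti) wo F) := by
    rw [bc0_paste A g₀ v gi ti cT.w a hi ei cY.w wo F]
    infer_instance
  have i4 := isIso_bc0_congr A g₀ hi ha hk1.symm wo big.w F i3
  rw [bc0_paste A g₀ f₀ h e c.w p hi k small.w big.w F] at i4
  have i5 := @IsIso.of_isIso_comp_left _ _ _ _ _ _ _ inferInstance i4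
  exact @IsIso.of_isIso_comp_right _ _ _ _ _ _ _ inferInstance i5

/-- Base change maps are local on the source for the etale topology. -/
theorem isIso_bc0_local [DetectsLocal.{u} A] {g₀ : T ⟶ S} {f₀ : X ⟶ S} {h : Y ⟶ X} {e : Y ⟶ T}
    (c : IsPullback e h g₀ f₀) (F : Sheaf T.smallEtaleTopology A) {ι : Type u} (U : ι → X.Etale)
    (hU : EtCoh.Covers U) (V : ι → S.Etale) (a : ∀ i, (U i).left ⟶ (V i).left)
    (ha : ∀ i, a i ≫ (V i).hom = (U i).hom ≫ f₀) (Ti Yi : ι → Scheme.{u}) (gi : ∀ i, Ti i ⟶ (V i).left)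
    (ti : ∀ i, Ti i ⟶ T) (cT : ∀ i, IsPullback (ti i) (gi i) g₀ (V i).hom) (hi : ∀ i, Yi i ⟶ (U i).left)
    (ei : ∀ i, Yi i ⟶ Ti i) (cY : ∀ i, IsPullback (ei i) (hi i) (gi i) (a i))
    (hloc : ∀ i, IsIso (bc0 A (gi i) (a i) (hi i) (ei i) (cY i).w ((pull A (ti i)).obj F))) :
    IsIso (bc0 A g₀ f₀ h e c.w F) := by
  have : ∀ i, Etale (U i).hom := fun i => (U i).prop
  have : ∀ i, Etale (V i).hom := fun i => (V i).prop
  exact DetectsLocal.out U hU _ fun i => (isIso_restr_map_iff A (U i).hom _).1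
    (isIso_pull_bc0 A c (U i).hom (V i).hom (a i) (ha i) (gi i) (ti i) (cT i) (hi i) (ei i) (cY i) F (hloc i))

end LocalCriterion

end Groth.Agent.EtBC48
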