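import Groth.Agent.EtBC48.Derived
import Groth.Agent.EtBC48.Local
import Groth.Agent.Unr55.Et.PullExact
import Groth.Agent.EtCore45.EtalePull
import Groth.Prelude.Def_EtBC2

/-!
The base change maps of higher direct images: pasting, etale base change, locality.
-/

set_option autoImplicit false
set_option backward.isDefEq.respectTransparency.types false
universe u

open CategoryTheory CategoryTheory.Limits AlgebraicGeometry Opposite

namespace Groth.Agent.EtBC48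

/-- Coefficients in abelian groups. -/
abbrev AbU : Type (u + 2) := AddCommGrpCat.{u + 1}

variable {X S X' S' : Scheme.{u}} (f : X ⟶ S) (g : S' ⟶ S) (f' : X' ⟶ S') (g' : X' ⟶ X)

theorem bcQ_eq (w : g' ≫ f = f' ≫ g) [PreservesFiniteLimits (EtCoh.pull g')] (q : ℕ) (F : EtCoh.Ab X) :
    EtBC.bcQ f g f' g' w q F =
      bcD (Pf := EtCoh.push f) (Pf' := EtCoh.push f') (EtCoh.pullPushAdj g) (EtCoh.pullPushAdj g')
        (sqIso AbU f g f' g' w) q F :=
  rfl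

/-- Pasting: if the first square has bijective base change, the second has iff the composite has. -/
theorem isIso_bcQ_paste (w : g' ≫ f = f' ≫ g) {W Z : Scheme.{u}} (i : W ⟶ S') (j : Z ⟶ W) (k : Z ⟶ X')
    (w' : k ≫ f' = j ≫ i) (w'' : (k ≫ g') ≫ f = j ≫ i ≫ g) [PreservesFiniteLimits (EtCoh.pull g')]
    [PreservesFiniteLimits (EtCoh.pull k)] [PreservesFiniteLimits (EtCoh.pull (k ≫ g'))] (q : ℕ) (F : EtCoh.Ab X)
    (h₁ : IsIso (EtBC.bcQ f g f' g' w q F)) :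
    IsIso (EtBC.bcQ f (i ≫ g) j (k ≫ g') w'' q F) ↔
      IsIso (EtBC.bcQ f' i j k w' q ((EtCoh.pull g').obj F)) := by
  have := Unr55.EtSh.preservesFiniteLimits_pull g
  have := Unr55.EtSh.preservesFiniteLimits_pull i
  have := Unr55.EtSh.preservesFiniteLimits_pull (i ≫ g)
  exact isIso_bcD_vcomp (Pf := EtCoh.push f) (Pf' := EtCoh.push f') (Pj := EtCoh.push j)
    (EtCoh.pullPushAdj g) (EtCoh.pullPushAdj g') (sqIso AbU f g f' g' w)
    (EtCoh.pullPushAdj i) (EtCoh.pullPushAdj k) (sqIso AbU f' i j k w') (pushC AbU g i) (pushC AbU g' k)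
    (EtCoh.pullPushAdj (i ≫ g)) (EtCoh.pullPushAdj (k ≫ g')) (sqIso AbU f (i ≫ g) j (k ≫ g') w'')
    (sqIso_paste AbU f g f' g' w i j k w' w'') q F h₁

/-- Pasting: if the second square has bijective base change, the first has after inverse image iff the composite has. -/
theorem isIso_bcQ_paste' (w : g' ≫ f = f' ≫ g) {W Z : Scheme.{u}} (i : W ⟶ S') (j : Z ⟶ W) (k : Z ⟶ X')
    (w' : k ≫ f' = j ≫ i) (w'' : (k ≫ g') ≫ f = j ≫ i ≫ g) [PreservesFiniteLimits (EtCoh.pull g')]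
    [PreservesFiniteLimits (EtCoh.pull k)] [PreservesFiniteLimits (EtCoh.pull (k ≫ g'))] (q : ℕ) (F : EtCoh.Ab X)
    (h₂ : IsIso (EtBC.bcQ f' i j k w' q ((EtCoh.pull g').obj F))) :
    IsIso (EtBC.bcQ f (i ≫ g) j (k ≫ g') w'' q F) ↔
      IsIso ((EtCoh.pull i).map (EtBC.bcQ f g f' g' w q F)) := by
  have := Unr55.EtSh.preservesFiniteLimits_pull g
  have := Unr55.EtSh.preservesFiniteLimits_pull i
  have := Unr55.EtSh.preservesFiniteLimits_pull (i ≫ g)
  exact isIso_bcD_vcomp' (Pf := EtCoh.push f) (Pf' := EtCoh.push f') (Pj := EtCoh.push j)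
    (EtCoh.pullPushAdj g) (EtCoh.pullPushAdj g') (sqIso AbU f g f' g' w)
    (EtCoh.pullPushAdj i) (EtCoh.pullPushAdj k) (sqIso AbU f' i j k w') (pushC AbU g i) (pushC AbU g' k)
    (EtCoh.pullPushAdj (i ≫ g)) (EtCoh.pullPushAdj (k ≫ g')) (sqIso AbU f (i ≫ g) j (k ≫ g') w'')
    (sqIso_paste AbU f g f' g' w i j k w' w'') q F h₂

/-- Base change along an etale morphism is bijective in every degree. -/
theorem isIso_bcQ_of_etale [Etale g] (sq : IsPullback g' f' f g) [PreservesFiniteLimits (EtCoh.pull g')]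
    (q : ℕ) (F : EtCoh.Ab X) : IsIso (EtBC.bcQ f g f' g' sq.w q F) := by
  have : Etale g' := MorphismProperty.of_isPullback (P := @Etale) sq.flip inferInstance
  have := Unr55.EtSh.preservesFiniteLimits_pull g
  have : (EtCoh.pull g').PreservesInjectiveObjects := ⟨fun {I} _ => EtCore45.injective_pull g' I⟩
  rw [bcQ_eq]
  exact isIso_bcD_of_injective _ _ _ q fun G => isIso_bc0_of_etale AbU f g f' g' sq G

theorem isIso_bcQ_congr {g₁ g₂ : S' ⟶ S} {k₁ k₂ : X' ⟶ X} (e : g₁ = g₂) (e' : k₁ = k₂)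
    (w₁ : k₁ ≫ f = f' ≫ g₁) (w₂ : k₂ ≫ f = f' ≫ g₂) [PreservesFiniteLimits (EtCoh.pull k₁)]
    [PreservesFiniteLimits (EtCoh.pull k₂)] (q : ℕ) (F : EtCoh.Ab X)
    (h : IsIso (EtBC.bcQ f g₁ f' k₁ w₁ q F)) : IsIso (EtBC.bcQ f g₂ f' k₂ w₂ q F) := by
  subst e e'
  exact h

variable {T Y : Scheme.{u}}

/-- A base change map whose local forms are isomorphisms is an isomorphism after restriction. -/
theorem isIso_pull_bcQ {g₀ : T ⟶ S} {f₀ : X ⟶ S} {h : Y ⟶ X} {e : Y ⟶ T} (c : IsPullback e h g₀ f₀)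
    [PreservesFiniteLimits (EtCoh.pull e)]
    {U V Ti Yi : Scheme.{u}} (p : U ⟶ X) [Etale p] (v : V ⟶ S) [Etale v] (a : U ⟶ V) (ha : a ≫ v = p ≫ f₀)
    (gi : Ti ⟶ V) (ti : Ti ⟶ T) (cT : IsPullback ti gi g₀ v) (hi : Yi ⟶ U) (ei : Yi ⟶ Ti)
    [PreservesFiniteLimits (EtCoh.pull ei)]
    (cY : IsPullback ei hi gi a) (q : ℕ) (F : EtCoh.Ab T)
    (hloc : IsIso (EtBC.bcQ gi a hi ei cY.w q ((EtCoh.pull ti).obj F))) :
    IsIso ((EtCoh.pull p).map (EtBC.bcQ g₀ f₀ h e c.w q F)) := by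
  have w : (ei ≫ ti) ≫ g₀ = (hi ≫ p) ≫ f₀ := by
    rw [Category.assoc, cT.w, ← Category.assoc, cY.w, Category.assoc, ha, Category.assoc]
  let k : Yi ⟶ Y := c.lift (ei ≫ ti) (hi ≫ p) w
  have hk1 : k ≫ e = ei ≫ ti := c.lift_fst _ _ _
  have hk2 : k ≫ h = hi ≫ p := c.lift_snd _ _ _
  have big : IsPullback (k ≫ e) hi g₀ (p ≫ f₀) := by
    rw [hk1, ← ha]
    exact cY.paste_horiz cT
  have small : IsPullback k hi h p := IsPullback.of_right big hk2 c
  have := Unr55.EtSh.preservesFiniteLimits_pull ti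
  have := Unr55.EtSh.preservesFiniteLimits_pull k
  have := Unr55.EtSh.preservesFiniteLimits_pull (k ≫ e)
  have := Unr55.EtSh.preservesFiniteLimits_pull (ei ≫ ti)
  have i1 : IsIso (EtBC.bcQ g₀ v gi ti cT.w q F) := isIso_bcQ_of_etale g₀ v gi ti cT q F
  have i2 : IsIso (EtBC.bcQ h p hi k small.w q ((EtCoh.pull e).obj F)) := isIso_bcQ_of_etale h p hi k small q _
  have wo : (ei ≫ ti) ≫ g₀ = hi ≫ a ≫ v := by rw [w, ha, Category.assoc]
  have i3 : IsIso (EtBC.bcQ g₀ (a ≫ v) hi (ei ≫ ti) wo q F) :=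
    (isIso_bcQ_paste g₀ v gi ti cT.w a hi ei cY.w wo q F i1).2 hloc
  have i4 := isIso_bcQ_congr g₀ hi ha hk1.symm wo big.w q F i3
  exact (isIso_bcQ_paste' g₀ f₀ h e c.w p hi k small.w big.w q F i2).1 i4

/-- Base change maps are local on the source for the etale topology. -/
theorem isIso_bcQ_local {g₀ : T ⟶ S} {f₀ : X ⟶ S} {h : Y ⟶ X} {e : Y ⟶ T} (c : IsPullback e h g₀ f₀)
    [PreservesFiniteLimits (EtCoh.pull e)] (q : ℕ) (F : EtCoh.Ab T) {ι : Type u} (U : ι → X.Etale)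
    (hU : EtCoh.Covers U) (V : ι → S.Etale) (a : ∀ i, (U i).left ⟶ (V i).left)
    (ha : ∀ i, a i ≫ (V i).hom = (U i).hom ≫ f₀) (Ti Yi : ι → Scheme.{u}) (gi : ∀ i, Ti i ⟶ (V i).left)
    (ti : ∀ i, Ti i ⟶ T) (cT : ∀ i, IsPullback (ti i) (gi i) g₀ (V i).hom) (hi : ∀ i, Yi i ⟶ (U i).left)
    (ei : ∀ i, Yi i ⟶ Ti i) (cY : ∀ i, IsPullback (ei i) (hi i) (gi i) (a i))
    [∀ i, PreservesFiniteLimits (EtCoh.pull (ei i))]
    (hloc : ∀ i, IsIso (EtBC.bcQ (gi i) (a i) (hi i) (ei i) (cY i).w q ((EtCoh.pull (ti i)).obj F))) :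
    IsIso (EtBC.bcQ g₀ f₀ h e c.w q F) := by
  have : ∀ i, Etale (U i).hom := fun i => (U i).prop
  have : ∀ i, Etale (V i).hom := fun i => (V i).prop
  exact DetectsLocal.out (A := AbU) U hU _ fun i => (isIso_restr_map_iff AbU (U i).hom _).1
    (isIso_pull_bcQ c (U i).hom (V i).hom (a i) (ha i) (gi i) (ti i) (cT i) (hi i) (ei i) (cY i) q F (hloc i))

end Groth.Agent.EtBC48
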