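import Groth.Agent.CohDer42.KInj
import Groth.Agent.CohDer42.FilKInj
import Groth.Agent.CohDer42.AcCrit
import Mathlib.Algebra.Homology.DerivedCategory.KInjective

/-!
Derived functors computed on K-injective resolutions indexed by the integers, naturally.
-/

universe w v v' u u'

set_option autoImplicit false
set_option backward.isDefEq.respectTransparency.types false

open CategoryTheory CategoryTheory.Limits HomologicalComplex

namespace Groth.Agent.EtBC48

variable {A : Type u} [Category.{v} A] [Abelian A]

/-- The complex concentrated in degree zero. -/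
noncomputable abbrev sgl (A : Type u) [Category.{v} A] [Abelian A] : A ⥤ CochainComplex A ℤ :=
  CochainComplex.singleFunctor A 0

/-- The class of a map of complexes up to homotopy. -/
noncomputable abbrev hq (A : Type u) [Category.{v} A] [Abelian A] :
    CochainComplex A ℤ ⥤ HomotopyCategory A (ComplexShape.up ℤ) :=
  HomotopyCategory.quotient A (ComplexShape.up ℤ)

/-- Maps to a K-injective complex agreeing on a quasi-isomorphic complex are homotopic. -/
theorem hq_eq_of_qis {M N I : CochainComplex A ℤ} (s : M ⟶ N) [QuasiIso s] [I.IsKInjective] {a b : N ⟶ I}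
    (h : (hq A).map (s ≫ a) = (hq A).map (s ≫ b)) : (hq A).map a = (hq A).map b := by
  let := HasDerivedCategory.standard A
  refine (CochainComplex.IsKInjective.Qh_map_bijective ((hq A).obj N) I).1 ?_
  have : IsIso (DerivedCategory.Qh.map ((hq A).map s)) :=
    (NatIso.isIso_map_iff (DerivedCategory.quotientCompQhIso A) s).2
      ((DerivedCategory.isIso_Q_map_iff_quasiIso A s).2 inferInstance)
  rw [← cancel_epi (DerivedCategory.Qh.map ((hq A).map s)), ← Functor.map_comp, ← Functor.map_comp,
    ← Functor.map_comp, ← Functor.map_comp, h]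

/-- Maps to a K-injective complex extend along quasi-isomorphisms, up to homotopy. -/
theorem exists_hq_factor {M N I : CochainComplex A ℤ} (s : M ⟶ N) [QuasiIso s] [I.IsKInjective] (c : M ⟶ I) :
    ∃ a : N ⟶ I, (hq A).map (s ≫ a) = (hq A).map c := by
  let := HasDerivedCategory.standard A
  have : IsIso (DerivedCategory.Qh.map ((hq A).map s)) :=
    (NatIso.isIso_map_iff (DerivedCategory.quotientCompQhIso A) s).2
      ((DerivedCategory.isIso_Q_map_iff_quasiIso A s).2 inferInstance)
  obtain ⟨b, hb⟩ := (CochainComplex.IsKInjective.Qh_map_bijective ((hq A).obj N) I).2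
    (inv (DerivedCategory.Qh.map ((hq A).map s)) ≫ DerivedCategory.Qh.map ((hq A).map c))
  obtain ⟨a, rfl⟩ := (hq A).map_surjective b
  refine ⟨a, (CochainComplex.IsKInjective.Qh_map_bijective ((hq A).obj M) I).1 ?_⟩
  rw [Functor.map_comp, Functor.map_comp, hb, IsIso.hom_inv_id_assoc]

/-- Quasi-isomorphisms of K-injective complexes are invertible up to homotopy. -/
theorem isIso_hq_of_qis {I J : CochainComplex A ℤ} (a : I ⟶ J) [QuasiIso a] [I.IsKInjective] [J.IsKInjective] :
    IsIso ((hq A).map a) := by
  obtain ⟨b, hb⟩ := exists_hq_factor a (𝟙 I)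
  refine ⟨(hq A).map b, ?_, ?_⟩
  · rw [← Functor.map_comp, hb, CategoryTheory.Functor.map_id]
  · rw [← Functor.map_comp, ← CategoryTheory.Functor.map_id (hq A)]
    exact hq_eq_of_qis a (by rw [Category.comp_id, ← Category.assoc, Functor.map_comp, hb,
      CategoryTheory.Functor.map_id, Category.id_comp])

section Map

variable {B : Type u'} [Category.{v'} B] [Abelian B] (G : A ⥤ B) [G.Additive]

theorem homologyMap_map_eq {K L : CochainComplex A ℤ} {a b : K ⟶ L} (h : (hq A).map a = (hq A).map b) (q : ℤ) :
    homologyMap ((G.mapHomologicalComplex (ComplexShape.up ℤ)).map a) q =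
      homologyMap ((G.mapHomologicalComplex (ComplexShape.up ℤ)).map b) q :=
  (G.mapHomotopy (HomotopyCategory.homotopyOfEq _ _ h)).homologyMap_eq q

theorem quasiIso_map_of_kInjective {I J : CochainComplex A ℤ} (a : I ⟶ J) [QuasiIso a] [I.IsKInjective]
    [J.IsKInjective] : QuasiIso ((G.mapHomologicalComplex (ComplexShape.up ℤ)).map a) := by
  have := isIso_hq_of_qis a
  obtain ⟨b, hb⟩ := exists_hq_factor a (𝟙 I)
  have hb' : (hq A).map (b ≫ a) = (hq A).map (𝟙 J) := by
    rw [← cancel_epi ((hq A).map a), ← Functor.map_comp, ← Category.assoc, Functor.map_comp, hb,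
      CategoryTheory.Functor.map_id, CategoryTheory.Functor.map_id]
    exact (Category.id_comp _).trans (Category.comp_id _).symm
  refine ⟨fun q => (quasiIsoAt_iff_isIso_homologyMap _ _).2
    ⟨homologyMap ((G.mapHomologicalComplex (ComplexShape.up ℤ)).map b) q, ?_, ?_⟩⟩
  · rw [← homologyMap_comp, ← Functor.map_comp, homologyMap_map_eq G hb, CategoryTheory.Functor.map_id, homologyMap_id]
  · rw [← homologyMap_comp, ← Functor.map_comp, homologyMap_map_eq G hb', CategoryTheory.Functor.map_id, homologyMap_id]

/-- The homology of a complex indexed by `ℕ` after a functor, seen on `ℤ`. -/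
noncomputable def natZ (K : CochainComplex A ℕ) (q : ℕ) :
    ((G.mapHomologicalComplex (ComplexShape.up ℕ)).obj K).homology q ≅
      ((G.mapHomologicalComplex (ComplexShape.up ℤ)).obj (K.extend ComplexShape.embeddingUpNat)).homology (q : ℤ) :=
  (((G.mapHomologicalComplex (ComplexShape.up ℕ)).obj K).extendHomologyIso ComplexShape.embeddingUpNat
      (j' := (q : ℤ)) rfl).symm ≪≫
    (homologyFunctor B (ComplexShape.up ℤ) (q : ℤ)).mapIso (CohDer42.mapExtendIso G K)

theorem mapExtendIso_naturality {K L : CochainComplex A ℕ} (a : K ⟶ L) :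
    HomologicalComplex.extendMap ((G.mapHomologicalComplex (ComplexShape.up ℕ)).map a) ComplexShape.embeddingUpNat ≫
        (CohDer42.mapExtendIso G L).hom =
      (CohDer42.mapExtendIso G K).hom ≫ (G.mapHomologicalComplex (ComplexShape.up ℤ)).map
        (HomologicalComplex.extendMap a ComplexShape.embeddingUpNat) := by
  ext n
  by_cases hn : 0 ≤ n
  · simp only [HomologicalComplex.comp_f, Functor.mapHomologicalComplex_map_f, CohDer42.mapExtendIso,
      HomologicalComplex.Hom.isoOfComponents_hom_f, dif_pos hn, Iso.trans_hom, Functor.mapIso_hom, Iso.symm_hom,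
      Category.assoc]
    rw [HomologicalComplex.extendMap_f _ _ (i := n.toNat) (show (n.toNat : ℤ) = n by omega),
      HomologicalComplex.extendMap_f _ _ (i := n.toNat) (show (n.toNat : ℤ) = n by omega)]
    simp [← Functor.map_comp]
    exact ((G.map_comp _ _).symm.trans (congrArg G.map (Iso.inv_hom_id_assoc _ _).symm)).trans (G.map_comp _ _)
  · exact (HomologicalComplex.isZero_extend_X _ ComplexShape.embeddingUpNat n
      (fun k hk => hn (by simp at hk; omega))).eq_of_src _ _

theorem natZ_naturality {K L : CochainComplex A ℕ} (a : K ⟶ L) (q : ℕ) :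
    homologyMap ((G.mapHomologicalComplex (ComplexShape.up ℕ)).map a) q ≫ (natZ G L q).hom =
      (natZ G K q).hom ≫ homologyMap ((G.mapHomologicalComplex (ComplexShape.up ℤ)).map
        (HomologicalComplex.extendMap a ComplexShape.embeddingUpNat)) (q : ℤ) := by
  simp only [natZ, Iso.trans_hom, Iso.symm_hom, Functor.mapIso_hom, homologyFunctor_map, Category.assoc]
  rw [← homologyMap_comp, ← mapExtendIso_naturality, homologyMap_comp, ← Category.assoc, ← Category.assoc]
  refine congrArg (· ≫ _) ?_
  rw [Iso.comp_inv_eq, Category.assoc, extendHomologyIso_hom_naturality, Iso.inv_hom_id_assoc]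

end Map

instance isKInjective_cochainComplex {X : A} (R : InjectiveResolution X) :
    CochainComplex.IsKInjective R.cochainComplex :=
  CochainComplex.isKInjective_of_injective R.cochainComplex 0

section Der

variable [HasInjectiveResolutions A] {B : Type u'} [Category.{v'} B] [Abelian B] (G : A ⥤ B) [G.Additive]

/-- A chosen comparison from the chosen injective resolution. -/
noncomputable def resMap {X : A} (I : CochainComplex A ℤ) [I.IsKInjective] (r : (sgl A).obj X ⟶ I) :
    (injectiveResolution X).cochainComplex ⟶ I :=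
  (exists_hq_factor (injectiveResolution X).ι' r).choose

theorem resMap_spec {X : A} (I : CochainComplex A ℤ) [I.IsKInjective] (r : (sgl A).obj X ⟶ I) :
    (hq A).map ((injectiveResolution X).ι' ≫ resMap I r) = (hq A).map r :=
  (exists_hq_factor (injectiveResolution X).ι' r).choose_spec

theorem quasiIso_of_hq_eq {K L : CochainComplex A ℤ} {a b : K ⟶ L} (h : (hq A).map a = (hq A).map b) [QuasiIso b] :
    QuasiIso a := by
  refine ⟨fun q => ?_⟩
  rw [quasiIsoAt_iff_isIso_homologyMap, (HomotopyCategory.homotopyOfEq _ _ h).homologyMap_eq q,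
    ← quasiIsoAt_iff_isIso_homologyMap]
  infer_instance

instance quasiIso_resMap {X : A} (I : CochainComplex A ℤ) [I.IsKInjective] (r : (sgl A).obj X ⟶ I) [QuasiIso r] :
    QuasiIso (resMap I r) :=
  have := quasiIso_of_hq_eq (resMap_spec I r)
  quasiIso_of_comp_left (injectiveResolution X).ι' (resMap I r)

/-- The derived functor computed on a K-injective resolution. -/
noncomputable def isoZ {X : A} (I : CochainComplex A ℤ) [I.IsKInjective] (r : (sgl A).obj X ⟶ I) [QuasiIso r]
    (q : ℕ) : (G.rightDerived q).obj X ≅ ((G.mapHomologicalComplex (ComplexShape.up ℤ)).obj I).homology (q : ℤ) :=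
  (injectiveResolution X).isoRightDerivedObj G q ≪≫ natZ G (injectiveResolution X).cocomplex q ≪≫
    (haveI := quasiIso_map_of_kInjective G (resMap I r)
     isoOfQuasiIsoAt ((G.mapHomologicalComplex (ComplexShape.up ℤ)).map (resMap I r)) (q : ℤ))

theorem isoZ_hom {X : A} (I : CochainComplex A ℤ) [I.IsKInjective] (r : (sgl A).obj X ⟶ I) [QuasiIso r] (q : ℕ) :
    (isoZ G I r q).hom = ((injectiveResolution X).isoRightDerivedObj G q).hom ≫
      (natZ G (injectiveResolution X).cocomplex q).hom ≫
      homologyMap ((G.mapHomologicalComplex (ComplexShape.up ℤ)).map (resMap I r)) (q : ℤ) :=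
  rfl

/-- Naturality of `isoZ`. -/
theorem isoZ_naturality {X X' : A} (f : X ⟶ X') (I I' : CochainComplex A ℤ) [I.IsKInjective] [I'.IsKInjective]
    (r : (sgl A).obj X ⟶ I) [QuasiIso r] (r' : (sgl A).obj X' ⟶ I') [QuasiIso r'] (a : I ⟶ I')
    (ha : (hq A).map (r ≫ a) = (hq A).map ((sgl A).map f ≫ r')) (q : ℕ) :
    (G.rightDerived q).map f ≫ (isoZ G I' r' q).hom =
      (isoZ G I r q).hom ≫ homologyMap ((G.mapHomologicalComplex (ComplexShape.up ℤ)).map a) (q : ℤ) := by
  let R := injectiveResolution X
  let R' := injectiveResolution X'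
  let d : InjectiveResolution.Hom R R' f :=
    { hom := InjectiveResolution.desc f R' R
      ι_f_zero_comp_hom_f_zero := by
        simpa using InjectiveResolution.desc_commutes_zero f R' R }
  have e : (hq A).map (d.hom' ≫ resMap I' r') = (hq A).map (resMap I r ≫ a) := by
    refine hq_eq_of_qis R.ι' ?_
    rw [← Category.assoc, d.ι'_comp_hom', Category.assoc, ← Category.assoc R.ι', Functor.map_comp,
      resMap_spec, Functor.map_comp _ (R.ι' ≫ resMap I r), resMap_spec, ← Functor.map_comp, ← Functor.map_comp, ha]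
  have e' := homologyMap_map_eq G e (q : ℤ)
  rw [Functor.map_comp, Functor.map_comp, homologyMap_comp, homologyMap_comp] at e'
  rw [isoZ_hom, isoZ_hom, reassoc_of% (InjectiveResolution.isoRightDerivedObj_hom_naturality f R R'
      (InjectiveResolution.desc f R' R) (InjectiveResolution.desc_commutes_zero f R' R) G q)]
  simp only [Category.assoc]
  refine congrArg (_ ≫ ·) ?_
  refine ((reassoc_of% (natZ_naturality G (InjectiveResolution.desc f R' R) q)) _).trans (congrArg (_ ≫ ·) ?_)
  exact e'

end Der

section Grothendieck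

variable [IsGrothendieckAbelian.{v} A]

/-- A monomorphism extends to a monomorphism of injective K-injective resolutions. -/
theorem exists_res_mono {M N I : CochainComplex A ℤ} (u : M ⟶ N) [Mono u] (a : M ⟶ I) [Mono a] [QuasiIso a] :
    ∃ (I' : CochainComplex A ℤ) (b : N ⟶ I') (i : I ⟶ I'),
      I'.IsKInjective ∧ (∀ n, Injective (I'.X n)) ∧ Mono b ∧ QuasiIso b ∧ Mono i ∧ a ≫ i = u ≫ b := by
  obtain ⟨I', c, hI', hc, hm, hinj⟩ := CohDer42.exists_kinjective_resolution (pushout a u)
  obtain ⟨hm', hq'⟩ := CohDer42.mono_quasiIso_of_isPushout (IsPushout.of_hasPushout a u)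
  have : Mono c := HomologicalComplex.mono_of_mono_f _ hm
  have : Mono (pushout.inl a u) := Abelian.mono_inl_of_isColimit a u (colimit.isColimit _)
  exact ⟨I', pushout.inr a u ≫ c, pushout.inl a u ≫ c, hI', hinj, inferInstance, inferInstance, inferInstance,
    by rw [← Category.assoc, pushout.condition, Category.assoc]⟩

/-- A short exact sequence of complexes embeds in one of injective K-injective resolutions. -/
theorem exists_res_shortExact {S : ShortComplex (CochainComplex A ℤ)} (hS : S.ShortExact) :
    ∃ (T : ShortComplex (CochainComplex A ℤ)) (φ : S ⟶ T), T.ShortExact ∧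
      QuasiIso φ.τ₁ ∧ QuasiIso φ.τ₂ ∧ QuasiIso φ.τ₃ ∧
      T.X₁.IsKInjective ∧ T.X₂.IsKInjective ∧ T.X₃.IsKInjective ∧
      (∀ n, Injective (T.X₁.X n)) := by
  obtain ⟨I₁, a, hK₁, ha, ham, hI₁⟩ := CohDer42.exists_kinjective_resolution S.X₁
  have : Mono a := HomologicalComplex.mono_of_mono_f _ ham
  have := hS.mono_f
  obtain ⟨I₂, b, i, hI₂, hinj, hb, hbq, hi, hcomm⟩ := exists_res_mono S.f a
  let φ : S ⟶ CohDer42.FilKInj.cokSC i :=
    { τ₁ := a
      τ₂ := b
      τ₃ := hS.gIsCokernel.desc (CokernelCofork.ofπ (b ≫ cokernel.π i)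
        (by rw [← Category.assoc, ← hcomm, Category.assoc, cokernel.condition, comp_zero]))
      comm₁₂ := hcomm
      comm₂₃ := (hS.gIsCokernel.fac (CokernelCofork.ofπ (b ≫ cokernel.π i)
        (by rw [← Category.assoc, ← hcomm, Category.assoc, cokernel.condition, comp_zero])) WalkingParallelPair.one).symm }
  have h3 : QuasiIso φ.τ₃ :=
    HomologicalComplex.HomologySequence.quasiIso_τ₃ φ hS (CohDer42.FilKInj.cokSC_shortExact i)
      (inferInstanceAs (QuasiIso a)) hbq
  exact ⟨CohDer42.FilKInj.cokSC i, φ, CohDer42.FilKInj.cokSC_shortExact i, ha, hbq, h3, hK₁,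
    hI₂, CohDer42.FilKInj.isKInjective_cokernel i hI₁, hI₁⟩

end Grothendieck

end Groth.Agent.EtBC48
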