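import Groth.Agent.EtBC48.Derived
import Groth.Agent.EtBC48.Res

/-!
Base change maps of higher direct images are natural and compatible with connecting morphisms.
-/

universe w₁ w₃ v₁ v₂ v₃ v₄ u₁ u₂ u₃ u₄

set_option autoImplicit false
set_option backward.isDefEq.respectTransparency.types false

open CategoryTheory CategoryTheory.Limits HomologicalComplex

namespace Groth.Agent.EtBC48

theorem conj_iso_exact {C : Type*} [Category C] [Abelian C] {X₁ X₂ X₃ Y₁ Y₂ Y₃ : C} {f : X₁ ⟶ X₂} {g : X₂ ⟶ X₃}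
    {f' : Y₁ ⟶ Y₂} {g' : Y₂ ⟶ Y₃} {w : f' ≫ g' = 0} (e₁ : X₁ ≅ Y₁) (e₂ : X₂ ≅ Y₂) (e₃ : X₃ ≅ Y₃)
    (hf : f ≫ e₂.hom = e₁.hom ≫ f') (hg : g ≫ e₃.hom = e₂.hom ≫ g') (h : (ShortComplex.mk f' g' w).Exact) :
    ∃ w' : f ≫ g = 0, (ShortComplex.mk f g w').Exact := by
  have w' : f ≫ g = 0 := by
    rw [← cancel_mono e₃.hom, Category.assoc, hg, reassoc_of% hf, w, comp_zero, zero_comp]
  exact ⟨w', (ShortComplex.exact_iff_of_iso (ShortComplex.isoMk (S₁ := ShortComplex.mk f g w')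
    (S₂ := ShortComplex.mk f' g' w) e₁ e₂ e₃ hf.symm hg.symm)).2 h⟩

theorem cat5 {C : Type*} [Category C] {A₁ A₂ A₃ A₄ A₅ A₆ : C} (a : A₁ ⟶ A₂) (b : A₂ ⟶ A₃) (c : A₃ ⟶ A₄)
    (d : A₄ ⟶ A₅) (e : A₅ ⟶ A₆) : (a ≫ b ≫ c ≫ d) ≫ e = (a ≫ b) ≫ (c ≫ d) ≫ e := by
  simp only [Category.assoc]

theorem hom3_congr {C C' D : Type*} [Category C] [Category C'] [Category D] (Q : C' ⥤ D) (L : C ⥤ C') {Z : C'}
    {A₁ A₂ A₃ : C} (s : Z ⟶ L.obj A₁) (a : A₁ ⟶ A₂) (b : A₂ ⟶ A₃) (r : A₁ ⟶ A₃) {T : C'} (φ : L.obj A₃ ⟶ T)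
    (h : Q.map (L.map (a ≫ b)) = Q.map (L.map r)) :
    Q.map (s ≫ L.map r ≫ φ) = Q.map ((s ≫ L.map a) ≫ L.map b ≫ φ) := by
  rw [Q.map_comp, Q.map_comp, ← h, Category.assoc, ← L.map_comp_assoc, Q.map_comp, Q.map_comp]

theorem cancel₄ {C D : Type*} [Category C] [Category D] (L : C ⥤ D) {X Y Z : C} {X' Y' Z' W : D}
    (s : X' ⟶ L.obj X) (si : X ⟶ Y) (sh : Y ⟶ X) (a : X ⟶ Z) {E : C} (ei : Z ⟶ E) (eh : E ⟶ Z) (fi : L.obj Z ⟶ Y')
    (fh : Y' ⟶ L.obj Z) (φ : L.obj Z ⟶ Z') (e : Z' ⟶ W) (h₁ : si ≫ sh = 𝟙 _) (h₂ : ei ≫ eh = 𝟙 _)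
    (h₃ : fi ≫ fh = 𝟙 _) :
    (s ≫ L.map si) ≫ L.map (sh ≫ a ≫ ei) ≫ (L.map eh ≫ fi) ≫ fh ≫ φ ≫ e = s ≫ L.map a ≫ φ ≫ e := by
  simp only [Category.assoc]
  rw [reassoc_of% h₃, ← L.map_comp_assoc, ← L.map_comp_assoc]
  simp only [Category.assoc]
  rw [reassoc_of% h₁, h₂, Category.comp_id]

theorem sq_chain {C C' D : Type*} [Category C] [Category C'] [Category D] (Q : C' ⥤ D) (L : C ⥤ C') {Z Z' : C'}
    {P P' I I' : C} {J J' : C'} (s : Z ⟶ L.obj P) (s' : Z' ⟶ L.obj P') (ι : P ⟶ I) (a : I ⟶ I') (f : P ⟶ P')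
    (ι' : P' ⟶ I') (φ : L.obj I ⟶ J) (φ' : L.obj I' ⟶ J') (r : Z ⟶ J) (r' : Z' ⟶ J') (b : J ⟶ J') (g : Z ⟶ Z')
    (hn : g ≫ s' = s ≫ L.map f) (h2 : Q.map (L.map (ι ≫ a)) = Q.map (L.map (f ≫ ι')))
    (hφ : Q.map (s ≫ L.map ι ≫ φ) = Q.map r) (hφ' : Q.map (s' ≫ L.map ι' ≫ φ') = Q.map r')
    (hb : Q.map (r ≫ b) = Q.map (g ≫ r')) :
    Q.map ((s ≫ L.map ι) ≫ L.map a ≫ φ') = Q.map ((s ≫ L.map ι) ≫ φ ≫ b) := by
  have e1 : Q.map ((s ≫ L.map ι) ≫ φ ≫ b) = Q.map (g ≫ s' ≫ L.map ι' ≫ φ') := by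
    rw [← Category.assoc (s ≫ L.map ι), Category.assoc s, Q.map_comp _ b, hφ, ← Q.map_comp, hb, Q.map_comp, ← hφ',
      ← Q.map_comp]
  rw [e1, reassoc_of% hn, Category.assoc, ← L.map_comp_assoc, ← L.map_comp_assoc]
  simp only [Functor.map_comp Q]
  rw [h2]

theorem chain₃ {C : Type*} [Category C] {X₁ X₂ X₃ X₄ X₅ X₆ : C} {a : X₁ ⟶ X₂} {b : X₂ ⟶ X₃} {c : X₃ ⟶ X₄} {l : X₂ ⟶ X₆}
    {f : X₆ ⟶ X₄} {d : X₁ ⟶ X₅} {e : X₅ ⟶ X₆} (h₁ : b ≫ c = l ≫ f) (h₂ : a ≫ l = d ≫ e) :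
    (a ≫ b) ≫ c = d ≫ e ≫ f := by
  rw [Category.assoc, h₁, reassoc_of% h₂]

theorem cancel₂ {C D E : Type*} [Category C] [Category D] [Category E] (L : C ⥤ D) (P : D ⥤ E) {X Y : C} {Z W : D}
    (i : X ⟶ Y) (h : Y ⟶ X) (a : L.obj X ⟶ Z) (b : Z ⟶ W) (hi : i ≫ h = 𝟙 _) :
    P.map a ≫ P.map b = P.map (L.map i) ≫ P.map (L.map h) ≫ P.map a ≫ P.map b := by
  rw [← P.map_comp_assoc, ← L.map_comp, hi, L.map_id, P.map_id, Category.id_comp]

theorem sq_push {C C' : Type*} [Category C] [Category C'] (L : C ⥤ C') {P P' I I' : C} {Z Z' J J' : C'}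
    (s : Z ⟶ L.obj P) (s' : Z' ⟶ L.obj P') (r : P ⟶ I) (r' : P' ⟶ I') (χ : L.obj I ⟶ J) (χ' : L.obj I' ⟶ J')
    (a : I ⟶ I') (b : J ⟶ J') (f : P ⟶ P') (g : Z ⟶ Z') (hn : g ≫ s' = s ≫ L.map f) (h₁ : r ≫ a = f ≫ r')
    (h₂ : χ ≫ b = L.map a ≫ χ') : (s ≫ L.map r ≫ χ) ≫ b = g ≫ s' ≫ L.map r' ≫ χ' := by
  simp only [Category.assoc]
  rw [h₂, reassoc_of% hn, ← L.map_comp_assoc, h₁, L.map_comp_assoc]

theorem sq_nat {C D E : Type*} [Category C] [Category D] [Category E] {G H : C ⥤ E} (ν : G ⟶ H) (P : D ⥤ E) (L : C ⥤ D)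
    {I I' : C} {J J' : D} (a : I ⟶ I') (χ : L.obj I ⟶ J) (χ' : L.obj I' ⟶ J') (b : J ⟶ J')
    {x : G.obj I ⟶ P.obj (L.obj I)} {x' : G.obj I' ⟶ P.obj (L.obj I')}
    (hν : G.map a ≫ x' = x ≫ P.map (L.map a)) (h₂ : χ ≫ b = L.map a ≫ χ') :
    (x ≫ P.map χ) ≫ P.map b = G.map a ≫ x' ≫ P.map χ' := by
  rw [Category.assoc, ← P.map_comp, h₂, P.map_comp, reassoc_of% hν]

theorem ladder_sq {C : Type*} [Category C] {A A' B B' A₁ A₁' B₁ B₁' : C} {d : A ⟶ A'} {d' : B ⟶ B'} {x : A ⟶ B}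
    {x' : A' ⟶ B'} {t : A ⟶ A₁} {t' : A' ⟶ A₁'} {b : B ⟶ B₁} (b' : B' ≅ B₁') {h : A₁ ⟶ A₁'} {k : B₁ ⟶ B₁'}
    {y : A₁ ⟶ B₁} {y' : A₁' ⟶ B₁'} (hd : d ≫ t' = t ≫ h) (hd' : d' ≫ b'.hom = b ≫ k) (e' : x' ≫ b'.hom = t' ≫ y')
    (e : x ≫ b = t ≫ y) (hn : h ≫ y' = y ≫ k) : d ≫ x' = x ≫ d' := by
  rw [← cancel_mono b'.hom, Category.assoc, Category.assoc, e', hd', reassoc_of% hd, hn, reassoc_of% e]

theorem cancel_r {C : Type*} [Category C] {X Y Z W : C} (a : X ⟶ Y) (b : Y ⟶ Z) (e : W ≅ Z) :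
    (a ≫ b ≫ e.inv) ≫ e.hom = a ≫ b := by
  simp

/-- Exactness of two composable maps. -/
def IsEx {C : Type*} [Category C] [Abelian C] {X Y Z : C} (f : X ⟶ Y) (g : Y ⟶ Z) : Prop :=
  ∃ w : f ≫ g = 0, (ShortComplex.mk f g w).Exact

section Square

variable {CX : Type u₁} [Category.{v₁} CX] [Abelian CX] [HasInjectiveResolutions CX]
  {CS : Type u₂} [Category.{v₂} CS] [Abelian CS]
  {CX' : Type u₃} [Category.{v₃} CX'] [Abelian CX'] [HasInjectiveResolutions CX']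
  {CS' : Type u₄} [Category.{v₄} CS'] [Abelian CS']
  {Pf : CX ⥤ CS} {Pf' : CX' ⥤ CS'} {Lg : CS ⥤ CS'} {Pg : CS' ⥤ CS} {Lg' : CX ⥤ CX'} {Pg' : CX' ⥤ CX}
  [Pf.Additive] [Pf'.Additive] [Lg.Additive] [Pg.Additive] [Lg'.Additive] [Pg'.Additive]
  [PreservesFiniteLimits Pg] [Pg'.PreservesInjectiveObjects]
  [PreservesFiniteLimits Lg] [PreservesFiniteColimits Lg] [PreservesFiniteLimits Lg'] [PreservesFiniteColimits Lg']
  (aG : Lg ⊣ Pg) (aG' : Lg' ⊣ Pg') (σ : Pg' ⋙ Pf ≅ Pf' ⋙ Pg)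

/-- The base change map on complexes indexed by the integers. -/
noncomputable abbrev bcCxInt (K : CochainComplex CX ℤ) :
    ((Pf ⋙ Lg).mapHomologicalComplex (ComplexShape.up ℤ)).obj K ⟶
      (Pf'.mapHomologicalComplex (ComplexShape.up ℤ)).obj ((Lg'.mapHomologicalComplex (ComplexShape.up ℤ)).obj K) :=
  (NatTrans.mapHomologicalComplex (bcNat aG aG' σ.hom) (ComplexShape.up ℤ)).app K

variable (Pf Lg) in
/-- The source of the base change map computed on the chosen resolution. -/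
noncomputable def topIso₀ (F : CX) (q : ℕ) :
    Lg.obj ((Pf.rightDerived q).obj F) ≅
      (((Pf ⋙ Lg).mapHomologicalComplex (ComplexShape.up ℕ)).obj (injectiveResolution F).cocomplex).homology q :=
  Lg.mapIso ((injectiveResolution F).isoRightDerivedObj Pf q) ≪≫ (mhi Lg _ q).symm

variable (Pf Lg) in
/-- The source of the base change map computed on a resolution. -/
noncomputable def topIso {F : CX} (I : CochainComplex CX ℤ) [I.IsKInjective] (r : (sgl CX).obj F ⟶ I) [QuasiIso r]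
    (q : ℕ) : Lg.obj ((Pf.rightDerived q).obj F) ≅
      (((Pf ⋙ Lg).mapHomologicalComplex (ComplexShape.up ℤ)).obj I).homology (q : ℤ) :=
  topIso₀ Pf Lg F q ≪≫ ((injectiveResolution F).isoRightDerivedObj (Pf ⋙ Lg) q).symm ≪≫ isoZ (Pf ⋙ Lg) I r q

variable (Pf Lg) in
theorem topIso₀_naturality {F F' : CX} (f : F ⟶ F') (q : ℕ) :
    Lg.map ((Pf.rightDerived q).map f) ≫ (topIso₀ Pf Lg F' q).hom =
      (topIso₀ Pf Lg F q).hom ≫ homologyMap (((Pf ⋙ Lg).mapHomologicalComplex (ComplexShape.up ℕ)).map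
        (InjectiveResolution.desc f (injectiveResolution F') (injectiveResolution F))) q := by
  simp only [topIso₀, Iso.trans_hom, Functor.mapIso_hom, Iso.symm_hom, Category.assoc]
  let d := InjectiveResolution.desc f (injectiveResolution F') (injectiveResolution F)
  refine (Lg.map_comp_assoc _ _ _).symm.trans ((congrArg (fun t => Lg.map t ≫ _)
    (InjectiveResolution.isoRightDerivedObj_hom_naturality f (injectiveResolution F) (injectiveResolution F') d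
      (InjectiveResolution.desc_commutes_zero _ _ _) Pf q)).trans ((Lg.map_comp_assoc _ _ _).trans ?_))
  refine congrArg (Lg.map _ ≫ ·) ?_
  rw [Iso.comp_inv_eq, Category.assoc, Iso.eq_inv_comp]
  exact (ShortComplex.mapHomologyIso_hom_naturality
    ((shortComplexFunctor _ (ComplexShape.up ℕ) q).map ((Pf.mapHomologicalComplex (ComplexShape.up ℕ)).map d)) Lg).symm

variable (Pf Lg) in
theorem topIso_naturality {F F' : CX} (f : F ⟶ F') (I I' : CochainComplex CX ℤ) [I.IsKInjective] [I'.IsKInjective]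
    (r : (sgl CX).obj F ⟶ I) [QuasiIso r] (r' : (sgl CX).obj F' ⟶ I') [QuasiIso r'] (a : I ⟶ I')
    (ha : (hq CX).map (r ≫ a) = (hq CX).map ((sgl CX).map f ≫ r')) (q : ℕ) :
    Lg.map ((Pf.rightDerived q).map f) ≫ (topIso Pf Lg I' r' q).hom =
      (topIso Pf Lg I r q).hom ≫ homologyMap (((Pf ⋙ Lg).mapHomologicalComplex (ComplexShape.up ℤ)).map a) (q : ℤ) := by
  simp only [topIso, Iso.trans_hom, Iso.symm_hom, Category.assoc]
  rw [← isoZ_naturality (Pf ⋙ Lg) f I I' r r' a ha q, ← Category.assoc, topIso₀_naturality, Category.assoc]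
  refine congrArg (_ ≫ ·) ?_
  rw [← Category.assoc, ← Category.assoc]
  refine congrArg (· ≫ _) ?_
  rw [Iso.comp_inv_eq, Category.assoc]
  exact ((congrArg (_ ≫ ·) (InjectiveResolution.isoRightDerivedObj_hom_naturality f
    (injectiveResolution F) (injectiveResolution F') _ (InjectiveResolution.desc_commutes_zero _ _ _) (Pf ⋙ Lg) q)).trans
      (Iso.inv_hom_id_assoc _ _)).symm

/-- The complex in degree zero commutes with a functor. -/
noncomputable abbrev sglMap {A : Type*} [Category A] [Abelian A] {B : Type*} [Category B] [Abelian B]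
    (L : A ⥤ B) [L.Additive] (X : A) :
    (sgl B).obj (L.obj X) ⟶ (L.mapHomologicalComplex (ComplexShape.up ℤ)).obj ((sgl A).obj X) :=
  (HomologicalComplex.singleMapHomologicalComplex L (ComplexShape.up ℤ) 0).inv.app X

theorem extend_bcCx {K : CochainComplex CX ℕ} {K' : CochainComplex CX' ℕ}
    (φ : (Lg'.mapHomologicalComplex (ComplexShape.up ℕ)).obj K ⟶ K') :
    HomologicalComplex.extendMap (bcCx aG aG' σ K ≫ (Pf'.mapHomologicalComplex _).map φ) ComplexShape.embeddingUpNat ≫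
        (CohDer42.mapExtendIso Pf' K').hom =
      (CohDer42.mapExtendIso (Pf ⋙ Lg) K).hom ≫ bcCxInt aG aG' σ (K.extend ComplexShape.embeddingUpNat) ≫
        (Pf'.mapHomologicalComplex (ComplexShape.up ℤ)).map
          ((CohDer42.mapExtendIso Lg' K).inv ≫ HomologicalComplex.extendMap φ ComplexShape.embeddingUpNat) := by
  ext n
  by_cases hn : 0 ≤ n
  · have hb := bcM_natural aG aG' σ.hom
      (K.extendXIso ComplexShape.embeddingUpNat (i := n.toNat) (show (n.toNat : ℤ) = n by omega)).inv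
    simp only [HomologicalComplex.comp_f, Functor.mapHomologicalComplex_map_f, CohDer42.mapExtendIso,
      HomologicalComplex.Hom.isoOfComponents_hom_f, HomologicalComplex.Hom.isoOfComponents_inv_f, dif_pos hn,
      Iso.trans_hom, Iso.trans_inv, Functor.mapIso_hom, Functor.mapIso_inv, Iso.symm_hom, Iso.symm_inv,
      Category.assoc, NatTrans.mapHomologicalComplex_app_f, bcNat_app]
    rw [HomologicalComplex.extendMap_f _ _ (i := n.toNat) (show (n.toNat : ℤ) = n by omega),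
      HomologicalComplex.extendMap_f _ _ (i := n.toNat) (show (n.toNat : ℤ) = n by omega)]
    simp only [Functor.comp_map, Functor.map_comp, Category.assoc, Iso.inv_hom_id_assoc, HomologicalComplex.comp_f,
      Functor.mapHomologicalComplex_map_f, NatTrans.mapHomologicalComplex_app_f, bcNat_app]
    refine congrArg (_ ≫ ·) ?_
    refine Eq.trans (congrArg (bcM aG aG' σ.hom (K.X n.toNat) ≫ ·) ?_) ((reassoc_of% hb) _).symm
    exact cancel₂ Lg' Pf' _ _ _ _ (Iso.inv_hom_id _)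
  · exact (HomologicalComplex.isZero_extend_X _ ComplexShape.embeddingUpNat n
      (fun k hk => hn (by simp at hk; omega))).eq_of_src _ _

variable {F : CX}

theorem sglMap_ι' (R : InjectiveResolution F) (R' : InjectiveResolution (Lg'.obj F))
    (φ : (Lg'.mapHomologicalComplex (ComplexShape.up ℕ)).obj R.cocomplex ⟶ R'.cocomplex)
    (hφ : Lg'.map (R.ι.f 0) ≫ φ.f 0 = R'.ι.f 0) :
    sglMap Lg' F ≫ (Lg'.mapHomologicalComplex (ComplexShape.up ℤ)).map R.ι' ≫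
      (CohDer42.mapExtendIso Lg' R.cocomplex).inv ≫ HomologicalComplex.extendMap φ ComplexShape.embeddingUpNat =
        R'.ι' := by
  refine HomologicalComplex.from_single_hom_ext ?_
  simp only [HomologicalComplex.comp_f, Functor.mapHomologicalComplex_map_f, InjectiveResolution.ι'_f_zero,
    CohDer42.mapExtendIso, HomologicalComplex.Hom.isoOfComponents_inv_f, dif_pos (le_refl (0 : ℤ)),
    HomologicalComplex.singleMapHomologicalComplex_inv_app_self, Iso.trans_inv, Functor.mapIso_inv,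
    Iso.symm_inv, Category.assoc]
  rw [HomologicalComplex.extendMap_f φ ComplexShape.embeddingUpNat (i := 0) (i' := (0 : ℤ)) (by simp), ← hφ]
  simp only [InjectiveResolution.cochainComplexXIso, Category.assoc]
  exact (cancel₄ Lg' _ _ _ _ _ _ _ _ _ _ (Iso.inv_hom_id _) (Iso.inv_hom_id _) (Iso.inv_hom_id _)).trans
    (congrArg (_ ≫ ·) (Category.assoc _ _ _).symm)

/-- The base change map computed on arbitrary resolutions. -/
theorem bcD_topIso (q : ℕ) (I : CochainComplex CX ℤ) [I.IsKInjective] (r : (sgl CX).obj F ⟶ I) [QuasiIso r]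
    (J : CochainComplex CX' ℤ) [J.IsKInjective] (φ : (Lg'.mapHomologicalComplex (ComplexShape.up ℤ)).obj I ⟶ J)
    (r' : (sgl CX').obj (Lg'.obj F) ⟶ J) [QuasiIso r']
    (hr : (hq CX').map (sglMap Lg' F ≫ (Lg'.mapHomologicalComplex _).map r ≫ φ) = (hq CX').map r') :
    bcD aG aG' σ q F ≫ (isoZ Pf' J r' q).hom =
      (topIso Pf Lg I r q).hom ≫
        homologyMap (bcCxInt aG aG' σ I ≫ (Pf'.mapHomologicalComplex _).map φ) (q : ℤ) := by
  let R := injectiveResolution F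
  let R' := injectiveResolution (Lg'.obj F)
  obtain ⟨φ₀, hφ₀⟩ := exists_lift (Lg' := Lg') R R'
  let φ₁ := (CohDer42.mapExtendIso Lg' R.cocomplex).inv ≫ HomologicalComplex.extendMap φ₀ ComplexShape.embeddingUpNat
  have e : (hq CX').map (φ₁ ≫ resMap J r') =
      (hq CX').map ((Lg'.mapHomologicalComplex _).map (resMap I r) ≫ φ) := by
    have : IsIso (sglMap Lg' F) := ((HomologicalComplex.singleMapHomologicalComplex Lg' (ComplexShape.up ℤ) 0).app F).isIso_inv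
    have : QuasiIso ((Lg'.mapHomologicalComplex (ComplexShape.up ℤ)).map R.ι') := inferInstance
    have : QuasiIso (sglMap Lg' F ≫ (Lg'.mapHomologicalComplex (ComplexShape.up ℤ)).map R.ι') := inferInstance
    refine hq_eq_of_qis (sglMap Lg' F ≫ (Lg'.mapHomologicalComplex _).map R.ι') ?_
    have h1 : (sglMap Lg' F ≫ (Lg'.mapHomologicalComplex _).map R.ι') ≫ φ₁ ≫ resMap J r' = R'.ι' ≫ resMap J r' := by
      rw [← sglMap_ι' R R' φ₀ hφ₀]
      exact (cat5 _ _ _ _ _).symm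
    have h2 : (hq CX').map ((Lg'.mapHomologicalComplex _).map (R.ι' ≫ resMap I r)) =
        (hq CX').map ((Lg'.mapHomologicalComplex _).map r) :=
      congrArg (Lg'.mapHomotopyCategory (ComplexShape.up ℤ)).map (resMap_spec I r)
    refine (congrArg (hq CX').map h1).trans ((resMap_spec J r').trans (hr.symm.trans ?_))
    exact hom3_congr (hq CX') (Lg'.mapHomologicalComplex (ComplexShape.up ℤ)) _ R.ι' (resMap I r) r φ h2
  have e' := homologyMap_map_eq Pf' e (q : ℤ)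
  rw [bcD_eq aG aG' σ q R R' φ₀ hφ₀, isoZ_hom]
  simp only [topIso, topIso₀, Iso.trans_hom, Iso.symm_hom, Functor.mapIso_hom, Category.assoc, isoZ_hom,
    Iso.inv_hom_id_assoc]
  refine congrArg (fun t => Lg.map _ ≫ (mhi Lg _ q).inv ≫ t) ?_
  have e₂ : homologyMap (bcCx aG aG' σ R.cocomplex ≫ (Pf'.mapHomologicalComplex _).map φ₀) q ≫
      (natZ Pf' R'.cocomplex q).hom = (natZ (Pf ⋙ Lg) R.cocomplex q).hom ≫
        homologyMap (bcCxInt aG aG' σ R.cochainComplex ≫ (Pf'.mapHomologicalComplex _).map φ₁) (q : ℤ) := by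
    simp only [natZ, Iso.trans_hom, Iso.symm_hom, Functor.mapIso_hom, homologyFunctor_map, Category.assoc]
    refine Eq.trans ?_ (congrArg (_ ≫ ·) (((congrArg (fun t => homologyMap t (q : ℤ))
      (extend_bcCx aG aG' σ φ₀)).trans (homologyMap_comp _ _ _)).symm.trans (homologyMap_comp _ _ _))).symm
    rw [← Category.assoc, ← Category.assoc]
    refine congrArg (· ≫ _) ?_
    rw [Iso.comp_inv_eq, Category.assoc, extendHomologyIso_hom_naturality]
    exact (Iso.inv_hom_id_assoc _ _).symm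
  refine (congrArg (_ ≫ ·) (Iso.inv_hom_id_assoc _ _)).trans (Eq.trans ?_ (Iso.inv_hom_id_assoc _ _).symm)
  refine ((reassoc_of% e₂) _).trans ?_
  refine (Category.assoc _ _ _).trans (congrArg (_ ≫ ·) ?_)
  have e₃ := (NatTrans.mapHomologicalComplex (bcNat aG aG' σ.hom) (ComplexShape.up ℤ)).naturality (resMap I r)
  simp only [Functor.map_comp, homologyMap_comp] at e' ⊢
  exact chain₃ (e'.trans (((congrArg (fun t => homologyMap t (q : ℤ)) ((Pf'.mapHomologicalComplex _).map_comp _ _))).trans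
    (homologyMap_comp _ _ _))) (((homologyMap_comp _ _ _).symm.trans (congrArg (fun t => homologyMap t (q : ℤ)) e₃.symm)).trans
    (homologyMap_comp _ _ _))

/-- Naturality through resolutions. -/
theorem bcD_square (q : ℕ) {F' : CX} (f : F ⟶ F') (I : CochainComplex CX ℤ) [I.IsKInjective]
    (r : (sgl CX).obj F ⟶ I) [QuasiIso r] (I' : CochainComplex CX ℤ) [I'.IsKInjective]
    (r₁ : (sgl CX).obj F' ⟶ I') [QuasiIso r₁] (a : I ⟶ I')
    (ha : (hq CX).map (r ≫ a) = (hq CX).map ((sgl CX).map f ≫ r₁))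
    (J : CochainComplex CX' ℤ) [J.IsKInjective] (r' : (sgl CX').obj (Lg'.obj F) ⟶ J) [QuasiIso r']
    (φ : (Lg'.mapHomologicalComplex (ComplexShape.up ℤ)).obj I ⟶ J)
    (hφ : (hq CX').map (sglMap Lg' F ≫ (Lg'.mapHomologicalComplex _).map r ≫ φ) = (hq CX').map r')
    (J' : CochainComplex CX' ℤ) [J'.IsKInjective] (r₁' : (sgl CX').obj (Lg'.obj F') ⟶ J') [QuasiIso r₁']
    (φ' : (Lg'.mapHomologicalComplex (ComplexShape.up ℤ)).obj I' ⟶ J')
    (hφ' : (hq CX').map (sglMap Lg' F' ≫ (Lg'.mapHomologicalComplex _).map r₁ ≫ φ') = (hq CX').map r₁')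
    (b : J ⟶ J') (hb : (hq CX').map (r' ≫ b) = (hq CX').map ((sgl CX').map (Lg'.map f) ≫ r₁'))
    (hsq : (hq CX').map ((Lg'.mapHomologicalComplex _).map a ≫ φ') = (hq CX').map (φ ≫ b)) :
    Lg.map ((Pf.rightDerived q).map f) ≫ bcD aG aG' σ q F' =
      bcD aG aG' σ q F ≫ (Pf'.rightDerived q).map (Lg'.map f) := by
  rw [← cancel_mono (isoZ Pf' J' r₁' q).hom, Category.assoc, Category.assoc,
    bcD_topIso aG aG' σ q I' r₁ J' φ' r₁' hφ', isoZ_naturality Pf' (Lg'.map f) J J' r' r₁' b hb q,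
    reassoc_of% (bcD_topIso aG aG' σ q I r J φ r' hφ), reassoc_of% (topIso_naturality Pf Lg f I I' r r₁ a ha q)]
  refine congrArg (_ ≫ ·) ?_
  have e := homologyMap_map_eq Pf' hsq (q : ℤ)
  have hn := (NatTrans.mapHomologicalComplex (bcNat aG aG' σ.hom) (ComplexShape.up ℤ)).naturality a
  rw [Functor.map_comp, Functor.map_comp, homologyMap_comp, homologyMap_comp] at e
  rw [homologyMap_comp, homologyMap_comp, Category.assoc, ← e, ← homologyMap_comp_assoc, ← homologyMap_comp_assoc]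
  exact congrArg (fun t => homologyMap t (q : ℤ) ≫ _) hn

/-- The resolution of an inverse image attached to a resolution. -/
theorem exists_pullRes (I : CochainComplex CX ℤ) (r : (sgl CX).obj F ⟶ I) [QuasiIso r] :
    ∃ (φ : (Lg'.mapHomologicalComplex (ComplexShape.up ℤ)).obj I ⟶ (injectiveResolution (Lg'.obj F)).cochainComplex),
      (hq CX').map (sglMap Lg' F ≫ (Lg'.mapHomologicalComplex _).map r ≫ φ) =
        (hq CX').map (injectiveResolution (Lg'.obj F)).ι' := by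
  have : IsIso (sglMap Lg' F) :=
    ((HomologicalComplex.singleMapHomologicalComplex Lg' (ComplexShape.up ℤ) 0).app F).isIso_inv
  obtain ⟨φ, hφ⟩ := exists_hq_factor (sglMap Lg' F ≫ (Lg'.mapHomologicalComplex _).map r)
    (injectiveResolution (Lg'.obj F)).ι'
  exact ⟨φ, (congrArg (hq CX').map (Category.assoc _ _ _).symm).trans hφ⟩

/-- Base change maps are natural. -/
theorem bcD_natural (q : ℕ) {F' : CX} (f : F ⟶ F') :
    Lg.map ((Pf.rightDerived q).map f) ≫ bcD aG aG' σ q F' =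
      bcD aG aG' σ q F ≫ (Pf'.rightDerived q).map (Lg'.map f) := by
  let R := injectiveResolution F
  let R' := injectiveResolution F'
  let S := injectiveResolution (Lg'.obj F)
  let S' := injectiveResolution (Lg'.obj F')
  obtain ⟨a, ha⟩ := exists_hq_factor R.ι' ((sgl CX).map f ≫ R'.ι')
  obtain ⟨b, hb⟩ := exists_hq_factor S.ι' ((sgl CX').map (Lg'.map f) ≫ S'.ι')
  obtain ⟨φ, hφ⟩ := exists_pullRes (Lg' := Lg') R.cochainComplex R.ι'
  obtain ⟨φ', hφ'⟩ := exists_pullRes (Lg' := Lg') R'.cochainComplex R'.ι'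
  have : IsIso (sglMap Lg' F) :=
    ((HomologicalComplex.singleMapHomologicalComplex Lg' (ComplexShape.up ℤ) 0).app F).isIso_inv
  have hsq : (hq CX').map ((Lg'.mapHomologicalComplex _).map a ≫ φ') = (hq CX').map (φ ≫ b) := by
    refine hq_eq_of_qis (sglMap Lg' F ≫ (Lg'.mapHomologicalComplex _).map R.ι') ?_
    have hn := (HomologicalComplex.singleMapHomologicalComplex Lg' (ComplexShape.up ℤ) 0).inv.naturality f
    have h2 : (hq CX').map ((Lg'.mapHomologicalComplex _).map (R.ι' ≫ a)) =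
        (hq CX').map ((Lg'.mapHomologicalComplex _).map ((sgl CX).map f ≫ R'.ι')) :=
      congrArg (Lg'.mapHomotopyCategory (ComplexShape.up ℤ)).map ha
    exact sq_chain (hq CX') (Lg'.mapHomologicalComplex (ComplexShape.up ℤ)) (sglMap Lg' F) (sglMap Lg' F') R.ι' a
      ((sgl CX).map f) R'.ι' φ φ' S.ι' S'.ι' b ((sgl CX').map (Lg'.map f)) hn h2 hφ hφ' hb
  exact bcD_square aG aG' σ q f R.cochainComplex R.ι' R'.cochainComplex R'.ι' a ha S.cochainComplex S.ι' φ hφ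
    S'.cochainComplex S'.ι' φ' hφ' b hb hsq

theorem shortExact_map_of_split {A : Type*} [Category A] [Abelian A] {B : Type*} [Category B] [Abelian B] (G : A ⥤ B)
    [G.Additive] {T : ShortComplex (CochainComplex A ℤ)} (hT : T.ShortExact) (hI : ∀ n, Injective (T.X₁.X n)) :
    (T.map (G.mapHomologicalComplex (ComplexShape.up ℤ))).ShortExact :=
  HomologicalComplex.shortExact_of_degreewise_shortExact _ fun n => by
    have : Injective (T.map (HomologicalComplex.eval A (ComplexShape.up ℤ) n)).X₁ := hI n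
    exact ((hT.map_of_exact (HomologicalComplex.eval A (ComplexShape.up ℤ) n)).splittingOfInjective.map G).shortExact

theorem shortExact_map_exact {A : Type*} [Category A] [Abelian A] {B : Type*} [Category B] [Abelian B] (G : A ⥤ B)
    [G.Additive] [PreservesFiniteLimits G] [PreservesFiniteColimits G] {T : ShortComplex (CochainComplex A ℤ)}
    (hT : T.ShortExact) : (T.map (G.mapHomologicalComplex (ComplexShape.up ℤ))).ShortExact :=
  HomologicalComplex.shortExact_of_degreewise_shortExact _ fun n =>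
    (hT.map_of_exact (HomologicalComplex.eval A (ComplexShape.up ℤ) n)).map_of_exact G

theorem shortExact_sgl {A : Type*} [Category A] [Abelian A] {S : ShortComplex A} (hS : S.ShortExact) :
    (S.map (sgl A)).ShortExact :=
  HomologicalComplex.shortExact_of_degreewise_shortExact _ fun n => by
    by_cases hn : n = 0
    · subst hn
      refine ShortComplex.shortExact_of_iso ?_ hS
      let e := fun X : A => (HomologicalComplex.singleObjXSelf (ComplexShape.up ℤ) (0 : ℤ) X).symm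
      exact ShortComplex.isoMk (S₂ := (S.map (sgl A)).map (HomologicalComplex.eval A (ComplexShape.up ℤ) 0))
        (e S.X₁) (e S.X₂) (e S.X₃)
        ((Iso.inv_comp_eq _).2 (HomologicalComplex.single_map_f_self (c := ComplexShape.up ℤ) (0 : ℤ) S.f))
        ((Iso.inv_comp_eq _).2 (HomologicalComplex.single_map_f_self (c := ComplexShape.up ℤ) (0 : ℤ) S.g))
    · have hz : ∀ X : A, IsZero (((sgl A).obj X).X n) := fun X => HomologicalComplex.isZero_single_obj_X _ 0 X n hn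
      exact
        { exact := ShortComplex.exact_of_isZero_X₂ _ (hz _)
          mono_f := mono_of_source_iso_zero _ (hz _).isoZero
          epi_g := epi_of_target_iso_zero _ (hz _).isoZero }

/-- Higher direct images of a short exact sequence and its base change: a commutative ladder with exact rows. -/
theorem exists_ladder [IsGrothendieckAbelian.{v₁} CX] [IsGrothendieckAbelian.{v₃} CX'] {S : ShortComplex CX}
    (hS : S.ShortExact) (n : ℕ) :
    ∃ (δ : Lg.obj ((Pf.rightDerived n).obj S.X₃) ⟶ Lg.obj ((Pf.rightDerived (n + 1)).obj S.X₁))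
      (δ' : (Pf'.rightDerived n).obj (Lg'.obj S.X₃) ⟶ (Pf'.rightDerived (n + 1)).obj (Lg'.obj S.X₁)),
      δ ≫ bcD aG aG' σ (n + 1) S.X₁ = bcD aG aG' σ n S.X₃ ≫ δ' ∧
      IsEx (Lg.map ((Pf.rightDerived n).map S.g)) δ ∧
      IsEx δ (Lg.map ((Pf.rightDerived (n + 1)).map S.f)) ∧
      (∀ q, IsEx (Lg.map ((Pf.rightDerived q).map S.f)) (Lg.map ((Pf.rightDerived q).map S.g))) ∧
      IsEx ((Pf'.rightDerived n).map (Lg'.map S.g)) δ' ∧
      IsEx δ' ((Pf'.rightDerived (n + 1)).map (Lg'.map S.f)) ∧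
      (∀ q, IsEx ((Pf'.rightDerived q).map (Lg'.map S.f)) ((Pf'.rightDerived q).map (Lg'.map S.g))) := by
  obtain ⟨T, φ, hT, _, _, _, _, _, _, hTi⟩ := exists_res_shortExact (shortExact_sgl hS)
  let F := Lg'.mapHomologicalComplex (ComplexShape.up ℤ)
  have hC : (T.map F).ShortExact := shortExact_map_exact Lg' hT
  obtain ⟨U, χ, hU, _, _, _, _, _, _, hUi⟩ := exists_res_shortExact hC
  have hs : ∀ X : CX, IsIso (sglMap Lg' X) := fun X =>
    ((HomologicalComplex.singleMapHomologicalComplex Lg' (ComplexShape.up ℤ) 0).app X).isIso_inv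
  let r₁ : (sgl CX).obj S.X₁ ⟶ T.X₁ := φ.τ₁
  let r₂ : (sgl CX).obj S.X₂ ⟶ T.X₂ := φ.τ₂
  let r₃ : (sgl CX).obj S.X₃ ⟶ T.X₃ := φ.τ₃
  let χ₁ : F.obj T.X₁ ⟶ U.X₁ := χ.τ₁
  let χ₂ : F.obj T.X₂ ⟶ U.X₂ := χ.τ₂
  let χ₃ : F.obj T.X₃ ⟶ U.X₃ := χ.τ₃
  have : QuasiIso r₁ := ‹QuasiIso φ.τ₁›
  have : QuasiIso r₂ := ‹QuasiIso φ.τ₂›
  have : QuasiIso r₃ := ‹QuasiIso φ.τ₃›
  have : QuasiIso χ₁ := ‹QuasiIso χ.τ₁›
  have : QuasiIso χ₂ := ‹QuasiIso χ.τ₂›
  have : QuasiIso χ₃ := ‹QuasiIso χ.τ₃›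
  let r₁' := sglMap Lg' S.X₁ ≫ F.map r₁ ≫ χ₁
  let r₂' := sglMap Lg' S.X₂ ≫ F.map r₂ ≫ χ₂
  let r₃' := sglMap Lg' S.X₃ ≫ F.map r₃ ≫ χ₃
  have : QuasiIso (F.map r₁) := inferInstance
  have : QuasiIso (F.map r₂) := inferInstance
  have : QuasiIso (F.map r₃) := inferInstance
  have : QuasiIso r₁' := inferInstance
  have : QuasiIso r₂' := inferInstance
  have : QuasiIso r₃' := inferInstance
  have hn := fun {X Y : CX} (f : X ⟶ Y) =>
    ((HomologicalComplex.singleMapHomologicalComplex Lg' (ComplexShape.up ℤ) 0).inv.naturality f)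
  have haf : (hq CX).map (r₁ ≫ T.f) = (hq CX).map ((sgl CX).map S.f ≫ r₂) := congrArg (hq CX).map φ.comm₁₂
  have hag : (hq CX).map (r₂ ≫ T.g) = (hq CX).map ((sgl CX).map S.g ≫ r₃) := congrArg (hq CX).map φ.comm₂₃
  have hbf : (hq CX').map (r₁' ≫ U.f) = (hq CX').map ((sgl CX').map (Lg'.map S.f) ≫ r₂') :=
    congrArg (hq CX').map (sq_push F (sglMap Lg' S.X₁) (sglMap Lg' S.X₂) r₁ r₂ χ₁ χ₂ T.f U.f ((sgl CX).map S.f)
      ((sgl CX').map (Lg'.map S.f)) (hn S.f) φ.comm₁₂ χ.comm₁₂)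
  have hbg : (hq CX').map (r₂' ≫ U.g) = (hq CX').map ((sgl CX').map (Lg'.map S.g) ≫ r₃') :=
    congrArg (hq CX').map (sq_push F (sglMap Lg' S.X₂) (sglMap Lg' S.X₃) r₂ r₃ χ₂ χ₃ T.g U.g ((sgl CX).map S.g)
      ((sgl CX').map (Lg'.map S.g)) (hn S.g) φ.comm₂₃ χ.comm₂₃)
  let E := T.map ((Pf ⋙ Lg).mapHomologicalComplex (ComplexShape.up ℤ))
  let E' := U.map (Pf'.mapHomologicalComplex (ComplexShape.up ℤ))
  let Ψ : E ⟶ E' :=
    { τ₁ := bcCxInt aG aG' σ T.X₁ ≫ (Pf'.mapHomologicalComplex _).map χ₁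
      τ₂ := bcCxInt aG aG' σ T.X₂ ≫ (Pf'.mapHomologicalComplex _).map χ₂
      τ₃ := bcCxInt aG aG' σ T.X₃ ≫ (Pf'.mapHomologicalComplex _).map χ₃
      comm₁₂ := sq_nat (NatTrans.mapHomologicalComplex (bcNat aG aG' σ.hom) (ComplexShape.up ℤ))
        (Pf'.mapHomologicalComplex _) F T.f χ₁ χ₂ U.f
        ((NatTrans.mapHomologicalComplex (bcNat aG aG' σ.hom) (ComplexShape.up ℤ)).naturality T.f) χ.comm₁₂
      comm₂₃ := sq_nat (NatTrans.mapHomologicalComplex (bcNat aG aG' σ.hom) (ComplexShape.up ℤ))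
        (Pf'.mapHomologicalComplex _) F T.g χ₂ χ₃ U.g
        ((NatTrans.mapHomologicalComplex (bcNat aG aG' σ.hom) (ComplexShape.up ℤ)).naturality T.g) χ.comm₂₃ }
  have hE : E.ShortExact := shortExact_map_of_split (Pf ⋙ Lg) hT hTi
  have hE' : E'.ShortExact := shortExact_map_of_split Pf' hU hUi
  have hij : (ComplexShape.up ℤ).Rel (n : ℤ) ((n + 1 : ℕ) : ℤ) := (Nat.cast_succ n).symm
  let t₁ := fun q => topIso Pf Lg T.X₁ r₁ q
  let t₂ := fun q => topIso Pf Lg T.X₂ r₂ q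
  let t₃ := fun q => topIso Pf Lg T.X₃ r₃ q
  let b₁ := fun q => isoZ Pf' U.X₁ r₁' q
  let b₂ := fun q => isoZ Pf' U.X₂ r₂' q
  let b₃ := fun q => isoZ Pf' U.X₃ r₃' q
  let δ := (t₃ n).hom ≫ hE.δ (n : ℤ) ((n + 1 : ℕ) : ℤ) hij ≫ (t₁ (n + 1)).inv
  let δ' := (b₃ n).hom ≫ hE'.δ (n : ℤ) ((n + 1 : ℕ) : ℤ) hij ≫ (b₁ (n + 1)).inv
  have hδ : δ ≫ (t₁ (n + 1)).hom = (t₃ n).hom ≫ hE.δ (n : ℤ) ((n + 1 : ℕ) : ℤ) hij := cancel_r _ _ _
  have hδ' : δ' ≫ (b₁ (n + 1)).hom = (b₃ n).hom ≫ hE'.δ (n : ℤ) ((n + 1 : ℕ) : ℤ) hij := cancel_r _ _ _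
  refine ⟨δ, δ', ?_, ?_, ?_, fun q => ?_, ?_, ?_, fun q => ?_⟩
  · have e1 := bcD_topIso aG aG' σ (n + 1) T.X₁ r₁ U.X₁ χ₁ r₁' rfl
    have e3 := bcD_topIso aG aG' σ n T.X₃ r₃ U.X₃ χ₃ r₃' rfl
    exact ladder_sq (b₁ (n + 1)) hδ hδ' e1 e3
      (HomologicalComplex.HomologySequence.δ_naturality Ψ hE hE' (n : ℤ) ((n + 1 : ℕ) : ℤ) hij)
  · exact conj_iso_exact (t₂ n) (t₃ n) (t₁ (n + 1)) (topIso_naturality Pf Lg S.g T.X₂ T.X₃ r₂ r₃ T.g hag n) hδ
      (hE.homology_exact₃ (n : ℤ) ((n + 1 : ℕ) : ℤ) hij)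
  · exact conj_iso_exact (t₃ n) (t₁ (n + 1)) (t₂ (n + 1)) hδ
      (topIso_naturality Pf Lg S.f T.X₁ T.X₂ r₁ r₂ T.f haf (n + 1))
      (hE.homology_exact₁ (n : ℤ) ((n + 1 : ℕ) : ℤ) hij)
  · exact conj_iso_exact (t₁ q) (t₂ q) (t₃ q) (topIso_naturality Pf Lg S.f T.X₁ T.X₂ r₁ r₂ T.f haf q)
      (topIso_naturality Pf Lg S.g T.X₂ T.X₃ r₂ r₃ T.g hag q) (hE.homology_exact₂ (q : ℤ))
  · exact conj_iso_exact (b₂ n) (b₃ n) (b₁ (n + 1))
      (isoZ_naturality Pf' (Lg'.map S.g) U.X₂ U.X₃ r₂' r₃' U.g hbg n) hδ'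
      (hE'.homology_exact₃ (n : ℤ) ((n + 1 : ℕ) : ℤ) hij)
  · exact conj_iso_exact (b₃ n) (b₁ (n + 1)) (b₂ (n + 1)) hδ'
      (isoZ_naturality Pf' (Lg'.map S.f) U.X₁ U.X₂ r₁' r₂' U.f hbf (n + 1))
      (hE'.homology_exact₁ (n : ℤ) ((n + 1 : ℕ) : ℤ) hij)
  · exact conj_iso_exact (b₁ q) (b₂ q) (b₃ q) (isoZ_naturality Pf' (Lg'.map S.f) U.X₁ U.X₂ r₁' r₂' U.f hbf q)
      (isoZ_naturality Pf' (Lg'.map S.g) U.X₂ U.X₃ r₂' r₃' U.g hbg q) (hE'.homology_exact₂ (q : ℤ))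

end Square

end Groth.Agent.EtBC48
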