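import Groth.Agent.EtBC48.BCQ
import Groth.Agent.EtBC48.Ladder

/-!
The base change maps `bcQ` are natural and compatible with long exact sequences.
-/

set_option autoImplicit false
set_option backward.isDefEq.respectTransparency.types false
universe u

open CategoryTheory CategoryTheory.Limits AlgebraicGeometry Opposite

namespace Groth.Agent.EtBC48

variable {X S X' S' : Scheme.{u}} (f : X ⟶ S) (g : S' ⟶ S) (f' : X' ⟶ S') (g' : X' ⟶ X)

theorem bcQ_natural (w : g' ≫ f = f' ≫ g) [PreservesFiniteLimits (EtCoh.pull g')] (q : ℕ) {F G : EtCoh.Ab X}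
    (a : F ⟶ G) :
    (EtCoh.pull g).map ((EtCoh.Rpush f q).map a) ≫ EtBC.bcQ f g f' g' w q G =
      EtBC.bcQ f g f' g' w q F ≫ (EtCoh.Rpush f' q).map ((EtCoh.pull g').map a) := by
  have := Unr55.EtSh.preservesFiniteLimits_pull g
  rw [bcQ_eq, bcQ_eq]
  exact bcD_natural (Pf := EtCoh.push f) (Pf' := EtCoh.push f') (EtCoh.pullPushAdj g) (EtCoh.pullPushAdj g')
    (sqIso AbU f g f' g' w) q a

/-- A short exact sequence gives a ladder between the two sides of the base change maps. -/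
theorem exists_bcQ_ladder (w : g' ≫ f = f' ≫ g) [PreservesFiniteLimits (EtCoh.pull g')]
    {T : ShortComplex (EtCoh.Ab X)} (hT : T.ShortExact) (n : ℕ) :
    ∃ (δ : (EtCoh.pull g).obj ((EtCoh.Rpush f n).obj T.X₃) ⟶ (EtCoh.pull g).obj ((EtCoh.Rpush f (n + 1)).obj T.X₁))
      (δ' : (EtCoh.Rpush f' n).obj ((EtCoh.pull g').obj T.X₃) ⟶
        (EtCoh.Rpush f' (n + 1)).obj ((EtCoh.pull g').obj T.X₁)),
      δ ≫ EtBC.bcQ f g f' g' w (n + 1) T.X₁ = EtBC.bcQ f g f' g' w n T.X₃ ≫ δ' ∧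
      IsEx ((EtCoh.pull g).map ((EtCoh.Rpush f n).map T.g)) δ ∧
      IsEx δ ((EtCoh.pull g).map ((EtCoh.Rpush f (n + 1)).map T.f)) ∧
      (∀ q, IsEx ((EtCoh.pull g).map ((EtCoh.Rpush f q).map T.f)) ((EtCoh.pull g).map ((EtCoh.Rpush f q).map T.g))) ∧
      IsEx ((EtCoh.Rpush f' n).map ((EtCoh.pull g').map T.g)) δ' ∧
      IsEx δ' ((EtCoh.Rpush f' (n + 1)).map ((EtCoh.pull g').map T.f)) ∧
      (∀ q, IsEx ((EtCoh.Rpush f' q).map ((EtCoh.pull g').map T.f))
        ((EtCoh.Rpush f' q).map ((EtCoh.pull g').map T.g))) := by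
  have := Unr55.EtSh.preservesFiniteLimits_pull g
  rw [bcQ_eq, bcQ_eq]
  exact exists_ladder (Pf := EtCoh.push f) (Pf' := EtCoh.push f') (EtCoh.pullPushAdj g) (EtCoh.pullPushAdj g')
    (sqIso AbU f g f' g' w) hT n

end Groth.Agent.EtBC48
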