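import Groth.Agent.EtBC48.Der
import Groth.Agent.EtBC48.BCQ
import Groth.Agent.Mod48.CmpAdj
import Groth.Agent.EtCore45.EtalePull
import Groth.Prelude.Def_EtBCD

/-!
The base change map on derived categories of etale sheaves: computation, pasting, etale base change, locality.
-/

set_option autoImplicit false
set_option backward.isDefEq.respectTransparency.types false
universe u

open CategoryTheory CategoryTheory.Limits AlgebraicGeometry HomologicalComplex DerivedCategory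

attribute [local instance] HasDerivedCategory.standard

namespace Groth.Agent.EtBC48

theorem hom_comp₃_map {C : Type*} [Category C] {D : Type*} [Category D] (F : C ⥤ D) {A₁ A₂ A₃ A₄ : C} {B : D}
    {a : A₁ ⟶ A₂} {b : A₂ ⟶ A₃} {c : A₃ ⟶ A₄} {u : A₁ ⟶ A₄} (h : a ≫ b ≫ c = u) (r : F.obj A₄ ⟶ B) :
    F.map a ≫ F.map b ≫ F.map c ≫ r = F.map u ≫ r := by
  rw [← F.map_comp_assoc, ← F.map_comp_assoc, Category.assoc, h]

/-- Direct image has a right derived functor on unbounded derived categories. -/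
theorem hasRpushEt {X Y : Scheme.{u}} (f : X ⟶ Y) : DCoh.HasRpushEt X f := by
  have := Mod48.hasPointwiseLeftKanExtension_Qh (A := EtCoh.Ab X)
    (F := DCoh.pushEtKh X f) Mod48.enoughKInj
  exact (Functor.hasRightDerivedFunctor_iff (DCoh.pushEtKh X f) DerivedCategory.Qh
    (HomotopyCategory.quasiIso (EtCoh.Ab X) (ComplexShape.up ℤ))).2 inferInstance

/-- The unit of the derived direct image. -/
noncomputable abbrev rUnit {X Y : Scheme.{u}} (f : X ⟶ Y) [DCoh.HasRpushEt X f] :=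
  (DCoh.pushEtKh X f).totalRightDerivedUnit DerivedCategory.Qh
    (HomotopyCategory.quasiIso (EtCoh.Ab X) (ComplexShape.up ℤ))

/-- The derived adjunction. -/
noncomputable def pullRpushAdj {X Y : Scheme.{u}} (f : X ⟶ Y) [DCoh.HasRpushEt X f]
    [PreservesFiniteLimits (EtCoh.pull f)] : EtBC.pullD f ⊣ DCoh.RpushEt X f :=
  Mod48.derivedAdj (EtCoh.pullPushAdj f) Mod48.enoughKInj (DCoh.RpushEt X f) (rUnit f)

variable {X S X' S' : Scheme.{u}} (f : X ⟶ S) (g : S' ⟶ S) (f' : X' ⟶ S') (g' : X' ⟶ X)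

theorem isBCAdj_bcAdj (w : g' ≫ f = f' ≫ g) [PreservesFiniteLimits (EtCoh.pull g')] [DCoh.HasRpushEt X f]
    [DCoh.HasRpushEt X' f'] [DCoh.HasRpushEt S' g] :
    IsBCAdj (Pf := EtCoh.push f) (Pf' := EtCoh.push f') (Pg := EtCoh.push g) (EtCoh.pullPushAdj g')
      (sqIso AbU f g f' g' w) (rUnit f) (rUnit f') (rUnit g) (EtBC.bcAdj f g f' g' w) := by
  intro K
  refine ((DCoh.RpushEt X f).rightDerived_fac_app _ _ _ _ _).trans ?_
  unfold EtBC.bcUnit EtBC.pushToPushPullH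
  simp
  refine hom_comp₃_map DerivedCategory.Qh ?_ _
  let a : ((EtCoh.push f).mapHomologicalComplex (ComplexShape.up ℤ)).obj K ⟶ _ :=
    (NatTrans.mapHomologicalComplex (EtBC.pushToPushPull f g f' g' w) (ComplexShape.up ℤ)).app K
  let b := (Functor.mapHomologicalComplexCompIso (Iso.refl (EtCoh.pull g' ⋙ EtCoh.push f' ⋙ EtCoh.push g))
    (ComplexShape.up ℤ)).inv.app K
  let c := (Functor.mapHomologicalComplexCompIso (Iso.refl (EtCoh.push f' ⋙ EtCoh.push g)) (ComplexShape.up ℤ)).inv.app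
    (((EtCoh.pull g').mapHomologicalComplex (ComplexShape.up ℤ)).obj K)
  let q := HomotopyCategory.quotient (EtCoh.Ab S) (ComplexShape.up ℤ)
  change q.map a ≫ q.map b ≫ q.map c = _
  rw [← q.map_comp, ← q.map_comp]
  refine congrArg q.map ?_
  ext n
  simp [a, b, c, unitCx, EtBC.pushToPushPull]
  rfl

theorem bcMap_eq (w : g' ≫ f = f' ≫ g) [PreservesFiniteLimits (EtCoh.pull g')] [PreservesFiniteLimits (EtCoh.pull g)]
    [DCoh.HasRpushEt X f] [DCoh.HasRpushEt X' f'] [DCoh.HasRpushEt S' g] (adj : EtBC.pullD g ⊣ DCoh.RpushEt S' g)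
    (K : DCoh.DEt X) : EtBC.bcMap f g f' g' w adj K = bcT adj (EtBC.bcAdj f g f' g' w) K :=
  rfl

/-- Pasting: if the first square has bijective base change, the second has iff the composite has. -/
theorem isIso_bcMap_paste (w : g' ≫ f = f' ≫ g) {W Z : Scheme.{u}} (i : W ⟶ S') (j : Z ⟶ W) (k : Z ⟶ X')
    (w' : k ≫ f' = j ≫ i) (w'' : (k ≫ g') ≫ f = j ≫ i ≫ g) [PreservesFiniteLimits (EtCoh.pull g)]
    [PreservesFiniteLimits (EtCoh.pull i)] [PreservesFiniteLimits (EtCoh.pull (i ≫ g))]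
    [PreservesFiniteLimits (EtCoh.pull g')]
    [PreservesFiniteLimits (EtCoh.pull k)] [PreservesFiniteLimits (EtCoh.pull (k ≫ g'))]
    [DCoh.HasRpushEt X f] [DCoh.HasRpushEt X' f'] [DCoh.HasRpushEt Z j] [DCoh.HasRpushEt S' g]
    [DCoh.HasRpushEt W i] [DCoh.HasRpushEt W (i ≫ g)] (adj : EtBC.pullD g ⊣ DCoh.RpushEt S' g)
    (adji : EtBC.pullD i ⊣ DCoh.RpushEt W i) (adj₃ : EtBC.pullD (i ≫ g) ⊣ DCoh.RpushEt W (i ≫ g))
    (K : DCoh.DEt X) (h₁ : IsIso (EtBC.bcMap f g f' g' w adj K)) :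
    IsIso (EtBC.bcMap f (i ≫ g) j (k ≫ g') w'' adj₃ K) ↔
      IsIso (EtBC.bcMap f' i j k w' adji ((EtBC.pullD g').obj K)) :=
  isIso_bcT_vcomp (Pf := EtCoh.push f) (Pf' := EtCoh.push f') (Pj := EtCoh.push j)
    (EtCoh.pullPushAdj g) (EtCoh.pullPushAdj g') (sqIso AbU f g f' g' w)
    (EtCoh.pullPushAdj i) (EtCoh.pullPushAdj k) (sqIso AbU f' i j k w') (pushC AbU g i) (pushC AbU g' k)
    (EtCoh.pullPushAdj (i ≫ g)) (EtCoh.pullPushAdj (k ≫ g')) (sqIso AbU f (i ≫ g) j (k ≫ g') w'')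
    (sqIso_paste AbU f g f' g' w i j k w' w'') (rUnit f) (rUnit f') (rUnit j) (rUnit g) (rUnit i) (rUnit (i ≫ g))
    Mod48.enoughKInj Mod48.enoughKInj Mod48.enoughKInj Mod48.enoughKInj Mod48.enoughKInj
    (isBCAdj_bcAdj f g f' g' w) (isBCAdj_bcAdj f' i j k w') (isBCAdj_bcAdj f (i ≫ g) j (k ≫ g') w'')
    adj adji adj₃ K h₁

/-- Pasting: if the second square has bijective base change, the first has after inverse image iff the composite has. -/
theorem isIso_bcMap_paste' (w : g' ≫ f = f' ≫ g) {W Z : Scheme.{u}} (i : W ⟶ S') (j : Z ⟶ W) (k : Z ⟶ X')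
    (w' : k ≫ f' = j ≫ i) (w'' : (k ≫ g') ≫ f = j ≫ i ≫ g) [PreservesFiniteLimits (EtCoh.pull g)]
    [PreservesFiniteLimits (EtCoh.pull i)] [PreservesFiniteLimits (EtCoh.pull (i ≫ g))]
    [PreservesFiniteLimits (EtCoh.pull g')]
    [PreservesFiniteLimits (EtCoh.pull k)] [PreservesFiniteLimits (EtCoh.pull (k ≫ g'))]
    [DCoh.HasRpushEt X f] [DCoh.HasRpushEt X' f'] [DCoh.HasRpushEt Z j] [DCoh.HasRpushEt S' g]
    [DCoh.HasRpushEt W i] [DCoh.HasRpushEt W (i ≫ g)] (adj : EtBC.pullD g ⊣ DCoh.RpushEt S' g)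
    (adji : EtBC.pullD i ⊣ DCoh.RpushEt W i) (adj₃ : EtBC.pullD (i ≫ g) ⊣ DCoh.RpushEt W (i ≫ g))
    (K : DCoh.DEt X) (h₂ : IsIso (EtBC.bcMap f' i j k w' adji ((EtBC.pullD g').obj K))) :
    IsIso (EtBC.bcMap f (i ≫ g) j (k ≫ g') w'' adj₃ K) ↔
      IsIso ((EtBC.pullD i).map (EtBC.bcMap f g f' g' w adj K)) :=
  isIso_bcT_vcomp' (Pf := EtCoh.push f) (Pf' := EtCoh.push f') (Pj := EtCoh.push j)
    (EtCoh.pullPushAdj g) (EtCoh.pullPushAdj g') (sqIso AbU f g f' g' w)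
    (EtCoh.pullPushAdj i) (EtCoh.pullPushAdj k) (sqIso AbU f' i j k w') (pushC AbU g i) (pushC AbU g' k)
    (EtCoh.pullPushAdj (i ≫ g)) (EtCoh.pullPushAdj (k ≫ g')) (sqIso AbU f (i ≫ g) j (k ≫ g') w'')
    (sqIso_paste AbU f g f' g' w i j k w' w'') (rUnit f) (rUnit f') (rUnit j) (rUnit g) (rUnit i) (rUnit (i ≫ g))
    Mod48.enoughKInj Mod48.enoughKInj Mod48.enoughKInj Mod48.enoughKInj Mod48.enoughKInj
    (isBCAdj_bcAdj f g f' g' w) (isBCAdj_bcAdj f' i j k w') (isBCAdj_bcAdj f (i ≫ g) j (k ≫ g') w'')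
    adj adji adj₃ K h₂

theorem isKInjective_pull_etale [Etale g'] (I : CochainComplex (EtCoh.Ab X) ℤ) [I.IsKInjective] :
    CochainComplex.IsKInjective (((EtCoh.pull g').mapHomologicalComplex (ComplexShape.up ℤ)).obj I) := by
  have := EtCore45.preservesFiniteLimits_extZero g'
  have : PreservesColimitsOfSize.{0, 0} (EtShriek.extZero g') := (EtShriek.extZeroAdj g').leftAdjoint_preservesColimits
  have : PreservesFiniteColimits (EtShriek.extZero g') := PreservesColimitsOfSize.preservesFiniteColimits _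
  have : (EtShriek.extZero g').Additive := Functor.additive_of_preserves_binary_products _
  exact isKInjective_map ((EtShriek.extZeroAdj g').ofNatIsoRight (EtCore45.pullRestrIso g').symm) I

/-- Base change along an etale morphism is bijective. -/
theorem isIso_bcMap_of_etale [Etale g] (sq : IsPullback g' f' f g) [PreservesFiniteLimits (EtCoh.pull g')]
    [PreservesFiniteLimits (EtCoh.pull g)] [DCoh.HasRpushEt X f] [DCoh.HasRpushEt X' f'] [DCoh.HasRpushEt S' g]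
    (adj : EtBC.pullD g ⊣ DCoh.RpushEt S' g) (K : DCoh.DEt X) : IsIso (EtBC.bcMap f g f' g' sq.w adj K) := by
  have : Etale g' := MorphismProperty.of_isPullback (P := @Etale) sq.flip inferInstance
  exact isIso_bcT_of_kInjective (EtCoh.pullPushAdj g) (EtCoh.pullPushAdj g') (sqIso AbU f g f' g' sq.w)
    (rUnit f) (rUnit f') (rUnit g) Mod48.enoughKInj Mod48.enoughKInj Mod48.enoughKInj
    (isBCAdj_bcAdj f g f' g' sq.w) adj (fun I _ => isKInjective_pull_etale g' I)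
    (fun G => isIso_bc0_of_etale AbU f g f' g' sq G) K

theorem isIso_bcMap_congr {g₁ g₂ : S' ⟶ S} {k₁ k₂ : X' ⟶ X} (e : g₁ = g₂) (e' : k₁ = k₂)
    (w₁ : k₁ ≫ f = f' ≫ g₁) (w₂ : k₂ ≫ f = f' ≫ g₂) [PreservesFiniteLimits (EtCoh.pull k₁)]
    [PreservesFiniteLimits (EtCoh.pull k₂)] [PreservesFiniteLimits (EtCoh.pull g₁)]
    [PreservesFiniteLimits (EtCoh.pull g₂)] [DCoh.HasRpushEt X f] [DCoh.HasRpushEt X' f']
    [DCoh.HasRpushEt S' g₁] [DCoh.HasRpushEt S' g₂]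
    (adj₁ : EtBC.pullD g₁ ⊣ DCoh.RpushEt S' g₁) (adj₂ : EtBC.pullD g₂ ⊣ DCoh.RpushEt S' g₂)
    (K : DCoh.DEt X) (h : IsIso (EtBC.bcMap f g₁ f' k₁ w₁ adj₁ K)) :
    IsIso (EtBC.bcMap f g₂ f' k₂ w₂ adj₂ K) := by
  subst e e'
  exact (isIso_map_bcT_iff_adj adj₁ (𝟭 _) adj₂ K).1 h

variable {T Y : Scheme.{u}}

/-- A base change map whose local forms are isomorphisms is an isomorphism after restriction. -/
theorem isIso_pull_bcMap {g₀ : T ⟶ S} {f₀ : X ⟶ S} {h : Y ⟶ X} {e : Y ⟶ T} (c : IsPullback e h g₀ f₀)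
    [PreservesFiniteLimits (EtCoh.pull e)] [PreservesFiniteLimits (EtCoh.pull f₀)]
    [DCoh.HasRpushEt T g₀] [DCoh.HasRpushEt Y h] [DCoh.HasRpushEt X f₀] (adj : EtBC.pullD f₀ ⊣ DCoh.RpushEt X f₀)
    {U V Ti Yi : Scheme.{u}} (p : U ⟶ X) [Etale p] [PreservesFiniteLimits (EtCoh.pull p)] (v : V ⟶ S) [Etale v]
    (a : U ⟶ V) (ha : a ≫ v = p ≫ f₀) (gi : Ti ⟶ V) (ti : Ti ⟶ T) (cT : IsPullback ti gi g₀ v) (hi : Yi ⟶ U)
    (ei : Yi ⟶ Ti) [PreservesFiniteLimits (EtCoh.pull ei)] [PreservesFiniteLimits (EtCoh.pull a)]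
    [PreservesFiniteLimits (EtCoh.pull ti)] [DCoh.HasRpushEt Ti gi] [DCoh.HasRpushEt Yi hi] [DCoh.HasRpushEt U a]
    (adja : EtBC.pullD a ⊣ DCoh.RpushEt U a)
    (cY : IsPullback ei hi gi a) (K : DCoh.DEt T)
    (hloc : IsIso (EtBC.bcMap gi a hi ei cY.w adja ((EtBC.pullD ti).obj K))) :
    IsIso ((EtBC.pullD p).map (EtBC.bcMap g₀ f₀ h e c.w adj K)) := by
  have w : (ei ≫ ti) ≫ g₀ = (hi ≫ p) ≫ f₀ := by
    rw [Category.assoc, cT.w, ← Category.assoc, cY.w, Category.assoc, ha, Category.assoc]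
  let k : Yi ⟶ Y := c.lift (ei ≫ ti) (hi ≫ p) w
  have hk1 : k ≫ e = ei ≫ ti := c.lift_fst _ _ _
  have hk2 : k ≫ h = hi ≫ p := c.lift_snd _ _ _
  have big : IsPullback (k ≫ e) hi g₀ (p ≫ f₀) := by
    rw [hk1, ← ha]
    exact cY.paste_horiz cT
  have small : IsPullback k hi h p := IsPullback.of_right big hk2 c
  have := Unr55.EtSh.preservesFiniteLimits_pull k
  have := Unr55.EtSh.preservesFiniteLimits_pull v
  have := Unr55.EtSh.preservesFiniteLimits_pull (k ≫ e)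
  have := Unr55.EtSh.preservesFiniteLimits_pull (ei ≫ ti)
  have := Unr55.EtSh.preservesFiniteLimits_pull (a ≫ v)
  have := Unr55.EtSh.preservesFiniteLimits_pull (p ≫ f₀)
  have := hasRpushEt v
  have := hasRpushEt p
  have := hasRpushEt (a ≫ v)
  have := hasRpushEt (p ≫ f₀)
  have i1 : IsIso (EtBC.bcMap g₀ v gi ti cT.w (pullRpushAdj v) K) := isIso_bcMap_of_etale g₀ v gi ti cT _ K
  have i2 : IsIso (EtBC.bcMap h p hi k small.w (pullRpushAdj p) ((EtBC.pullD e).obj K)) :=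
    isIso_bcMap_of_etale h p hi k small _ _
  have wo : (ei ≫ ti) ≫ g₀ = hi ≫ a ≫ v := by rw [w, ha, Category.assoc]
  have i3 : IsIso (EtBC.bcMap g₀ (a ≫ v) hi (ei ≫ ti) wo (pullRpushAdj (a ≫ v)) K) :=
    (isIso_bcMap_paste g₀ v gi ti cT.w a hi ei cY.w wo (pullRpushAdj v) adja (pullRpushAdj (a ≫ v)) K i1).2 hloc
  have i4 := isIso_bcMap_congr g₀ hi ha hk1.symm wo big.w (pullRpushAdj (a ≫ v)) (pullRpushAdj (p ≫ f₀)) K i3
  exact (isIso_bcMap_paste' g₀ f₀ h e c.w p hi k small.w big.w adj (pullRpushAdj p) (pullRpushAdj (p ≫ f₀)) K i2).1 i4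

/-- Isomorphisms of derived categories are detected on an etale covering. -/
theorem isIso_of_isIso_pullD {ι : Type u} (U : ι → X.Etale) (hU : EtCoh.Covers U)
    [∀ i, PreservesFiniteLimits (EtCoh.pull (U i).hom)] {K L : DCoh.DEt X} (φ : K ⟶ L)
    (h : ∀ i, IsIso ((EtBC.pullD (U i).hom).map φ)) : IsIso φ := by
  have : ∀ i, Etale (U i).hom := fun i => (U i).prop
  refine (DerivedCategory.isIso_iff _ φ).2 fun n => ?_
  refine DetectsLocal.out (A := AbU) U hU _ fun i => (isIso_restr_map_iff AbU (U i).hom _).1 ?_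
  have := h i
  exact (NatIso.isIso_map_iff (Mod48.homologyMapDerivedIso (EtCoh.pull (U i).hom) n) φ).1
    ((DerivedCategory.homologyFunctor _ n).map_isIso ((EtBC.pullD (U i).hom).map φ))

/-- Base change maps on derived categories are local on the source for the etale topology. -/
theorem isIso_bcMap_local {g₀ : T ⟶ S} {f₀ : X ⟶ S} {h : Y ⟶ X} {e : Y ⟶ T} (c : IsPullback e h g₀ f₀)
    [PreservesFiniteLimits (EtCoh.pull e)] [PreservesFiniteLimits (EtCoh.pull f₀)]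
    [DCoh.HasRpushEt T g₀] [DCoh.HasRpushEt Y h] [DCoh.HasRpushEt X f₀] (adj : EtBC.pullD f₀ ⊣ DCoh.RpushEt X f₀)
    (K : DCoh.DEt T) {ι : Type u} (U : ι → X.Etale)
    (hU : EtCoh.Covers U) (V : ι → S.Etale) (a : ∀ i, (U i).left ⟶ (V i).left)
    (ha : ∀ i, a i ≫ (V i).hom = (U i).hom ≫ f₀) (Ti Yi : ι → Scheme.{u}) (gi : ∀ i, Ti i ⟶ (V i).left)
    (ti : ∀ i, Ti i ⟶ T) (cT : ∀ i, IsPullback (ti i) (gi i) g₀ (V i).hom) (hi : ∀ i, Yi i ⟶ (U i).left)
    (ei : ∀ i, Yi i ⟶ Ti i) (cY : ∀ i, IsPullback (ei i) (hi i) (gi i) (a i))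
    [∀ i, PreservesFiniteLimits (EtCoh.pull (ei i))] [∀ i, PreservesFiniteLimits (EtCoh.pull (a i))]
    [∀ i, PreservesFiniteLimits (EtCoh.pull (ti i))]
    [∀ i, DCoh.HasRpushEt (Ti i) (gi i)] [∀ i, DCoh.HasRpushEt (Yi i) (hi i)] [∀ i, DCoh.HasRpushEt (U i).left (a i)]
    (adji : ∀ i, EtBC.pullD (a i) ⊣ DCoh.RpushEt (U i).left (a i))
    (hloc : ∀ i, IsIso (EtBC.bcMap (gi i) (a i) (hi i) (ei i) (cY i).w (adji i) ((EtBC.pullD (ti i)).obj K))) :
    IsIso (EtBC.bcMap g₀ f₀ h e c.w adj K) := by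
  have : ∀ i, Etale (U i).hom := fun i => (U i).prop
  have : ∀ i, Etale (V i).hom := fun i => (V i).prop
  have : ∀ i, PreservesFiniteLimits (EtCoh.pull (U i).hom) := fun i => Unr55.EtSh.preservesFiniteLimits_pull _
  exact isIso_of_isIso_pullD U hU _ fun i =>
    isIso_pull_bcMap c adj (U := (U i).left) (V := (V i).left) (U i).hom (V i).hom (a i) (ha i) (gi i) (ti i) (cT i) (hi i) (ei i) (adji i) (cY i) K (hloc i)

end Groth.Agent.EtBC48
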