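import Groth.Agent.EtBC48.BCQ

/-!
The base change map in degree zero.
-/

universe v₁ v₂ v₃ v₄ u₁ u₂ u₃ u₄ u

set_option autoImplicit false
set_option backward.isDefEq.respectTransparency.types false

open CategoryTheory CategoryTheory.Limits HomologicalComplex

namespace Groth.Agent.EtBC48

theorem exists_map_homologyπ_mhi {B : Type u₁} [Category.{v₁} B] [Abelian B] {C : Type u₂} [Category.{v₂} C]
    [Abelian C] (L : B ⥤ C) [L.Additive] [PreservesFiniteLimits L] [PreservesFiniteColimits L] {ι : Type*}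
    {c : ComplexShape ι} (K : HomologicalComplex B c) (q : ι) :
    ∃ z : L.obj (K.cycles q) ⟶ ((L.mapHomologicalComplex c).obj K).cycles q,
      z ≫ ((L.mapHomologicalComplex c).obj K).iCycles q = L.map (K.iCycles q) ∧
      L.map (K.homologyπ q) ≫ (mhi L K q).inv = z ≫ ((L.mapHomologicalComplex c).obj K).homologyπ q := by
  let h := (K.sc q).leftHomologyData
  let hm := h.map L
  let LK := (L.mapHomologicalComplex c).obj K
  let M : L.obj (K.homology q) ≅ LK.homology q := L.mapIso h.homologyIso ≪≫ hm.homologyIso.symm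
  have hM : (mhi L K q).inv = M.hom := by
    simp only [mhi, h.mapHomologyIso_eq L, M, hm, Iso.trans_inv, Iso.trans_hom, Functor.mapIso_inv, Functor.mapIso_hom,
      Iso.symm_inv, Iso.symm_hom]
    rfl
  let z : L.obj (K.cycles q) ⟶ LK.cycles q := L.map h.cyclesIso.hom ≫ hm.cyclesIso.inv
  refine ⟨z, ?_, ?_⟩
  · refine (Category.assoc _ _ _).trans ?_
    refine (congrArg (_ ≫ ·) hm.cyclesIso_inv_comp_iCycles).trans ?_
    exact (L.map_comp _ _).symm.trans (congrArg L.map h.cyclesIso_hom_comp_i)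
  · rw [hM]
    refine (L.map_comp_assoc _ _ _).symm.trans ?_
    refine (congrArg (fun t => L.map t ≫ hm.homologyIso.inv) (h.homologyπ_comp_homologyIso_hom)).trans ?_
    refine (L.map_comp_assoc _ _ _).trans ((congrArg (L.map h.cyclesIso.hom ≫ ·) ?_).trans (Category.assoc _ _ _).symm)
    exact hm.π_comp_homologyIso_inv

theorem zero_chain {C D : Type*} [Category C] [Category D] (L : C ⥤ D) {F Z H H' Y : C} {Z' H'' X : D}
    {t : F ⟶ Z} {p : Z ⟶ H} {si : H ⟶ H'} {sh : H' ⟶ H} {i : Z ⟶ Y} {ι : F ⟶ Y} {m : L.obj H ⟶ H''}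
    {z : L.obj Z ⟶ Z'} {p' : Z' ⟶ H''} {i' : Z' ⟶ L.obj Y} {b : H'' ⟶ X}
    (h₁ : si ≫ sh = 𝟙 _) (h₂ : L.map p ≫ m = z ≫ p') (h₃ : z ≫ i' = L.map i) (h₄ : t ≫ i = ι) :
    L.map (t ≫ p ≫ si) ≫ L.map sh ≫ m ≫ b = (L.map t ≫ z) ≫ p' ≫ b ∧ (L.map t ≫ z) ≫ i' = L.map ι := by
  refine ⟨?_, ?_⟩
  · simp only [Functor.map_comp, Category.assoc]
    rw [← L.map_comp_assoc si, h₁, L.map_id, Category.id_comp, reassoc_of% h₂]
  · rw [Category.assoc, h₃, ← L.map_comp, h₄]

variable {CX : Type u₁} [Category.{v₁} CX] [Abelian CX] [HasInjectiveResolutions CX]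
  {CS : Type u₂} [Category.{v₂} CS] [Abelian CS]
  {CX' : Type u₃} [Category.{v₃} CX'] [Abelian CX'] [HasInjectiveResolutions CX']
  {CS' : Type u₄} [Category.{v₄} CS'] [Abelian CS']
  {Pf : CX ⥤ CS} {Pf' : CX' ⥤ CS'} {Lg : CS ⥤ CS'} {Pg : CS' ⥤ CS} {Lg' : CX ⥤ CX'} {Pg' : CX' ⥤ CX}
  [Pf.Additive] [Pf'.Additive] [Lg.Additive] [Pg.Additive] [Lg'.Additive] [Pg'.Additive]
  [PreservesFiniteLimits Pg] [Pg'.PreservesInjectiveObjects]
  [PreservesFiniteLimits Lg] [PreservesFiniteColimits Lg] [PreservesFiniteLimits Lg'] [PreservesFiniteColimits Lg']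
  (aG : Lg ⊣ Pg) (aG' : Lg' ⊣ Pg') (σ : Pg' ⋙ Pf ≅ Pf' ⋙ Pg)

/-- In degree zero the base change map is the base change morphism. -/
theorem bcD_zero (F : CX) :
    Lg.map (Pf.toRightDerivedZero.app F) ≫ bcD aG aG' σ 0 F =
      bcM aG aG' σ.hom F ≫ Pf'.toRightDerivedZero.app (Lg'.obj F) := by
  let R := injectiveResolution F
  let R' := injectiveResolution (Lg'.obj F)
  obtain ⟨φ, hφ⟩ := exists_lift (Lg' := Lg') R R'
  let K := (Pf.mapHomologicalComplex (ComplexShape.up ℕ)).obj R.cocomplex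
  let LK := (Lg.mapHomologicalComplex (ComplexShape.up ℕ)).obj K
  let K' := (Pf'.mapHomologicalComplex (ComplexShape.up ℕ)).obj R'.cocomplex
  obtain ⟨z, hz, hzπ⟩ := exists_map_homologyπ_mhi Lg K 0
  let ψ : LK ⟶ K' := bcCx aG aG' σ R.cocomplex ≫ (Pf'.mapHomologicalComplex _).map φ
  have e := zero_chain Lg (F := Pf.obj F) (t := R.toRightDerivedZero' Pf) (p := K.homologyπ 0)
    (si := (R.isoRightDerivedObj Pf 0).inv) (sh := (R.isoRightDerivedObj Pf 0).hom) (i := K.iCycles 0)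
    (m := (mhi Lg K 0).inv) (b := homologyMap ψ 0 ≫ (R'.isoRightDerivedObj Pf' 0).inv)
    (Iso.inv_hom_id _) hzπ hz (R.toRightDerivedZero'_comp_iCycles Pf)
  rw [bcD_eq aG aG' σ 0 R R' φ hφ, R.toRightDerivedZero_eq Pf, R'.toRightDerivedZero_eq Pf']
  refine e.1.trans ?_
  rw [homologyπ_naturality_assoc]
  refine (Category.assoc _ _ _).symm.trans (Eq.trans ?_ (Category.assoc _ _ _))
  refine congrArg (· ≫ K'.homologyπ 0 ≫ (R'.isoRightDerivedObj Pf' 0).inv) ?_
  refine (cancel_mono (K'.iCycles 0)).1 ?_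
  refine (Category.assoc _ _ _).trans ((congrArg (_ ≫ ·) (cyclesMap_i ψ 0)).trans ?_)
  refine (Category.assoc _ _ _).symm.trans ((congrArg (· ≫ ψ.f 0) e.2).trans ?_)
  refine Eq.trans ?_ ((congrArg (_ ≫ ·) (R'.toRightDerivedZero'_comp_iCycles Pf')).symm.trans
    (Category.assoc _ _ _).symm)
  change Lg.map (Pf.map (R.ι.f 0)) ≫ bcM aG aG' σ.hom _ ≫ Pf'.map (φ.f 0) = _
  refine (bcM_natural_assoc aG aG' σ.hom (R.ι.f 0) _).trans ?_
  exact congrArg (_ ≫ ·) ((Pf'.map_comp _ _).symm.trans (congrArg Pf'.map hφ))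

/-- The base change map in degree zero is bijective iff the base change morphism is. -/
theorem isIso_bcD_zero_iff [PreservesFiniteLimits Pf] [PreservesFiniteLimits Pf'] (F : CX) :
    IsIso (bcD aG aG' σ 0 F) ↔ IsIso (bcM aG aG' σ.hom F) := by
  have e := bcD_zero aG aG' σ F
  rw [← isIso_comp_left_iff (Lg.map (Pf.toRightDerivedZero.app F)) (bcD aG aG' σ 0 F), e, isIso_comp_right_iff]

section Quot

open AlgebraicGeometry

theorem isIso_bcQ_zero_iff {X S X' S' : Scheme.{u}} (f : X ⟶ S) (g : S' ⟶ S) (f' : X' ⟶ S') (g' : X' ⟶ X)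
    (w : g' ≫ f = f' ≫ g) [PreservesFiniteLimits (EtCoh.pull g')] (F : EtCoh.Ab X) :
    IsIso (EtBC.bcQ f g f' g' w 0 F) ↔ IsIso (EtCoh.baseChange0 f g f' g' w F) := by
  have := Unr55.EtSh.preservesFiniteLimits_pull g
  have : PreservesLimitsOfSize.{0, 0} (EtCoh.push f) := (EtCoh.pullPushAdj f).rightAdjoint_preservesLimits
  have : PreservesLimitsOfSize.{0, 0} (EtCoh.push f') := (EtCoh.pullPushAdj f').rightAdjoint_preservesLimits
  rw [bcQ_eq]
  exact isIso_bcD_zero_iff (Pf := EtCoh.push f) (Pf' := EtCoh.push f') (EtCoh.pullPushAdj g) (EtCoh.pullPushAdj g')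
    (sqIso AbU f g f' g' w) F

end Quot

end Groth.Agent.EtBC48
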