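import Groth.Agent.EtBC48.Mate
import Groth.Agent.Mod48.KInjDerived
import Groth.Agent.Mod48.EquivCohIn

/-!
Base change maps on unbounded derived categories, computed on K-injective complexes.
-/

universe w₁ w₂ w₃ w₄ w₅ w₆ v₁ v₂ v₃ v₄ v₅ v₆ u₁ u₂ u₃ u₄ u₅ u₆

set_option autoImplicit false
set_option backward.isDefEq.respectTransparency.types false

open CategoryTheory CategoryTheory.Limits HomologicalComplex DerivedCategory

namespace Groth.Agent.EtBC48

section KInj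

variable {B : Type u₁} [Category.{v₁} B] [Abelian B] {C : Type u₂} [Category.{v₂} C] [Abelian C]
  {L : B ⥤ C} {P : C ⥤ B} (adj : L ⊣ P) [L.Additive] [P.Additive]
  [PreservesFiniteLimits L] [PreservesFiniteColimits L]

include adj in
/-- A right adjoint of an exact functor preserves K-injective complexes. -/
theorem isKInjective_map (I : CochainComplex C ℤ) [I.IsKInjective] :
    CochainComplex.IsKInjective ((P.mapHomologicalComplex (ComplexShape.up ℤ)).obj I) := by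
  refine ⟨fun {M} f hM => ⟨HomotopyCategory.homotopyOfEq _ _ ?_⟩⟩
  rw [Functor.map_zero]
  have hLM : ((L.mapHomologicalComplex (ComplexShape.up ℤ)).obj M).Acyclic := fun i => (hM i).map L
  let a := Mod48.adjHomotopy adj
  refine (a.homEquiv ((HomotopyCategory.quotient B _).obj M) ((HomotopyCategory.quotient C _).obj I)).symm.injective ?_
  have key : ∀ t : (HomotopyCategory.quotient C (ComplexShape.up ℤ)).obj ((L.mapHomologicalComplex _).obj M) ⟶
      (HomotopyCategory.quotient C _).obj I, t = 0 := fun t =>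
    CochainComplex.IsKInjective.rightOrthogonal I t
      ((HomotopyCategory.quotient_obj_mem_subcategoryAcyclic_iff_acyclic _).2 hLM)
  exact (key _).trans (key _).symm

end KInj

section Q

variable {A : Type u₁} [Category.{v₁} A] [Abelian A] [HasDerivedCategory.{w₁} A]

theorem isIso_Qh_map_iff {K L : CochainComplex A ℤ} (f : K ⟶ L) :
    IsIso (Qh.map ((HomotopyCategory.quotient A (ComplexShape.up ℤ)).map f)) ↔ QuasiIso f :=
  (NatIso.isIso_map_iff (quotientCompQhIso A) f).trans (isIso_Q_map_iff_quasiIso A f)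

theorem isIso_mapDerived_Qh_map_iff {B : Type u₂} [Category.{v₂} B] [Abelian B] [HasDerivedCategory.{w₂} B]
    (L : A ⥤ B) [L.Additive] [PreservesFiniteLimits L] [PreservesFiniteColimits L] {K K' : CochainComplex A ℤ}
    (f : K ⟶ K') :
    IsIso (L.mapDerivedCategory.map (Qh.map ((HomotopyCategory.quotient A (ComplexShape.up ℤ)).map f))) ↔
      QuasiIso ((L.mapHomologicalComplex (ComplexShape.up ℤ)).map f) :=
  (NatIso.isIso_map_iff L.mapDerivedCategoryFactorsh ((HomotopyCategory.quotient A (ComplexShape.up ℤ)).map f)).trans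
    (isIso_Qh_map_iff ((L.mapHomologicalComplex (ComplexShape.up ℤ)).map f))

end Q

theorem isIso_map_iff_of_fac {C : Type*} [Category C] {D : Type*} [Category D] (Φ : C ⥤ D) {A₁ A₂ B₁ B₂ : C}
    {a : A₁ ⟶ A₂} {b : A₂ ⟶ B₂} {c : A₁ ⟶ B₁} {d : B₁ ⟶ B₂} (h : a ≫ b = c ≫ d) (_ : IsIso a) (_ : IsIso c) :
    IsIso (Φ.map b) ↔ IsIso (Φ.map d) := by
  rw [← isIso_comp_left_iff (Φ.map a) (Φ.map b), ← Φ.map_comp, h, Φ.map_comp, isIso_comp_left_iff]

theorem isIso_map_iff_of_fac' {C : Type*} [Category C] {D : Type*} [Category D] (Φ : C ⥤ D) {A₁ A₂ B₁ B₂ B₃ : C}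
    {x : A₁ ⟶ A₂} {m : A₂ ⟶ B₁} {r : B₁ ⟶ B₂} {p : A₂ ⟶ B₃} {j : B₃ ⟶ B₂} {y : A₁ ⟶ B₃} (h : m ≫ r = p ≫ j)
    (hy : x ≫ p = y) (_ : IsIso r) (_ : IsIso j) : IsIso (Φ.map (x ≫ m)) ↔ IsIso (Φ.map y) := by
  rw [← isIso_comp_right_iff (Φ.map (x ≫ m)) (Φ.map r), ← Φ.map_comp, Category.assoc, h, ← Category.assoc, hy,
    Φ.map_comp, isIso_comp_right_iff]

section Square

variable {CX : Type u₁} [Category.{v₁} CX] [Abelian CX] [HasDerivedCategory.{w₁} CX]
  {CS : Type u₂} [Category.{v₂} CS] [Abelian CS] [HasDerivedCategory.{w₂} CS]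
  {CX' : Type u₃} [Category.{v₃} CX'] [Abelian CX'] [HasDerivedCategory.{w₃} CX']
  {CS' : Type u₄} [Category.{v₄} CS'] [Abelian CS'] [HasDerivedCategory.{w₄} CS']
  {Pf : CX ⥤ CS} {Pf' : CX' ⥤ CS'} {Lg : CS ⥤ CS'} {Pg : CS' ⥤ CS} {Lg' : CX ⥤ CX'} {Pg' : CX' ⥤ CX}
  [Pf.Additive] [Pf'.Additive] [Lg.Additive] [Pg.Additive] [Lg'.Additive] [Pg'.Additive]
  [PreservesFiniteLimits Lg] [PreservesFiniteColimits Lg] [PreservesFiniteLimits Lg'] [PreservesFiniteColimits Lg']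
  (aG : Lg ⊣ Pg) (aG' : Lg' ⊣ Pg') (σ : Pg' ⋙ Pf ≅ Pf' ⋙ Pg)
  {RF : DerivedCategory CX ⥤ DerivedCategory CS} {RF' : DerivedCategory CX' ⥤ DerivedCategory CS'}
  {RG : DerivedCategory CS' ⥤ DerivedCategory CS}
  (α : Pf.mapHomotopyCategory (ComplexShape.up ℤ) ⋙ Qh ⟶ Qh ⋙ RF)
  (α' : Pf'.mapHomotopyCategory (ComplexShape.up ℤ) ⋙ Qh ⟶ Qh ⋙ RF')
  (γ : Pg.mapHomotopyCategory (ComplexShape.up ℤ) ⋙ Qh ⟶ Qh ⋙ RG)

/-- The adjoint base change map on complexes. -/
noncomputable def unitCx (K : CochainComplex CX ℤ) :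
    (Pf.mapHomologicalComplex (ComplexShape.up ℤ)).obj K ⟶
      (Pg.mapHomologicalComplex (ComplexShape.up ℤ)).obj ((Pf'.mapHomologicalComplex (ComplexShape.up ℤ)).obj
        ((Lg'.mapHomologicalComplex (ComplexShape.up ℤ)).obj K)) where
  f n := Pf.map (aG'.unit.app (K.X n)) ≫ σ.hom.app (Lg'.obj (K.X n))
  comm' i j _ := by
    have h1 := Pf.congr_map (aG'.unit.naturality (K.d i j))
    have h2 := σ.hom.naturality (Lg'.map (K.d i j))
    simp only [Functor.id_map, Functor.comp_map, Functor.map_comp] at h1 h2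
    change (_ ≫ _) ≫ Pg.map (Pf'.map (Lg'.map (K.d i j))) = Pf.map (K.d i j) ≫ _ ≫ _
    rw [Category.assoc, ← h2, reassoc_of% h1]

/-- The base change map on complexes. -/
noncomputable abbrev bcCxZ (K : CochainComplex CX ℤ) :
    (Lg.mapHomologicalComplex (ComplexShape.up ℤ)).obj ((Pf.mapHomologicalComplex (ComplexShape.up ℤ)).obj K) ⟶
      (Pf'.mapHomologicalComplex (ComplexShape.up ℤ)).obj ((Lg'.mapHomologicalComplex (ComplexShape.up ℤ)).obj K) :=
  (NatTrans.mapHomologicalComplex (bcNat aG aG' σ.hom) (ComplexShape.up ℤ)).app K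

/-- The characterisation of the adjoint base change map. -/
def IsBCAdj (β : RF ⟶ Lg'.mapDerivedCategory ⋙ RF' ⋙ RG) : Prop :=
  ∀ K : CochainComplex CX ℤ, α.app ((HomotopyCategory.quotient CX _).obj K) ≫
      β.app (Qh.obj ((HomotopyCategory.quotient CX _).obj K)) =
    Qh.map ((HomotopyCategory.quotient CS _).map (unitCx aG' σ K)) ≫
      γ.app ((HomotopyCategory.quotient CS' _).obj ((Pf'.mapHomologicalComplex _).obj ((Lg'.mapHomologicalComplex _).obj K))) ≫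
        RG.map (α'.app ((HomotopyCategory.quotient CX' _).obj ((Lg'.mapHomologicalComplex _).obj K)) ≫
          RF'.map (Lg'.mapDerivedCategoryFactorsh.inv.app ((HomotopyCategory.quotient CX _).obj K)))

variable [RF.IsRightDerivedFunctor α (HomotopyCategory.quasiIso CX (ComplexShape.up ℤ))]
  [RF'.IsRightDerivedFunctor α' (HomotopyCategory.quasiIso CX' (ComplexShape.up ℤ))]
  [RG.IsRightDerivedFunctor γ (HomotopyCategory.quasiIso CS' (ComplexShape.up ℤ))]
  (hX : Mod48.EnoughKInj CX) (hX' : Mod48.EnoughKInj CX') (hS' : Mod48.EnoughKInj CS')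
  {β : RF ⟶ Lg'.mapDerivedCategory ⋙ RF' ⋙ RG} (hβ : IsBCAdj aG' σ α α' γ β)
  (adj : Lg.mapDerivedCategory ⊣ RG)

/-- The base change map attached to an adjunction. -/
noncomputable def bcT (β : RF ⟶ Lg'.mapDerivedCategory ⋙ RF' ⋙ RG) (K : DerivedCategory CX) :
    Lg.mapDerivedCategory.obj (RF.obj K) ⟶ RF'.obj (Lg'.mapDerivedCategory.obj K) :=
  (adj.homEquiv _ _).symm (β.app K)

omit [RF.IsRightDerivedFunctor α (HomotopyCategory.quasiIso CX (ComplexShape.up ℤ))] in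
theorem bcT_natural {K K' : DerivedCategory CX} (f : K ⟶ K') :
    Lg.mapDerivedCategory.map (RF.map f) ≫ bcT adj β K' = bcT adj β K ≫ RF'.map (Lg'.mapDerivedCategory.map f) :=
  (adj.homEquiv_naturality_left_symm _ _).symm.trans
    ((congrArg (adj.homEquiv _ _).symm (β.naturality f)).trans (adj.homEquiv_naturality_right_symm _ _))

omit [RF.IsRightDerivedFunctor α (HomotopyCategory.quasiIso CX (ComplexShape.up ℤ))] in
theorem isIso_map_bcT_iff_of_iso {D : Type*} [Category D] (Φ : DerivedCategory CS' ⥤ D) {K K' : DerivedCategory CX}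
    (e : K ≅ K') : IsIso (Φ.map (bcT adj β K)) ↔ IsIso (Φ.map (bcT adj β K')) := by
  have h := congrArg Φ.map (bcT_natural (β := β) adj e.hom)
  rw [Φ.map_comp, Φ.map_comp] at h
  exact (isIso_comp_right_iff _ (Φ.map (RF'.map (Lg'.mapDerivedCategory.map e.hom)))).symm.trans
    ((Eq.to_iff (congrArg IsIso h.symm)).trans (isIso_comp_left_iff _ _))

omit [RF.IsRightDerivedFunctor α (HomotopyCategory.quasiIso CX (ComplexShape.up ℤ))] in
theorem isIso_map_bcT_iff_adj {D : Type*} [Category D] (Φ : DerivedCategory CS' ⥤ D)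
    (adj' : Lg.mapDerivedCategory ⊣ RG) (K : DerivedCategory CX) :
    IsIso (Φ.map (bcT adj β K)) ↔ IsIso (Φ.map (bcT adj' β K)) := by
  have h : bcT adj' β K = (adj'.leftAdjointUniq adj).hom.app (RF.obj K) ≫ bcT adj β K := by
    simp only [bcT, Adjunction.homEquiv_counit]
    rw [← NatTrans.naturality_assoc, Adjunction.leftAdjointUniq_hom_app_counit]
  rw [h, Φ.map_comp, isIso_comp_left_iff]

include hX hX' hS' hβ in
/-- Computation of the base change map on a K-injective complex. -/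
theorem isIso_map_bcT_iff {D : Type*} [Category D] (Φ : DerivedCategory CS' ⥤ D) {K : DerivedCategory CX}
    (I : CochainComplex CX ℤ) [I.IsKInjective] (e : Qh.obj ((HomotopyCategory.quotient CX _).obj I) ≅ K)
    {J : CochainComplex CX' ℤ} [J.IsKInjective] (φ : (Lg'.mapHomologicalComplex (ComplexShape.up ℤ)).obj I ⟶ J)
    [QuasiIso φ] :
    IsIso (Φ.map (bcT adj β K)) ↔
      IsIso (Φ.map (Qh.map ((HomotopyCategory.quotient CS' _).map
        (bcCxZ aG aG' σ I ≫ (Pf'.mapHomologicalComplex _).map φ)))) := by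
  let adj₀ : Lg.mapDerivedCategory ⊣ RG := Mod48.derivedAdj aG hS' RG γ
  let Iq := (HomotopyCategory.quotient CX (ComplexShape.up ℤ)).obj I
  rw [← isIso_map_bcT_iff_of_iso adj Φ e, isIso_map_bcT_iff_adj adj Φ adj₀]
  let P := (HomotopyCategory.quotient CS' (ComplexShape.up ℤ)).obj
    ((Pf'.mapHomologicalComplex _).obj ((Lg'.mapHomologicalComplex _).obj I))
  let m : Qh.obj P ⟶ RF'.obj (Lg'.mapDerivedCategory.obj (Qh.obj Iq)) :=
    α'.app ((HomotopyCategory.quotient CX' _).obj ((Lg'.mapHomologicalComplex _).obj I)) ≫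
      RF'.map (Lg'.mapDerivedCategoryFactorsh.inv.app Iq)
  have ha : IsIso (α.app Iq) := Mod48.isIso_unit_of_kInjective RF α hX I inferInstance
  have hfac : Lg.mapDerivedCategory.map (γ.app P) ≫ adj₀.counit.app (Qh.obj P) =
      Lg.mapDerivedCategoryFactorsh.hom.app ((Pg.mapHomotopyCategory _).obj P) ≫
        Qh.map ((Mod48.adjHomotopy aG).counit.app P) := by
    have : Lg.mapDerivedCategory.IsLeftDerivedFunctor Lg.mapDerivedCategoryFactorsh.hom
        (HomotopyCategory.quasiIso CS (ComplexShape.up ℤ)) :=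
      Functor.isLeftDerivedFunctor_of_inverts _ Lg.mapDerivedCategory Lg.mapDerivedCategoryFactorsh
    have : (RG ⋙ Lg.mapDerivedCategory).IsRightDerivedFunctor
        (Functor.whiskerRight γ Lg.mapDerivedCategory ≫ (Functor.associator _ _ _).hom)
        (HomotopyCategory.quasiIso CS' (ComplexShape.up ℤ)) :=
      Mod48.isRightDerivedFunctor_comp RG γ hS' Lg.mapDerivedCategory _ rfl
    exact (Mod48.adjHomotopy aG).derivedε_fac_app (HomotopyCategory.quasiIso CS' (ComplexShape.up ℤ))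
      Lg.mapDerivedCategoryFactorsh.hom γ P
  have hcx : (Lg.mapHomologicalComplex _).map (unitCx aG' σ I) ≫
      Mod48.cxCounit aG ((Pf'.mapHomologicalComplex _).obj ((Lg'.mapHomologicalComplex _).obj I)) =
      bcCxZ aG aG' σ I := by
    ext n
    exact (aG.homEquiv_counit _ _ _).symm
  have hq : Qh.map ((Lg.mapHomotopyCategory _).map ((HomotopyCategory.quotient CS _).map (unitCx aG' σ I))) ≫
      Qh.map ((Mod48.adjHomotopy aG).counit.app P) =
      Qh.map ((HomotopyCategory.quotient CS' _).map (bcCxZ aG aG' σ I)) :=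
    (Qh.map_comp _ _).symm.trans (congrArg Qh.map
      (((HomotopyCategory.quotient CS' _).map_comp _ _).symm.trans (congrArg _ hcx)))
  have key : Lg.mapDerivedCategory.map (α.app Iq) ≫ bcT adj₀ β (Qh.obj Iq) =
      Lg.mapDerivedCategoryFactorsh.hom.app ((HomotopyCategory.quotient CS _).obj ((Pf.mapHomologicalComplex _).obj I)) ≫
        Qh.map ((HomotopyCategory.quotient CS' _).map (bcCxZ aG aG' σ I)) ≫ m := by
    refine (adj₀.homEquiv_naturality_left_symm _ _).symm.trans ?_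
    refine (congrArg (adj₀.homEquiv _ _).symm ((hβ I).trans (Category.assoc _ _ _).symm)).trans ?_
    refine (adj₀.homEquiv_naturality_right_symm _ m).trans ?_
    refine Eq.trans ?_ (Category.assoc _ _ _)
    refine congrArg (· ≫ m) ?_
    refine (adj₀.homEquiv_counit _ _ _).trans ?_
    refine (congrArg (· ≫ _) (Functor.map_comp _ _ _)).trans ((Category.assoc _ _ _).trans ?_)
    refine (congrArg (_ ≫ ·) hfac).trans ((Category.assoc _ _ _).symm.trans ?_)
    refine (congrArg (· ≫ _) (Lg.mapDerivedCategoryFactorsh.hom.naturality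
      ((HomotopyCategory.quotient CS _).map (unitCx aG' σ I)))).trans ((Category.assoc _ _ _).trans ?_)
    exact congrArg (_ ≫ ·) hq
  rw [isIso_map_iff_of_fac Φ key inferInstance ((Lg.mapDerivedCategoryFactorsh.app _).isIso_hom)]
  let φq := (HomotopyCategory.quotient CX' (ComplexShape.up ℤ)).map φ
  have hφq : IsIso (Qh.map φq) := (isIso_Qh_map_iff φ).2 inferInstance
  have hJ : IsIso (α'.app ((HomotopyCategory.quotient CX' _).obj J)) :=
    Mod48.isIso_unit_of_kInjective RF' α' hX' J inferInstance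
  have hr : IsIso (Lg'.mapDerivedCategoryFactorsh.hom.app Iq ≫ Qh.map φq) :=
    @IsIso.comp_isIso _ _ _ _ _ _ _ inferInstance hφq
  have hm : m ≫ RF'.map (Lg'.mapDerivedCategoryFactorsh.hom.app Iq ≫ Qh.map φq) =
      Qh.map ((HomotopyCategory.quotient CS' _).map ((Pf'.mapHomologicalComplex _).map φ)) ≫
        α'.app ((HomotopyCategory.quotient CX' _).obj J) := by
    refine (Category.assoc _ _ _).trans ?_
    refine (congrArg (α'.app _ ≫ ·) ((RF'.map_comp _ _).symm.trans (congrArg RF'.map ?_))).trans (α'.naturality φq).symm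
    exact Iso.inv_hom_id_app_assoc Lg'.mapDerivedCategoryFactorsh Iq (Qh.map φq)
  exact isIso_map_iff_of_fac' Φ hm ((Qh.map_comp _ _).symm.trans (congrArg Qh.map (Functor.map_comp _ _ _).symm))
    (Functor.map_isIso RF' _) hJ

include hX hX' hS' hβ in
/-- The base change map is an isomorphism iff the map of complexes is a quasi-isomorphism. -/
theorem isIso_bcT_iff {K : DerivedCategory CX}
    (I : CochainComplex CX ℤ) [I.IsKInjective] (e : Qh.obj ((HomotopyCategory.quotient CX _).obj I) ≅ K)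
    {J : CochainComplex CX' ℤ} [J.IsKInjective] (φ : (Lg'.mapHomologicalComplex (ComplexShape.up ℤ)).obj I ⟶ J)
    [QuasiIso φ] :
    IsIso (bcT adj β K) ↔ QuasiIso (bcCxZ aG aG' σ I ≫ (Pf'.mapHomologicalComplex _).map φ) :=
  (isIso_map_bcT_iff aG aG' σ α α' γ hX hX' hS' hβ adj (𝟭 _) I e φ).trans (isIso_Qh_map_iff _)

include hX hX' hS' hβ in
/-- If `g'⁻¹` preserves K-injective complexes, the degree zero base change maps decide. -/
theorem isIso_bcT_of_kInjective (hL : ∀ I : CochainComplex CX ℤ, I.IsKInjective →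
      CochainComplex.IsKInjective ((Lg'.mapHomologicalComplex (ComplexShape.up ℤ)).obj I))
    (h : ∀ G, IsIso (bcM aG aG' σ.hom G)) (K : DerivedCategory CX) : IsIso (bcT adj β K) := by
  obtain ⟨I, hI, ⟨e⟩⟩ := Mod48.exists_Qh_iso_kInjective CX hX K
  have := hL I hI
  rw [isIso_bcT_iff aG aG' σ α α' γ hX hX' hS' hβ adj I e (𝟙 _)]
  have : ∀ i, IsIso ((bcCxZ aG aG' σ I).f i) := fun i => h _
  have := HomologicalComplex.Hom.isIso_of_components (bcCxZ aG aG' σ I)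
  rw [CategoryTheory.Functor.map_id, Category.comp_id]
  infer_instance

end Square

section Paste

variable {CX : Type u₁} [Category.{v₁} CX] [Abelian CX] [HasDerivedCategory.{w₁} CX]
  {CS : Type u₂} [Category.{v₂} CS] [Abelian CS] [HasDerivedCategory.{w₂} CS]
  {CX' : Type u₃} [Category.{v₃} CX'] [Abelian CX'] [HasDerivedCategory.{w₃} CX']
  {CS' : Type u₄} [Category.{v₄} CS'] [Abelian CS'] [HasDerivedCategory.{w₄} CS']
  {CW : Type u₅} [Category.{v₅} CW] [Abelian CW] [HasDerivedCategory.{w₅} CW]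
  {CZ : Type u₆} [Category.{v₆} CZ] [Abelian CZ] [HasDerivedCategory.{w₆} CZ]
  {Pf : CX ⥤ CS} {Pf' : CX' ⥤ CS'} {Lg : CS ⥤ CS'} {Pg : CS' ⥤ CS} {Lg' : CX ⥤ CX'} {Pg' : CX' ⥤ CX}
  [Pf.Additive] [Pf'.Additive] [Lg.Additive] [Pg.Additive] [Lg'.Additive] [Pg'.Additive]
  [PreservesFiniteLimits Lg] [PreservesFiniteColimits Lg] [PreservesFiniteLimits Lg'] [PreservesFiniteColimits Lg']
  {Li : CS' ⥤ CW} {Pi' : CW ⥤ CS'} {Lk : CX' ⥤ CZ} {Pk : CZ ⥤ CX'} {Pj : CZ ⥤ CW}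
  [Li.Additive] [Pi'.Additive] [Lk.Additive] [Pk.Additive] [Pj.Additive]
  [PreservesFiniteLimits Li] [PreservesFiniteColimits Li] [PreservesFiniteLimits Lk] [PreservesFiniteColimits Lk]
  {P3 : CW ⥤ CS} {P3' : CZ ⥤ CX} {L3 : CS ⥤ CW} {L3' : CX ⥤ CZ}
  [P3.Additive] [P3'.Additive] [L3.Additive] [L3'.Additive]
  [PreservesFiniteLimits L3] [PreservesFiniteColimits L3] [PreservesFiniteLimits L3'] [PreservesFiniteColimits L3']
  (aG : Lg ⊣ Pg) (aG' : Lg' ⊣ Pg') (σ : Pg' ⋙ Pf ≅ Pf' ⋙ Pg)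
  (aI : Li ⊣ Pi') (aK : Lk ⊣ Pk) (τ : Pk ⋙ Pf' ≅ Pj ⋙ Pi')
  (c : Pi' ⋙ Pg ≅ P3) (c' : Pk ⋙ Pg' ≅ P3') (a3 : L3 ⊣ P3) (a3' : L3' ⊣ P3') (ρ : P3' ⋙ Pf ≅ Pj ⋙ P3)
  (hρ : ∀ G : CZ, Pf.map (c'.hom.app G) ≫ ρ.hom.app G =
    σ.hom.app (Pk.obj G) ≫ Pg.map (τ.hom.app G) ≫ c.hom.app (Pj.obj G))
  {RF : DerivedCategory CX ⥤ DerivedCategory CS} {RF' : DerivedCategory CX' ⥤ DerivedCategory CS'}
  {RJ : DerivedCategory CZ ⥤ DerivedCategory CW}
  {RG : DerivedCategory CS' ⥤ DerivedCategory CS} {RI : DerivedCategory CW ⥤ DerivedCategory CS'}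
  {R3 : DerivedCategory CW ⥤ DerivedCategory CS}
  (α : Pf.mapHomotopyCategory (ComplexShape.up ℤ) ⋙ Qh ⟶ Qh ⋙ RF)
  (α' : Pf'.mapHomotopyCategory (ComplexShape.up ℤ) ⋙ Qh ⟶ Qh ⋙ RF')
  (αj : Pj.mapHomotopyCategory (ComplexShape.up ℤ) ⋙ Qh ⟶ Qh ⋙ RJ)
  (γ : Pg.mapHomotopyCategory (ComplexShape.up ℤ) ⋙ Qh ⟶ Qh ⋙ RG)
  (γi : Pi'.mapHomotopyCategory (ComplexShape.up ℤ) ⋙ Qh ⟶ Qh ⋙ RI)
  (γ3 : P3.mapHomotopyCategory (ComplexShape.up ℤ) ⋙ Qh ⟶ Qh ⋙ R3)
  [RF.IsRightDerivedFunctor α (HomotopyCategory.quasiIso CX (ComplexShape.up ℤ))]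
  [RF'.IsRightDerivedFunctor α' (HomotopyCategory.quasiIso CX' (ComplexShape.up ℤ))]
  [RJ.IsRightDerivedFunctor αj (HomotopyCategory.quasiIso CZ (ComplexShape.up ℤ))]
  [RG.IsRightDerivedFunctor γ (HomotopyCategory.quasiIso CS' (ComplexShape.up ℤ))]
  [RI.IsRightDerivedFunctor γi (HomotopyCategory.quasiIso CW (ComplexShape.up ℤ))]
  [R3.IsRightDerivedFunctor γ3 (HomotopyCategory.quasiIso CW (ComplexShape.up ℤ))]
  (hX : Mod48.EnoughKInj CX) (hX' : Mod48.EnoughKInj CX') (hZ : Mod48.EnoughKInj CZ)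
  (hS' : Mod48.EnoughKInj CS') (hW : Mod48.EnoughKInj CW)
  {β : RF ⟶ Lg'.mapDerivedCategory ⋙ RF' ⋙ RG} (hβ : IsBCAdj aG' σ α α' γ β)
  {β₂ : RF' ⟶ Lk.mapDerivedCategory ⋙ RJ ⋙ RI} (hβ₂ : IsBCAdj aK τ α' αj γi β₂)
  {β₃ : RF ⟶ L3'.mapDerivedCategory ⋙ RJ ⋙ R3} (hβ₃ : IsBCAdj a3' ρ α αj γ3 β₃)
  (adjG : Lg.mapDerivedCategory ⊣ RG) (adjI : Li.mapDerivedCategory ⊣ RI) (adj3 : L3.mapDerivedCategory ⊣ R3)
  (K : DerivedCategory CX)

include aG aG' aI aK c c' a3 a3' hX hX' hZ hS' hW hβ hβ₂ hβ₃ hρ in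
set_option maxHeartbeats 1000000 in
theorem exists_paste_criterion_D : ∃ (K₁ K₂ : CochainComplex CS' ℤ) (ψ₁ : K₁ ⟶ K₂)
    (K₃ : CochainComplex CW ℤ) (ψ₂ : (Li.mapHomologicalComplex _).obj K₂ ⟶ K₃),
    (IsIso (bcT adjG β K) ↔ QuasiIso ψ₁) ∧
    (IsIso (Li.mapDerivedCategory.map (bcT adjG β K)) ↔ QuasiIso ((Li.mapHomologicalComplex _).map ψ₁)) ∧
    (IsIso (bcT adjI β₂ (Lg'.mapDerivedCategory.obj K)) ↔ QuasiIso ψ₂) ∧
    (IsIso (bcT adj3 β₃ K) ↔ QuasiIso ((Li.mapHomologicalComplex _).map ψ₁ ≫ ψ₂)) := by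
  obtain ⟨I, hI, ⟨e⟩⟩ := Mod48.exists_Qh_iso_kInjective CX hX K
  obtain ⟨I₁, φ, hI₁, hφ⟩ := hX' ((Lg'.mapHomologicalComplex (ComplexShape.up ℤ)).obj I)
  obtain ⟨I₂, χ, hI₂, hχ⟩ := hZ ((Lk.mapHomologicalComplex (ComplexShape.up ℤ)).obj I₁)
  let A' := (aG'.comp aK).ofNatIsoRight c'
  let A := (aG.comp aI).ofNatIsoRight c
  let θ' := a3'.leftAdjointUniq A'
  let θ := a3.leftAdjointUniq A
  let Θ' : (L3'.mapHomologicalComplex (ComplexShape.up ℤ)).obj I ≅
      (Lk.mapHomologicalComplex _).obj ((Lg'.mapHomologicalComplex _).obj I) :=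
    HomologicalComplex.Hom.isoOfComponents (fun i => θ'.app (I.X i))
      fun i j _ => (θ'.hom.naturality (I.d i j)).symm
  let φ₃ : (L3'.mapHomologicalComplex (ComplexShape.up ℤ)).obj I ⟶ I₂ :=
    Θ'.hom ≫ (Lk.mapHomologicalComplex _).map φ ≫ χ
  have : QuasiIso φ₃ := inferInstance
  let ψ₁ := bcCxZ aG aG' σ I ≫ (Pf'.mapHomologicalComplex _).map φ
  have : IsIso (Qh.map ((HomotopyCategory.quotient CX' _).map φ)) := (isIso_Qh_map_iff φ).2 hφ
  let e₁ : Qh.obj ((HomotopyCategory.quotient CX' _).obj I₁) ≅ Lg'.mapDerivedCategory.obj K :=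
    (asIso (Qh.map ((HomotopyCategory.quotient CX' _).map φ))).symm ≪≫
      (Lg'.mapDerivedCategoryFactorsh.app ((HomotopyCategory.quotient CX _).obj I)).symm ≪≫
        Lg'.mapDerivedCategory.mapIso e
  refine ⟨_, _, ψ₁, _, bcCxZ aI aK τ I₁ ≫ (Pj.mapHomologicalComplex _).map χ,
    isIso_bcT_iff aG aG' σ α α' γ hX hX' hS' hβ adjG I e φ,
    (isIso_map_bcT_iff aG aG' σ α α' γ hX hX' hS' hβ adjG Li.mapDerivedCategory I e φ).trans
      (isIso_mapDerived_Qh_map_iff Li ψ₁),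
    isIso_bcT_iff aI aK τ α' αj γi hX' hZ hW hβ₂ adjI I₁ e₁ χ, ?_⟩
  rw [isIso_bcT_iff a3 a3' ρ α αj γ3 hX hZ hW hβ₃ adj3 I e φ₃]
  let ψ₃ := bcCxZ a3 a3' ρ I ≫ (Pj.mapHomologicalComplex _).map φ₃
  let Θ : (L3.mapHomologicalComplex (ComplexShape.up ℤ)).obj ((Pf.mapHomologicalComplex _).obj I) ≅
      (Li.mapHomologicalComplex _).obj ((Lg.mapHomologicalComplex _).obj ((Pf.mapHomologicalComplex _).obj I)) :=
    HomologicalComplex.Hom.isoOfComponents (fun i => θ.app (Pf.obj (I.X i)))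
      fun i j _ => (θ.hom.naturality (Pf.map (I.d i j))).symm
  have e' : ψ₃ = Θ.hom ≫ ((Li.mapHomologicalComplex _).map ψ₁ ≫
      (bcCxZ aI aK τ I₁ ≫ (Pj.mapHomologicalComplex _).map χ)) := by
    ext i
    have h1 := bcM_change a3 a3' ρ.hom A A' (I.X i)
    rw [bcM_comp aG aG' σ.hom aI aK τ.hom c c' ρ.hom hρ] at h1
    have h2 := bcM_natural aI aK τ.hom (φ.f i)
    simp only [ψ₁, ψ₃, φ₃, Θ, Θ', HomologicalComplex.comp_f, HomologicalComplex.Hom.isoOfComponents_hom_f,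
      Functor.mapHomologicalComplex_map_f, NatTrans.mapHomologicalComplex_app_f, bcNat_app, Iso.app_hom,
      Functor.map_comp, Category.assoc]
    exact ((reassoc_of% h1.symm) (Pj.map (Lk.map (φ.f i)) ≫ Pj.map (χ.f i))).trans
      (congrArg (fun t => _ ≫ _ ≫ t) ((reassoc_of% h2.symm) _))
  change QuasiIso ψ₃ ↔ _
  rw [e', quasiIso_iff_comp_left]

include aG aG' aI aK c c' a3 a3' hX hX' hZ hS' hW hβ hβ₂ hβ₃ hρ in
/-- If the first square is a base change isomorphism, the second is one iff the composite is. -/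
theorem isIso_bcT_vcomp (h₁ : IsIso (bcT adjG β K)) :
    IsIso (bcT adj3 β₃ K) ↔ IsIso (bcT adjI β₂ (Lg'.mapDerivedCategory.obj K)) := by
  obtain ⟨K₁, K₂, ψ₁, K₃, ψ₂, e₁, e₁', e₂, e₃⟩ :=
    exists_paste_criterion_D aG aG' σ aI aK τ c c' a3 a3' ρ hρ α α' αj γ γi γ3 hX hX' hZ hS' hW hβ hβ₂ hβ₃
      adjG adjI adj3 K
  have := e₁.1 h₁
  rw [e₃, e₂, quasiIso_iff_comp_left]

include aG aG' aI aK c c' a3 a3' hX hX' hZ hS' hW hβ hβ₂ hβ₃ hρ in
/-- If the second square is a base change isomorphism, the first is one after inverse image iff the composite is. -/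
theorem isIso_bcT_vcomp' (h₂ : IsIso (bcT adjI β₂ (Lg'.mapDerivedCategory.obj K))) :
    IsIso (bcT adj3 β₃ K) ↔ IsIso (Li.mapDerivedCategory.map (bcT adjG β K)) := by
  obtain ⟨K₁, K₂, ψ₁, K₃, ψ₂, e₁, e₁', e₂, e₃⟩ :=
    exists_paste_criterion_D aG aG' σ aI aK τ c c' a3 a3' ρ hρ α α' αj γ γi γ3 hX hX' hZ hS' hW hβ hβ₂ hβ₃
      adjG adjI adj3 K
  have := e₂.1 h₂
  rw [e₃, e₁', quasiIso_iff_comp_right]

end Paste

end Groth.Agent.EtBC48
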