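import Groth.Agent.EtBC48.Mate
import Groth.Prelude.Def_RDer
import Mathlib.Algebra.Homology.ShortComplex.PreservesHomology
import Mathlib.Algebra.Homology.Additive

/-!
Base change maps of higher direct images, computed on complexes.
-/

universe v₁ v₂ v₃ v₄ v₅ v₆ u₁ u₂ u₃ u₄ u₅ u₆

set_option autoImplicit false
set_option backward.isDefEq.respectTransparency.types false

open CategoryTheory CategoryTheory.Limits HomologicalComplex

namespace Groth.Agent.EtBC48

section Homotopy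

variable {A : Type u₁} [Category.{v₁} A] [Abelian A] {Y : A} (K : CochainComplex A ℕ)
  (ι : (CochainComplex.single₀ A).obj Y ⟶ K) [QuasiIso ι] {L : CochainComplex A ℕ} [∀ n, Injective (L.X n)]

/-- A map from a resolution to a complex of injectives vanishing on the resolved object is null homotopic. -/
theorem nonempty_homotopy_zero (f : K ⟶ L) (h : ι.f 0 ≫ f.f 0 = 0) : Nonempty (Homotopy f 0) := by
  let h0 : K.X 1 ⟶ L.X 0 := (RDer.res_exact₀ K ι).descToInjective (f.f 0) h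
  have e0 : K.d 0 1 ≫ h0 = f.f 0 := (RDer.res_exact₀ K ι).comp_descToInjective _ _
  let h1 : K.X 2 ⟶ L.X 1 := (RDer.res_exact_succ K ι 0).descToInjective (f.f 1 - h0 ≫ L.d 0 1)
    (by rw [Preadditive.comp_sub, reassoc_of% e0, f.comm, sub_self])
  have e1 : K.d 1 2 ≫ h1 = f.f 1 - h0 ≫ L.d 0 1 := (RDer.res_exact_succ K ι 0).comp_descToInjective _ _
  refine ⟨Homotopy.mkCoinductive _ h0 (by simp [e0]) h1 (by simp [e1]) fun n ⟨g, g', w⟩ =>
    ⟨(RDer.res_exact_succ K ι (n + 1)).descToInjective (f.f (n + 2) - g' ≫ L.d _ _) ?_, ?_⟩⟩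
  · rw [Preadditive.comp_sub, ← f.comm, w, Preadditive.add_comp, Category.assoc, Category.assoc,
      HomologicalComplex.d_comp_d, comp_zero, zero_add, sub_self]
  · simp [(RDer.res_exact_succ K ι (n + 1)).comp_descToInjective]

/-- Two lifts to a complex of injectives are homotopic. -/
theorem nonempty_homotopy (f g : K ⟶ L) (h : ι.f 0 ≫ f.f 0 = ι.f 0 ≫ g.f 0) : Nonempty (Homotopy f g) := by
  obtain ⟨H⟩ := nonempty_homotopy_zero K ι (f - g)
    (by rw [HomologicalComplex.sub_f_apply, Preadditive.comp_sub, h, sub_self])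
  exact ⟨Homotopy.equivSubZero.invFun H⟩

end Homotopy

section Transpose

variable {B : Type u₁} [Category.{v₁} B] [Abelian B] {C : Type u₂} [Category.{v₂} C] [Abelian C]
  {L : B ⥤ C} {P : C ⥤ B} (adj : L ⊣ P) [L.Additive] [P.Additive] [PreservesFiniteLimits L]
  [PreservesFiniteColimits L] [PreservesFiniteLimits P] {ι : Type*} {c : ComplexShape ι}

/-- Homology commutes with an exact functor. -/
noncomputable abbrev mhi (L : B ⥤ C) [L.Additive] [PreservesFiniteLimits L] [PreservesFiniteColimits L]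
    (K : HomologicalComplex B c) (q : ι) : ((L.mapHomologicalComplex c).obj K).homology q ≅ L.obj (K.homology q) :=
  (K.sc q).mapHomologyIso L

/-- The transpose of the homology of a transposed map. -/
theorem transpose_homologyMap (K : HomologicalComplex B c) (q : ι) {K' : HomologicalComplex C c}
    (ψ : (L.mapHomologicalComplex c).obj K ⟶ K') (ψ' : K ⟶ (P.mapHomologicalComplex c).obj K')
    (hψ : ∀ i, ψ'.f i = adj.unit.app (K.X i) ≫ P.map (ψ.f i)) :
    (adj.homEquiv _ _).symm (homologyMap ψ' q ≫ RDer.homologyComparison P K' q) =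
      (mhi L K q).inv ≫ homologyMap ψ q := by
  let h := (K.sc q).leftHomologyData
  let hm := h.map L
  let LK := (L.mapHomologicalComplex c).obj K
  let M : L.obj (K.homology q) ≅ LK.homology q := L.mapIso h.homologyIso ≪≫ hm.homologyIso.symm
  have hM : (mhi L K q).inv = M.hom := by
    simp only [mhi, h.mapHomologyIso_eq L, M, hm, Iso.trans_inv, Iso.trans_hom, Functor.mapIso_inv, Functor.mapIso_hom,
      Iso.symm_inv, Iso.symm_hom]
    rfl
  rw [hM, Equiv.symm_apply_eq]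
  let z : L.obj (K.cycles q) ⟶ LK.cycles q := L.map h.cyclesIso.hom ≫ hm.cyclesIso.inv
  have hz : z ≫ LK.iCycles q = L.map (K.iCycles q) := by
    refine (Category.assoc _ _ _).trans ?_
    refine (congrArg (_ ≫ ·) hm.cyclesIso_inv_comp_iCycles).trans ?_
    exact (L.map_comp _ _).symm.trans (congrArg L.map h.cyclesIso_hom_comp_i)
  have hπ : L.map (K.homologyπ q) ≫ M.hom = z ≫ LK.homologyπ q := by
    refine (L.map_comp_assoc _ _ _).symm.trans ?_
    refine (congrArg (fun t => L.map t ≫ hm.homologyIso.inv) (h.homologyπ_comp_homologyIso_hom)).trans ?_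
    refine (L.map_comp_assoc _ _ _).trans ((congrArg (L.map h.cyclesIso.hom ≫ ·) ?_).trans (Category.assoc _ _ _).symm)
    exact hm.π_comp_homologyIso_inv
  rw [Adjunction.homEquiv_unit]
  refine (cancel_epi (K.homologyπ q)).1 ?_
  rw [homologyπ_naturality_assoc, RDer.homologyπ_homologyComparison]
  have hu := adj.unit.naturality (K.homologyπ q)
  dsimp at hu
  rw [reassoc_of% hu, ← P.map_comp, reassoc_of% hπ, homologyπ_naturality, ← Category.assoc, ← Category.assoc,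
    Functor.map_comp, Functor.map_comp, ← Category.assoc, ← Category.assoc]
  refine congrArg (· ≫ P.map (K'.homologyπ q)) ?_
  haveI : Mono (P.map (K'.iCycles q)) := inferInstance
  rw [← cancel_mono (P.map (K'.iCycles q)), Category.assoc, RDer.cyclesComparison_i]
  have hu' := adj.unit.naturality (K.iCycles q)
  dsimp at hu'
  have e : z ≫ cyclesMap ψ q ≫ K'.iCycles q = L.map (K.iCycles q) ≫ ψ.f q := by
    rw [cyclesMap_i, ← Category.assoc, hz]
    rfl
  refine (cyclesMap_i ψ' q).trans ?_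
  simp only [Category.assoc]
  rw [hψ, ← P.map_comp, ← P.map_comp, e]
  exact ((reassoc_of% hu') (P.map (ψ.f q))).trans (congrArg (_ ≫ ·) (P.map_comp _ _).symm)

end Transpose

theorem chain₄ {C : Type*} [Category C] {X₁ X₂ X₃ X₄ X₅ F G : C} {r : F ⟶ X₁} {a : X₁ ⟶ X₂} {d : X₂ ⟶ X₃}
    {c : X₃ ⟶ X₄} {b : X₄ ⟶ X₅} {i : F ⟶ X₂} {e : F ⟶ G} {m : G ⟶ X₃} {j : G ⟶ X₄} {t : G ⟶ X₅}
    (h1 : r ≫ a = i) (h2 : i ≫ d = e ≫ m) (h3 : m ≫ c = j) (h4 : j ≫ b = t) :
    r ≫ (a ≫ d ≫ c) ≫ b = e ≫ t := by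
  simp only [Category.assoc]
  rw [reassoc_of% h1, reassoc_of% h2, reassoc_of% h3, h4]

theorem assemble {C : Type*} [Category C] {A B M I R J X J' X' Y Y' Z R' : C} {r1 : A ⟶ B} {iM : B ⟶ M}
    {iI : A ⟶ I} {hd : I ⟶ M} {iR : A ⟶ R} {ha : R ⟶ I} {hc : M ⟶ J} {jinv : J ⟶ X} {jhom : X ⟶ J}
    {hs : J ⟶ J'} {kinv : J' ⟶ X'} {khom : X' ⟶ J'} {cmp : J' ⟶ Y} {pb : Y ⟶ Y'} {pr : Y' ⟶ Z} {pj : Y ⟶ Z}
    {hb : J' ⟶ R'} {cmp' : R' ⟶ Y'} {tot : R ⟶ R'} (e1 : r1 ≫ iM = iI ≫ hd) (e2 : iI = iR ≫ ha)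
    (h1 : jinv ≫ jhom = 𝟙 _) (h2 : kinv ≫ khom = 𝟙 _) (e3 : pb ≫ pr = pj) (e4 : cmp ≫ pb = hb ≫ cmp')
    (etot : ha ≫ hd ≫ hc ≫ hs ≫ hb = tot) :
    r1 ≫ (iM ≫ hc ≫ jinv) ≫ (jhom ≫ hs ≫ kinv) ≫ (khom ≫ cmp ≫ pj) = iR ≫ tot ≫ cmp' ≫ pr := by
  simp only [Category.assoc]
  rw [reassoc_of% e1, e2, ← e3, reassoc_of% h1, reassoc_of% h2, reassoc_of% e4, Category.assoc, ← etot]
  simp only [Category.assoc]

theorem assemble₂ {C : Type*} [Category C] {D : Type*} [Category D] (H : C ⥤ D) {X₁ X₂ X₃ X₄ X₅ X₆ X₇ : C}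
    {a : X₁ ⟶ X₂} {d : X₂ ⟶ X₃} {c : X₃ ⟶ X₄} {s : X₄ ⟶ X₅} {b : X₅ ⟶ X₆} {t : X₄ ⟶ X₇} {s' : X₇ ⟶ X₆}
    {u₀ u : X₁ ⟶ X₇} (h : H.map u₀ = H.map u) (hs : s ≫ b = t ≫ s') (hu : (a ≫ d ≫ c) ≫ t = u₀) :
    H.map a ≫ H.map d ≫ H.map c ≫ H.map s ≫ H.map b = H.map (u ≫ s') := by
  rw [H.map_comp u, ← h, ← H.map_comp, ← hu]
  simp only [← H.map_comp, hs, Category.assoc]

theorem symm_comp₄ {C : Type*} [Category C] {D : Type*} [Category D] {L : C ⥤ D} {P : D ⥤ C} (adj : L ⊣ P)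
    {A B B' : C} {Y Z : D} (a : A ⟶ B) (b : B ⟶ B') (b' : B' ⟶ P.obj Y) (c : Y ⟶ Z) :
    (adj.homEquiv A Z).symm (a ≫ b ≫ b' ≫ P.map c) = L.map a ≫ (adj.homEquiv B Y).symm (b ≫ b') ≫ c := by
  rw [← adj.homEquiv_naturality_right_symm, ← adj.homEquiv_naturality_left_symm, Category.assoc]

theorem isIso_map_sandwich_iff {C : Type*} [Category C] {D : Type*} [Category D] (Φ : C ⥤ D) {A B B' Y Z : C}
    (a : A ≅ B) (m : B ≅ B') (x : B' ⟶ Y) (c : Y ≅ Z) :
    IsIso (Φ.map (a.hom ≫ (m.hom ≫ x) ≫ c.hom)) ↔ IsIso (Φ.map x) := by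
  rw [Φ.map_comp, isIso_comp_left_iff, Φ.map_comp, isIso_comp_right_iff, Φ.map_comp, isIso_comp_left_iff]

theorem isIso_map_homologyMap_iff {B : Type*} [Category B] [Abelian B] {C : Type*} [Category C] [Abelian C]
    (L : B ⥤ C) [L.Additive] [PreservesFiniteLimits L] [PreservesFiniteColimits L] {ι : Type*} {c : ComplexShape ι}
    {K K' : HomologicalComplex B c} (ψ : K ⟶ K') (q : ι) :
    IsIso (L.map (homologyMap ψ q)) ↔ IsIso (homologyMap ((L.mapHomologicalComplex c).map ψ) q) := by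
  have h := ShortComplex.mapHomologyIso_hom_naturality ((shortComplexFunctor _ c q).map ψ) L
  refine Iff.symm (Iff.trans ?_ (isIso_comp_left_iff ((K.sc q).mapHomologyIso L).hom _))
  exact Iff.trans (isIso_comp_right_iff _ ((K'.sc q).mapHomologyIso L).hom).symm (Eq.to_iff (congrArg IsIso h))

section Square

variable {CX : Type u₁} [Category.{v₁} CX] [Abelian CX] [HasInjectiveResolutions CX]
  {CS : Type u₂} [Category.{v₂} CS] [Abelian CS]
  {CX' : Type u₃} [Category.{v₃} CX'] [Abelian CX'] [HasInjectiveResolutions CX']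
  {CS' : Type u₄} [Category.{v₄} CS'] [Abelian CS']
  {Pf : CX ⥤ CS} {Pf' : CX' ⥤ CS'} {Lg : CS ⥤ CS'} {Pg : CS' ⥤ CS} {Lg' : CX ⥤ CX'} {Pg' : CX' ⥤ CX}
  [Pf.Additive] [Pf'.Additive] [Lg.Additive] [Pg.Additive] [Lg'.Additive] [Pg'.Additive]
  [PreservesFiniteLimits Pg] [Pg'.PreservesInjectiveObjects]
  (aG : Lg ⊣ Pg) (aG' : Lg' ⊣ Pg') (σ : Pg' ⋙ Pf ≅ Pf' ⋙ Pg) (q : ℕ) (F : CX)

/-- The adjoint form of the base change map in degree `q`. -/
noncomputable def bcDAdj : (Pf.rightDerived q).obj F ⟶ Pg.obj ((Pf'.rightDerived q).obj (Lg'.obj F)) :=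
  (Pf.rightDerived q).map (aG'.unit.app F) ≫ RDer.edgeIn Pg' Pf q (Lg'.obj F) ≫
    (RDer.rightDerivedIso σ q).hom.app (Lg'.obj F) ≫ RDer.edgeOut Pf' Pg q (Lg'.obj F)

/-- The base change map in degree `q`. -/
noncomputable def bcD : Lg.obj ((Pf.rightDerived q).obj F) ⟶ (Pf'.rightDerived q).obj (Lg'.obj F) :=
  (aG.homEquiv _ _).symm (bcDAdj aG' σ q F)

variable {F}

set_option maxHeartbeats 1000000 in
theorem bcDAdj_eq (R : InjectiveResolution F) (R' : InjectiveResolution (Lg'.obj F))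
    (u : R.cocomplex ⟶ (Pg'.mapHomologicalComplex (ComplexShape.up ℕ)).obj R'.cocomplex)
    (hu : R.ι.f 0 ≫ u.f 0 = aG'.unit.app F ≫ Pg'.map (R'.ι.f 0)) :
    bcDAdj (Pf := Pf) (Pf' := Pf') (Pg := Pg) aG' σ q F = (R.isoRightDerivedObj Pf q).hom ≫
      homologyMap ((Pf.mapHomologicalComplex _).map u ≫
        (NatTrans.mapHomologicalComplex σ.hom (ComplexShape.up ℕ)).app R'.cocomplex) q ≫
      RDer.homologyComparison Pg ((Pf'.mapHomologicalComplex _).obj R'.cocomplex) q ≫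
      Pg.map (R'.isoRightDerivedObj Pf' q).inv := by
  let N := Lg'.obj F
  let I := injectiveResolution F
  let J := injectiveResolution N
  let M := injectiveResolution (Pg'.obj N)
  let a : R.cocomplex ⟶ I.cocomplex := InjectiveResolution.desc (𝟙 F) I R
  let b : J.cocomplex ⟶ R'.cocomplex := InjectiveResolution.desc (𝟙 N) R' J
  let c : M.cocomplex ⟶ (Pg'.mapHomologicalComplex (ComplexShape.up ℕ)).obj J.cocomplex :=
    RDer.descToInjectives (𝟙 (Pg'.obj N)) M.cocomplex M.ι _ (RDer.mapAug Pg' J.ι)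
  let d : I.cocomplex ⟶ M.cocomplex := InjectiveResolution.desc (aG'.unit.app F) M I
  let T := (Pf.mapHomologicalComplex (ComplexShape.up ℕ))
  let u₀ : R.cocomplex ⟶ (Pg'.mapHomologicalComplex (ComplexShape.up ℕ)).obj R'.cocomplex :=
    (a ≫ d ≫ c) ≫ (Pg'.mapHomologicalComplex (ComplexShape.up ℕ)).map b
  have hu₀ : R.ι.f 0 ≫ u₀.f 0 = R.ι.f 0 ≫ u.f 0 := by
    rw [hu]
    have h1 : R.ι.f 0 ≫ a.f 0 = I.ι.f 0 :=
      (InjectiveResolution.desc_commutes_zero _ _ _).trans (Category.id_comp _)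
    have h3 : M.ι.f 0 ≫ c.f 0 = Pg'.map (J.ι.f 0) := by
      refine (RDer.ι_descToInjectives_f_zero _ _ _ _ _).trans ((Category.id_comp _).trans ?_)
      simp [RDer.mapAug]
      exact Category.id_comp _
    have h4 : Pg'.map (J.ι.f 0) ≫ Pg'.map (b.f 0) = Pg'.map (R'.ι.f 0) :=
      (Pg'.map_comp _ _).symm.trans
        (congrArg Pg'.map ((InjectiveResolution.desc_commutes_zero _ _ _).trans (Category.id_comp _)))
    exact chain₄ h1 (InjectiveResolution.desc_commutes_zero (aG'.unit.app F) M I) h3 h4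
  obtain ⟨hh⟩ := nonempty_homotopy R.cocomplex R.ι u₀ u hu₀
  have hH : homologyMap (T.map u₀) q = homologyMap (T.map u) q := (Pf.mapHomotopy hh).homologyMap_eq q
  have e₁ : (Pf.rightDerived q).map (aG'.unit.app F) ≫ (M.isoRightDerivedObj Pf q).hom =
      (I.isoRightDerivedObj Pf q).hom ≫ homologyMap (T.map d) q :=
    InjectiveResolution.isoRightDerivedObj_hom_naturality (aG'.unit.app F) I M d
      (InjectiveResolution.desc_commutes_zero _ _ _) Pf q
  have e₂ : (I.isoRightDerivedObj Pf q).hom = (R.isoRightDerivedObj Pf q).hom ≫ homologyMap (T.map a) q := by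
    have := InjectiveResolution.isoRightDerivedObj_hom_naturality (𝟙 F) R I a
      (InjectiveResolution.desc_commutes_zero _ _ _) Pf q
    rw [CategoryTheory.Functor.map_id, Category.id_comp] at this
    exact this
  have e₃ : homologyMap ((Pf'.mapHomologicalComplex _).map b) q ≫ (R'.isoRightDerivedObj Pf' q).inv =
      (J.isoRightDerivedObj Pf' q).inv := by
    have := InjectiveResolution.isoRightDerivedObj_hom_naturality (𝟙 N) J R' b
      (InjectiveResolution.desc_commutes_zero _ _ _) Pf' q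
    rw [CategoryTheory.Functor.map_id, Category.id_comp] at this
    refine (Iso.comp_inv_eq _).2 ?_
    exact (Iso.eq_inv_comp _).2 this.symm
  have e₄ : RDer.homologyComparison Pg ((Pf'.mapHomologicalComplex _).obj J.cocomplex) q ≫
      Pg.map (homologyMap ((Pf'.mapHomologicalComplex _).map b) q) =
        homologyMap ((Pg.mapHomologicalComplex _).map ((Pf'.mapHomologicalComplex _).map b)) q ≫
          RDer.homologyComparison Pg ((Pf'.mapHomologicalComplex _).obj R'.cocomplex) q := by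
    rw [← cancel_epi (((Pg.mapHomologicalComplex _).obj ((Pf'.mapHomologicalComplex _).obj J.cocomplex)).homologyπ q),
      RDer.homologyπ_homologyComparison_assoc, homologyπ_naturality_assoc, RDer.homologyπ_homologyComparison,
      ← Pg.map_comp, homologyπ_naturality, Pg.map_comp, ← Category.assoc, ← Category.assoc]
    refine congrArg (· ≫ _) ?_
    rw [← cancel_mono (Pg.map (((Pf'.mapHomologicalComplex _).obj R'.cocomplex).iCycles q)), Category.assoc,
      Category.assoc, ← Pg.map_comp, cyclesMap_i, Pg.map_comp, RDer.cyclesComparison_i_assoc,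
      RDer.cyclesComparison_i]
    exact (cyclesMap_i ((Pg.mapHomologicalComplex _).map ((Pf'.mapHomologicalComplex _).map b)) q).symm
  have h₂ : (RDer.rightDerivedIso σ q).hom.app N = _ := InjectiveResolution.rightDerived_app_eq σ.hom J q
  unfold bcDAdj RDer.edgeIn RDer.edgeOut
  rw [h₂]
  refine assemble e₁ e₂ (Iso.inv_hom_id _) (Iso.inv_hom_id _)
    ((Pg.map_comp _ _).symm.trans (congrArg Pg.map e₃)) e₄ ?_
  have hσb := (NatTrans.mapHomologicalComplex σ.hom (ComplexShape.up ℕ)).naturality b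
  exact assemble₂ (homologyFunctor CS (ComplexShape.up ℕ) q) hH hσb.symm
    ((congrArg (· ≫ _) ((congrArg (T.map a ≫ ·) (T.map_comp d c).symm).trans (T.map_comp a (d ≫ c)).symm)).trans
      (T.map_comp (a ≫ d ≫ c) ((Pg'.mapHomologicalComplex (ComplexShape.up ℕ)).map b)).symm)

/-- The base change map on complexes. -/
noncomputable abbrev bcCx (K : CochainComplex CX ℕ) :
    (Lg.mapHomologicalComplex (ComplexShape.up ℕ)).obj ((Pf.mapHomologicalComplex (ComplexShape.up ℕ)).obj K) ⟶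
      (Pf'.mapHomologicalComplex (ComplexShape.up ℕ)).obj ((Lg'.mapHomologicalComplex (ComplexShape.up ℕ)).obj K) :=
  (NatTrans.mapHomologicalComplex (bcNat aG aG' σ.hom) (ComplexShape.up ℕ)).app K

variable [PreservesFiniteLimits Lg] [PreservesFiniteColimits Lg]

/-- The base change map computed on resolutions. -/
theorem bcD_eq (R : InjectiveResolution F) (R' : InjectiveResolution (Lg'.obj F))
    (φ : (Lg'.mapHomologicalComplex (ComplexShape.up ℕ)).obj R.cocomplex ⟶ R'.cocomplex)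
    (hφ : Lg'.map (R.ι.f 0) ≫ φ.f 0 = R'.ι.f 0) :
    bcD aG aG' σ q F = Lg.map (R.isoRightDerivedObj Pf q).hom ≫ (mhi Lg _ q).inv ≫
      homologyMap (bcCx aG aG' σ R.cocomplex ≫ (Pf'.mapHomologicalComplex _).map φ) q ≫
        (R'.isoRightDerivedObj Pf' q).inv := by
  let u : R.cocomplex ⟶ (Pg'.mapHomologicalComplex (ComplexShape.up ℕ)).obj R'.cocomplex :=
    { f := fun i => aG'.homEquiv _ _ (φ.f i)
      comm' := fun i j _ => by
        change aG'.homEquiv _ _ (φ.f i) ≫ Pg'.map (R'.cocomplex.d i j) =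
          R.cocomplex.d i j ≫ aG'.homEquiv _ _ (φ.f j)
        exact (aG'.homEquiv_naturality_right (φ.f i) _).symm.trans
          ((congrArg (aG'.homEquiv _ _) (φ.comm i j)).trans (aG'.homEquiv_naturality_left _ (φ.f j))) }
  have hu : R.ι.f 0 ≫ u.f 0 = aG'.unit.app F ≫ Pg'.map (R'.ι.f 0) := by
    exact (aG'.homEquiv_naturality_left (R.ι.f 0) (φ.f 0)).symm.trans
      ((congrArg (aG'.homEquiv F _) hφ).trans (aG'.homEquiv_unit F _ _))
  have key := transpose_homologyMap aG ((Pf.mapHomologicalComplex _).obj R.cocomplex) q (bcCx aG aG' σ R.cocomplex ≫ (Pf'.mapHomologicalComplex _).map φ)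
    ((Pf.mapHomologicalComplex _).map u ≫
      (NatTrans.mapHomologicalComplex σ.hom (ComplexShape.up ℕ)).app R'.cocomplex) fun i => by
    refine Eq.trans ?_ ((congrArg (_ ≫ ·) (Pg.map_comp _ _).symm).symm.trans rfl).symm
    change Pf.map (aG'.homEquiv _ _ (φ.f i)) ≫ σ.hom.app (R'.cocomplex.X i) =
      aG.unit.app (Pf.obj (R.cocomplex.X i)) ≫ Pg.map (bcM aG aG' σ.hom (R.cocomplex.X i)) ≫
        Pg.map (Pf'.map (φ.f i))
    refine Eq.trans ?_ (((reassoc_of% (bcM_unit aG aG' σ.hom (R.cocomplex.X i))) _).trans rfl).symm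
    refine (congrArg (· ≫ _) ((congrArg Pf.map (aG'.homEquiv_unit _ _ _)).trans (Pf.map_comp _ _))).trans
      ((Category.assoc _ _ _).trans ?_)
    exact congrArg (_ ≫ ·) (σ.hom.naturality (φ.f i))
  have e := (congrArg (aG.homEquiv _ _).symm (bcDAdj_eq (Pf := Pf) (Pf' := Pf') (Pg := Pg) aG' σ q R R' u hu)).trans
    ((symm_comp₄ aG _ _ _ _).trans
      (congrArg (fun t => Lg.map (R.isoRightDerivedObj Pf q).hom ≫ t ≫ (R'.isoRightDerivedObj Pf' q).inv) key))
  exact e.trans (congrArg (Lg.map _ ≫ ·) (Category.assoc _ _ _))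

/-- Criterion for the base change map to be an isomorphism after a functor. -/
theorem isIso_map_bcD_iff {D : Type*} [Category D] (Φ : CS' ⥤ D) (R : InjectiveResolution F) (R' : InjectiveResolution (Lg'.obj F))
    (φ : (Lg'.mapHomologicalComplex (ComplexShape.up ℕ)).obj R.cocomplex ⟶ R'.cocomplex)
    (hφ : Lg'.map (R.ι.f 0) ≫ φ.f 0 = R'.ι.f 0) :
    IsIso (Φ.map (bcD aG aG' σ q F)) ↔
      IsIso (Φ.map (homologyMap (bcCx aG aG' σ R.cocomplex ≫ (Pf'.mapHomologicalComplex _).map φ) q)) := by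
  refine (Eq.to_iff (congrArg (fun t => IsIso (Φ.map t)) ((bcD_eq aG aG' σ q R R' φ hφ).trans
    (congrArg (Lg.map _ ≫ ·) (Category.assoc _ _ _).symm)))).trans ?_
  exact isIso_map_sandwich_iff Φ (Lg.mapIso (R.isoRightDerivedObj Pf q)) (mhi Lg _ q).symm _ (R'.isoRightDerivedObj Pf' q).symm

/-- Criterion for the base change map to be an isomorphism. -/
theorem isIso_bcD_iff (R : InjectiveResolution F) (R' : InjectiveResolution (Lg'.obj F))
    (φ : (Lg'.mapHomologicalComplex (ComplexShape.up ℕ)).obj R.cocomplex ⟶ R'.cocomplex)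
    (hφ : Lg'.map (R.ι.f 0) ≫ φ.f 0 = R'.ι.f 0) :
    IsIso (bcD aG aG' σ q F) ↔
      IsIso (homologyMap (bcCx aG aG' σ R.cocomplex ≫ (Pf'.mapHomologicalComplex _).map φ) q) :=
  isIso_map_bcD_iff aG aG' σ q (𝟭 CS') R R' φ hφ

theorem exists_lift [PreservesFiniteLimits Lg'] [PreservesFiniteColimits Lg'] (R : InjectiveResolution F)
    (R' : InjectiveResolution (Lg'.obj F)) :
    ∃ φ : (Lg'.mapHomologicalComplex (ComplexShape.up ℕ)).obj R.cocomplex ⟶ R'.cocomplex,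
      Lg'.map (R.ι.f 0) ≫ φ.f 0 = R'.ι.f 0 := by
  refine ⟨RDer.descToInjectives (𝟙 (Lg'.obj F)) _ (RDer.mapAug Lg' R.ι) R'.cocomplex R'.ι, ?_⟩
  have := RDer.ι_descToInjectives_f_zero (𝟙 (Lg'.obj F)) _ (RDer.mapAug Lg' R.ι) R'.cocomplex R'.ι
  refine Eq.trans ?_ (this.trans (Category.id_comp _))
  simp [RDer.mapAug]
  exact (Category.id_comp _).symm

/-- If `g'⁻¹` preserves injectives and the degree zero base change maps are isomorphisms, so are all. -/
theorem isIso_bcD_of_injective [PreservesFiniteLimits Lg'] [PreservesFiniteColimits Lg']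
    [Lg'.PreservesInjectiveObjects] (h : ∀ G, IsIso (bcM aG aG' σ.hom G)) : IsIso (bcD aG aG' σ q F) := by
  let R := injectiveResolution F
  let R' : InjectiveResolution (Lg'.obj F) :=
    { cocomplex := (Lg'.mapHomologicalComplex _).obj R.cocomplex
      injective := fun n => Lg'.injective_obj (R.cocomplex.X n)
      ι := RDer.mapAug Lg' R.ι }
  rw [isIso_bcD_iff aG aG' σ q R R' (𝟙 _) (by simp [R', RDer.mapAug]; exact (Category.comp_id _).trans (Category.id_comp _).symm)]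
  have : ∀ i, IsIso ((bcCx aG aG' σ R.cocomplex).f i) := fun i => h _
  have := HomologicalComplex.Hom.isIso_of_components (bcCx aG aG' σ R.cocomplex)
  rw [CategoryTheory.Functor.map_id]
  simp only [R']
  rw [Category.comp_id]
  infer_instance

end Square

section Paste

variable {CX : Type u₁} [Category.{v₁} CX] [Abelian CX] [HasInjectiveResolutions CX]
  {CS : Type u₂} [Category.{v₂} CS] [Abelian CS]
  {CX' : Type u₃} [Category.{v₃} CX'] [Abelian CX'] [HasInjectiveResolutions CX']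
  {CS' : Type u₄} [Category.{v₄} CS'] [Abelian CS']
  {CW : Type u₅} [Category.{v₅} CW] [Abelian CW]
  {CZ : Type u₆} [Category.{v₆} CZ] [Abelian CZ] [HasInjectiveResolutions CZ]
  {Pf : CX ⥤ CS} {Pf' : CX' ⥤ CS'} {Lg : CS ⥤ CS'} {Pg : CS' ⥤ CS} {Lg' : CX ⥤ CX'} {Pg' : CX' ⥤ CX}
  [Pf.Additive] [Pf'.Additive] [Lg.Additive] [Pg.Additive] [Lg'.Additive] [Pg'.Additive]
  [PreservesFiniteLimits Pg] [Pg'.PreservesInjectiveObjects]
  [PreservesFiniteLimits Lg] [PreservesFiniteColimits Lg] [PreservesFiniteLimits Lg'] [PreservesFiniteColimits Lg']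
  {Li : CS' ⥤ CW} {Pi' : CW ⥤ CS'} {Lk : CX' ⥤ CZ} {Pk : CZ ⥤ CX'} {Pj : CZ ⥤ CW}
  [Li.Additive] [Pi'.Additive] [Lk.Additive] [Pk.Additive] [Pj.Additive]
  [PreservesFiniteLimits Pi'] [Pk.PreservesInjectiveObjects]
  [PreservesFiniteLimits Li] [PreservesFiniteColimits Li] [PreservesFiniteLimits Lk] [PreservesFiniteColimits Lk]
  {P3 : CW ⥤ CS} {P3' : CZ ⥤ CX} {L3 : CS ⥤ CW} {L3' : CX ⥤ CZ}
  [P3.Additive] [P3'.Additive] [L3.Additive] [L3'.Additive]
  [PreservesFiniteLimits P3] [P3'.PreservesInjectiveObjects]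
  [PreservesFiniteLimits L3] [PreservesFiniteColimits L3]
  (aG : Lg ⊣ Pg) (aG' : Lg' ⊣ Pg') (σ : Pg' ⋙ Pf ≅ Pf' ⋙ Pg)
  (aI : Li ⊣ Pi') (aK : Lk ⊣ Pk) (τ : Pk ⋙ Pf' ≅ Pj ⋙ Pi')
  (c : Pi' ⋙ Pg ≅ P3) (c' : Pk ⋙ Pg' ≅ P3') (a3 : L3 ⊣ P3) (a3' : L3' ⊣ P3') (ρ : P3' ⋙ Pf ≅ Pj ⋙ P3)
  (hρ : ∀ G : CZ, Pf.map (c'.hom.app G) ≫ ρ.hom.app G =
    σ.hom.app (Pk.obj G) ≫ Pg.map (τ.hom.app G) ≫ c.hom.app (Pj.obj G))
  (q : ℕ) (F : CX)

include hρ in
set_option maxHeartbeats 1000000 in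
theorem exists_paste_criterion : ∃ (K₁ : CochainComplex CS' ℕ) (K₂ : CochainComplex CS' ℕ) (ψ₁ : K₁ ⟶ K₂)
    (K₃ : CochainComplex CW ℕ) (ψ₂ : (Li.mapHomologicalComplex _).obj K₂ ⟶ K₃),
    (IsIso (bcD aG aG' σ q F) ↔ IsIso (homologyMap ψ₁ q)) ∧
    (IsIso (Li.map (bcD aG aG' σ q F)) ↔ IsIso (homologyMap ((Li.mapHomologicalComplex _).map ψ₁) q)) ∧
    (IsIso (bcD aI aK τ q (Lg'.obj F)) ↔ IsIso (homologyMap ψ₂ q)) ∧
    (IsIso (bcD a3 a3' ρ q F) ↔ IsIso (homologyMap ((Li.mapHomologicalComplex _).map ψ₁ ≫ ψ₂) q)) := by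
  let R := injectiveResolution F
  let R₁ := injectiveResolution (Lg'.obj F)
  let R₂ := injectiveResolution (Lk.obj (Lg'.obj F))
  obtain ⟨φ, hφ⟩ := exists_lift (Lg' := Lg') R R₁
  obtain ⟨χ, hχ⟩ := exists_lift (Lg' := Lk) R₁ R₂
  let A' := (aG'.comp aK).ofNatIsoRight c'
  let A := (aG.comp aI).ofNatIsoRight c
  let θ' := a3'.leftAdjointUniq A'
  let θ := a3.leftAdjointUniq A
  let R₃ : InjectiveResolution (L3'.obj F) :=
    { cocomplex := R₂.cocomplex
      injective := R₂.injective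
      ι := (CochainComplex.single₀ CZ).map (θ'.hom.app F) ≫ R₂.ι }
  let φ₃ : (L3'.mapHomologicalComplex (ComplexShape.up ℕ)).obj R.cocomplex ⟶ R₃.cocomplex :=
    (NatTrans.mapHomologicalComplex θ'.hom (ComplexShape.up ℕ)).app R.cocomplex ≫
      (Lk.mapHomologicalComplex _).map φ ≫ χ
  have h₃ : L3'.map (R.ι.f 0) ≫ φ₃.f 0 = R₃.ι.f 0 := by
    simp only [φ₃, HomologicalComplex.comp_f, NatTrans.mapHomologicalComplex_app_f,
      Functor.mapHomologicalComplex_map_f]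
    refine ((reassoc_of% (θ'.hom.naturality (R.ι.f 0))) _).trans ?_
    refine (congrArg (θ'.hom.app _ ≫ ·) ((Lk.map_comp_assoc _ _ _).symm.trans
      ((congrArg (fun t => Lk.map t ≫ χ.f 0) hφ).trans hχ))).trans ?_
    simp [R₃]
  refine ⟨_, _, bcCx aG aG' σ R.cocomplex ≫ (Pf'.mapHomologicalComplex _).map φ, _,
    bcCx aI aK τ R₁.cocomplex ≫ (Pj.mapHomologicalComplex _).map χ,
    isIso_bcD_iff aG aG' σ q R R₁ φ hφ,
    (isIso_map_bcD_iff aG aG' σ q Li R R₁ φ hφ).trans (isIso_map_homologyMap_iff Li _ q), isIso_bcD_iff aI aK τ q R₁ R₂ χ hχ, ?_⟩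
  rw [isIso_bcD_iff a3 a3' ρ q R R₃ φ₃ h₃]
  let ψ₃ := bcCx a3 a3' ρ R.cocomplex ≫ (Pj.mapHomologicalComplex _).map φ₃
  let Θ : (L3.mapHomologicalComplex (ComplexShape.up ℕ)).obj ((Pf.mapHomologicalComplex _).obj R.cocomplex) ≅
      (Li.mapHomologicalComplex _).obj ((Lg.mapHomologicalComplex _).obj ((Pf.mapHomologicalComplex _).obj R.cocomplex)) :=
    HomologicalComplex.Hom.isoOfComponents (fun i => θ.app (Pf.obj (R.cocomplex.X i)))
      fun i j _ => (θ.hom.naturality (Pf.map (R.cocomplex.d i j))).symm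
  have e : ψ₃ = Θ.hom ≫ ((Li.mapHomologicalComplex _).map
      (bcCx aG aG' σ R.cocomplex ≫ (Pf'.mapHomologicalComplex _).map φ) ≫
      (bcCx aI aK τ R₁.cocomplex ≫ (Pj.mapHomologicalComplex _).map χ)) := by
    ext i
    have h1 := bcM_change a3 a3' ρ.hom A A' (R.cocomplex.X i)
    rw [bcM_comp aG aG' σ.hom aI aK τ.hom c c' ρ.hom hρ] at h1
    have h2 := bcM_natural aI aK τ.hom (φ.f i)
    simp only [ψ₃, φ₃, Θ, HomologicalComplex.comp_f, HomologicalComplex.Hom.isoOfComponents_hom_f,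
      Functor.mapHomologicalComplex_map_f, NatTrans.mapHomologicalComplex_app_f, bcNat_app, Iso.app_hom,
      Functor.map_comp, Category.assoc]
    exact ((reassoc_of% h1.symm) (Pj.map (Lk.map (φ.f i)) ≫ Pj.map (χ.f i))).trans
      (congrArg (fun t => _ ≫ _ ≫ t) ((reassoc_of% h2.symm) _))
  change IsIso (homologyMap ψ₃ q) ↔ _
  rw [e, homologyMap_comp, isIso_comp_left_iff]

include hρ in
/-- If the first square is a base change isomorphism, the second is one iff the composite is. -/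
theorem isIso_bcD_vcomp (h₁ : IsIso (bcD aG aG' σ q F)) :
    IsIso (bcD a3 a3' ρ q F) ↔ IsIso (bcD aI aK τ q (Lg'.obj F)) := by
  obtain ⟨K₁, K₂, ψ₁, K₃, ψ₂, e₁, e₁', e₂, e₃⟩ := exists_paste_criterion aG aG' σ aI aK τ c c' a3 a3' ρ hρ q F
  have : QuasiIsoAt ψ₁ q := (quasiIsoAt_iff_isIso_homologyMap _ _).2 (e₁.1 h₁)
  have : IsIso (homologyMap ((Li.mapHomologicalComplex _).map ψ₁) q) :=
    (quasiIsoAt_iff_isIso_homologyMap _ _).1 inferInstance
  rw [e₃, e₂, homologyMap_comp, isIso_comp_left_iff]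

include hρ in
/-- If the second square is a base change isomorphism, the first is one after inverse image iff the composite is. -/
theorem isIso_bcD_vcomp' (h₂ : IsIso (bcD aI aK τ q (Lg'.obj F))) :
    IsIso (bcD a3 a3' ρ q F) ↔ IsIso (Li.map (bcD aG aG' σ q F)) := by
  obtain ⟨K₁, K₂, ψ₁, K₃, ψ₂, e₁, e₁', e₂, e₃⟩ := exists_paste_criterion aG aG' σ aI aK τ c c' a3 a3' ρ hρ q F
  have := e₂.1 h₂
  rw [e₃, e₁', homologyMap_comp, isIso_comp_right_iff]

end Paste

end Groth.Agent.EtBC48
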