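import Groth.Agent.EtBC48.Ladder
import Mathlib.CategoryTheory.Abelian.Refinements

/-!
Four lemmas for two exact rows, by refinements.
-/

set_option autoImplicit false

open CategoryTheory CategoryTheory.Limits

namespace Groth.Agent.EtBC48

variable {C : Type*} [Category C] [Abelian C] {A₂ A₃ A₄ A₅ A₆ B₂ B₃ B₄ B₅ B₆ : C}

/-- The four lemma for monomorphisms when the third map of the top row is an epimorphism. -/
theorem four_mono {g : A₂ ⟶ A₃} {δ : A₃ ⟶ A₄} {g' : B₂ ⟶ B₃} {δ' : B₃ ⟶ B₄} {b₂ : A₂ ⟶ B₂} {b₃ : A₃ ⟶ B₃}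
    {b₄ : A₄ ⟶ B₄} (hw : g ≫ δ = 0) [Epi δ] (h' : IsEx g' δ') (s₁ : g ≫ b₃ = b₂ ≫ g') (s₂ : δ ≫ b₄ = b₃ ≫ δ')
    [Epi b₂] [Mono b₃] : Mono b₄ := by
  obtain ⟨w', h'⟩ := h'
  refine Preadditive.mono_of_cancel_zero _ fun {P} t ht => ?_
  obtain ⟨P₁, π₁, h₁, x, hx⟩ := surjective_up_to_refinements_of_epi δ t
  have hx0 : (x ≫ b₃) ≫ δ' = 0 := by
    rw [Category.assoc, ← s₂, ← reassoc_of% hx, ht, comp_zero]
  obtain ⟨P₂, π₂, h₂, y, hy⟩ := h'.exact_up_to_refinements _ hx0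
  obtain ⟨P₃, π₃, h₃, z, hz⟩ := surjective_up_to_refinements_of_epi b₂ y
  have key : π₃ ≫ π₂ ≫ x = z ≫ g := by
    rw [← cancel_mono b₃, Category.assoc, Category.assoc, hy, Category.assoc, s₁, reassoc_of% hz]
  have : π₃ ≫ π₂ ≫ π₁ ≫ t = 0 := by
    rw [hx, reassoc_of% key, hw, comp_zero]
  rwa [← cancel_epi π₁, ← cancel_epi π₂, ← cancel_epi π₃, comp_zero, comp_zero, comp_zero]

/-- The map of cokernels of two adjacent vertical maps is a monomorphism. -/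
theorem four_cokernel {δ : A₃ ⟶ A₄} {f : A₄ ⟶ A₅} {g : A₅ ⟶ A₆} {δ' : B₃ ⟶ B₄} {f' : B₄ ⟶ B₅} {g' : B₅ ⟶ B₆}
    {b₃ : A₃ ⟶ B₃} {b₄ : A₄ ⟶ B₄} {b₅ : A₅ ⟶ B₅} {b₆ : A₆ ⟶ B₆} (h : IsEx f g) (h' : IsEx δ' f')
    (hw : f' ≫ g' = 0) (s₁ : δ ≫ b₄ = b₃ ≫ δ') (s₂ : f ≫ b₅ = b₄ ≫ f') (s₃ : g ≫ b₆ = b₅ ≫ g')
    [Epi b₃] [Mono b₆] :
    ∃ φ : cokernel b₄ ⟶ cokernel b₅, Mono φ ∧ cokernel.π b₄ ≫ φ = f' ≫ cokernel.π b₅ := by
  obtain ⟨w, h⟩ := h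
  obtain ⟨w', h'⟩ := h'
  obtain ⟨φ, hφ⟩ : ∃ φ : cokernel b₄ ⟶ cokernel b₅, cokernel.π b₄ ≫ φ = f' ≫ cokernel.π b₅ :=
    ⟨cokernel.desc b₄ (f' ≫ cokernel.π b₅) (by rw [← Category.assoc, ← s₂, Category.assoc, cokernel.condition,
      comp_zero]), cokernel.π_desc _ _ _⟩
  refine ⟨φ, Preadditive.mono_of_cancel_zero _ fun {P} t ht => ?_, hφ⟩
  obtain ⟨P₁, π₁, h₁, v, hv⟩ := surjective_up_to_refinements_of_epi (cokernel.π b₄) t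
  have hv0 : (v ≫ f') ≫ cokernel.π b₅ = 0 := by
    rw [Category.assoc, ← hφ, ← reassoc_of% hv, ht, comp_zero]
  obtain ⟨P₂, π₂, h₂, x, hx⟩ :=
    (ShortComplex.exact_of_g_is_cokernel (ShortComplex.mk b₅ (cokernel.π b₅) (cokernel.condition _))
      (cokernelIsCokernel b₅)).exact_up_to_refinements _ hv0
  dsimp only at x hx
  have hx0 : x ≫ g = 0 := by
    rw [← cancel_mono b₆, Category.assoc, s₃, ← reassoc_of% hx, zero_comp, hw, comp_zero, comp_zero]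
  obtain ⟨P₃, π₃, h₃, x', hx'⟩ := h.exact_up_to_refinements _ hx0
  dsimp only at x' hx'
  have hd0 : (π₃ ≫ π₂ ≫ v - x' ≫ b₄) ≫ f' = 0 := by
    rw [Preadditive.sub_comp, Category.assoc, Category.assoc, Category.assoc, hx, ← s₂, reassoc_of% hx', sub_self]
  obtain ⟨P₄, π₄, h₄, y, hy⟩ := h'.exact_up_to_refinements _ hd0
  dsimp only at y hy
  obtain ⟨P₅, π₅, h₅, z, hz⟩ := surjective_up_to_refinements_of_epi b₃ y
  have key : π₅ ≫ π₄ ≫ π₃ ≫ π₂ ≫ v = (z ≫ δ + π₅ ≫ π₄ ≫ x') ≫ b₄ := by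
    rw [Preadditive.add_comp, Category.assoc, s₁, ← reassoc_of% hz, Category.assoc, Category.assoc,
      ← Preadditive.comp_add, ← hy, ← Preadditive.comp_add, sub_add_cancel]
  have : π₅ ≫ π₄ ≫ π₃ ≫ π₂ ≫ π₁ ≫ t = 0 := by
    rw [hv, reassoc_of% key, cokernel.condition, comp_zero]
  rwa [← cancel_epi π₁, ← cancel_epi π₂, ← cancel_epi π₃, ← cancel_epi π₄, ← cancel_epi π₅, comp_zero, comp_zero,
    comp_zero, comp_zero, comp_zero]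

end Groth.Agent.EtBC48
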