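import Groth.Agent.EtBC48.Mate
import Groth.Agent.EtBC48.BCQ
import Groth.Agent.PBC51.BaseChange
import Groth.Agent.EtLim45.Then
import Groth.Agent.EtCore45.HpullUH
import Groth.Agent.GalCoh84.Cohom
import Groth.Agent.Cons51.StalkExt

/-!
Cohomology of proper schemes under extensions of separably closed fields.
-/

set_option autoImplicit false
set_option backward.isDefEq.respectTransparency.types false
universe u

open CategoryTheory CategoryTheory.Limits CategoryTheory.Abelian AlgebraicGeometry Opposite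
open Groth.Agent.Unr55.EtSh

namespace Groth.Agent.EtBC48

variable {Ω K : Type u} [Field Ω] [IsSepClosed Ω] [Field K] [IsSepClosed K]

theorem bijective_of_eq {α β : Type*} {f g : α → β} (h : ∀ x, f x = g x) (hf : Function.Bijective f) :
    Function.Bijective g := funext h ▸ hf

theorem germ_top_bijective_of_hom (ξ : Spec (CommRingCat.of K) ⟶ Spec (CommRingCat.of Ω))
    (G : EtCoh.Ab (Spec (CommRingCat.of Ω))) (t : Pt ξ (EtCoh.top _)) :
    Function.Bijective (germ ξ G t) := by
  obtain ⟨η, hη⟩ : ∃ η, η = ξ ≫ 𝟙 _ := ⟨_, rfl⟩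
  rw [Category.comp_id] at hη
  have key : ∀ (t : Pt (ξ ≫ 𝟙 _) (EtCoh.top (Spec (CommRingCat.of Ω)))), Function.Bijective (germ (ξ ≫ 𝟙 _) G t) := by
    intro t
    let t₀ : Pt (𝟙 (Spec (CommRingCat.of Ω))) (EtCoh.top _) := mkPt _ (𝟙 _) (Category.comp_id _)
    have e : t = Cons51.ptExt ξ (𝟙 _) t₀ := hom_ext _ (by
      have := Over.w t
      exact ((Category.comp_id _).symm.trans this).trans
        ((Category.comp_id _).symm.trans (Over.w (Cons51.ptExt ξ (𝟙 _) t₀))).symm)
    have h := (Cons51.stalkExt_bijective ξ (𝟙 _) G).comp (Cons51.germ_top_bijective_id G)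
    rw [e]
    exact (funext fun σ => Cons51.stalkExt_germ ξ (𝟙 _) G t₀ σ) ▸ h
  subst hη
  rw [Category.comp_id] at key
  exact key t

/-- Global sections are unchanged by extensions of separably closed fields. -/
theorem unit_top_bijective (c : Spec (CommRingCat.of K) ⟶ Spec (CommRingCat.of Ω))
    (G : EtCoh.Ab (Spec (CommRingCat.of Ω))) :
    Function.Bijective (((EtCoh.pullPushAdj c).unit.app G).hom.app (op (EtCoh.top _))) := by
  let η := 𝟙 (Spec (CommRingCat.of K))
  let t : Pt (η ≫ c) (EtCoh.top (Spec (CommRingCat.of Ω))) := mkPt _ (η ≫ c) (Category.comp_id _)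
  have h1 := (theta_bijective c η G).comp (germ_top_bijective_of_hom (η ≫ c) G t)
  have h2 : Function.Bijective (germ η ((EtCoh.pull c).obj G) (ptUp c η t)) := by
    let j := (EtCore.bcTopIso c).inv
    have e : (Scheme.pointSmallEtale η).fiber.map j (mkPt _ (𝟙 _) (Category.comp_id _)) = ptUp c η t := by
      refine hom_ext _ ((cancel_mono (EtCore.bcTopIso c).hom.left).1 ?_)
      exact (Category.comp_id _).symm.trans ((Over.w ((Scheme.pointSmallEtale η).fiber.map (EtCore.bcTopIso c).hom
        ((Scheme.pointSmallEtale η).fiber.map j (mkPt _ (𝟙 _) (Category.comp_id _))))).trans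
        ((Category.comp_id _).symm.trans (Over.w ((Scheme.pointSmallEtale η).fiber.map (EtCore.bcTopIso c).hom
          (ptUp c η t)))).symm)
    have h := (Cons51.germ_top_bijective_id ((EtCoh.pull c).obj G)).comp
      (ConcreteCategory.bijective_of_isIso (((EtCoh.pull c).obj G).obj.map j.op))
    have e2 : ∀ x, germ η ((EtCoh.pull c).obj G) (mkPt _ (𝟙 _) (Category.comp_id _))
        (((EtCoh.pull c).obj G).obj.map j.op x) = germ η ((EtCoh.pull c).obj G) (ptUp c η t) x := fun x =>
      (germ_map η ((EtCoh.pull c).obj G) j _ x).trans (by rw [e])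
    exact (funext e2) ▸ h
  have hc : Function.Bijective ((germ η ((EtCoh.pull c).obj G) (ptUp c η t)) ∘
      (((EtCoh.pullPushAdj c).unit.app G).hom.app (op (EtCoh.top _)))) :=
    bijective_of_eq (fun σ => theta_germ c η G t σ) h1
  exact ⟨fun a b hab => hc.1 (congrArg (germ η ((EtCoh.pull c).obj G) (ptUp c η t)) hab),
    fun b => (hc.2 (germ η ((EtCoh.pull c).obj G) (ptUp c η t) b)).imp fun a ha => h2.1 ha⟩

variable {X X' : Scheme.{u}} (a : X ⟶ Spec (CommRingCat.of Ω)) [IsProper a]
  (c : Spec (CommRingCat.of K) ⟶ Spec (CommRingCat.of Ω)) (a' : X' ⟶ Spec (CommRingCat.of K)) (c' : X' ⟶ X)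
  (h : IsPullback c' a' a c)

include h in
theorem Hpull_zero_bijective [PreservesFiniteLimits (EtCoh.pull c')] (F : EtCoh.Ab X) :
    Function.Bijective (EtCore.Hpull c' F 0) := by
  let aG := EtCoh.pullPushAdj c
  let aG' := EtCoh.pullPushAdj c'
  let σ := sqIso AbU a c a' c' h.w
  let T := op (EtCoh.top (Spec (CommRingCat.of Ω)))
  let u := aG'.unit.app F
  have hb : IsIso (bcM aG aG' σ.hom F) := Cons51.isIso_baseChange0_proper a c a' c' h F
  have e : ∀ x, (σ.hom.app ((EtCoh.pull c').obj F)).hom.app T (((EtCoh.push a).map u).hom.app T x) =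
      ((EtCoh.push c).map (bcM aG aG' σ.hom F)).hom.app T ((aG.unit.app ((EtCoh.push a).obj F)).hom.app T x) :=
    fun x => (ConcreteCategory.congr_hom (congrArg (fun k => k.hom.app T) (bcM_unit aG aG' σ.hom F)) x).symm
  have hu : Function.Bijective (((EtCoh.push a).map u).hom.app T) := by
    have hr := (ConcreteCategory.bijective_of_isIso (((EtCoh.push c).map (bcM aG aG' σ.hom F)).hom.app T)).comp
      (unit_top_bijective c ((EtCoh.push a).obj F))
    have hs := ConcreteCategory.bijective_of_isIso ((σ.hom.app ((EtCoh.pull c').obj F)).hom.app T)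
    exact (Function.Bijective.of_comp_iff' hs _).1 (bijective_of_eq (fun x => (e x).symm) hr)
  have hu' : Function.Bijective (u.hom.app (op (EtCoh.top X))) := by
    let j := (EtCore.bcTopIso a).inv
    have hj := ConcreteCategory.bijective_of_isIso (F.obj.map j.op)
    have hj' := ConcreteCategory.bijective_of_isIso (((EtCoh.push c').obj ((EtCoh.pull c').obj F)).obj.map j.op)
    refine (Function.Bijective.of_comp_iff _ hj).1 ?_
    exact bijective_of_eq (fun x => (NatTrans.naturality_apply u.hom j.op x).symm) (hj'.comp hu)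
  have key : ∀ x, EtLim45.sect0 (EtCore.Hpull c' F 0 x) =
      ((EtCoh.pull c').obj F).obj.map (EtCore.bcTopIso c').inv.op (u.hom.app (op (EtCoh.top X)) (EtLim45.sect0 x)) := by
    intro x
    refine Eq.trans ?_ (EtLim45.sect0_HpullThen c' u x)
    refine congrArg EtLim45.sect0 ?_
    have hsym : (aG'.homEquiv F _).symm u = 𝟙 _ := (Equiv.symm_apply_eq _).2 (aG'.homEquiv_id F).symm
    refine Eq.trans ?_ (congrArg (fun α => EtLim.HpullThen c' F α 0 x) hsym).symm
    show _ = (EtCoh.HF X' 0).map (𝟙 _) _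
    rw [CategoryTheory.Functor.map_id]
    rfl
  have hc := (ConcreteCategory.bijective_of_isIso (((EtCoh.pull c').obj F).obj.map (EtCore.bcTopIso c').inv.op)).comp
    (hu'.comp (EtLim45.sect0_bijective F))
  exact (Function.Bijective.of_comp_iff' (EtLim45.sect0_bijective _) _).1 (bijective_of_eq (fun x => (key x).symm) hc)

theorem subsingleton_H_of_qAcyclic [CompactSpace X] [QuasiSeparatedSpace X] {T : EtCoh.Ab X}
    (hq : PBC51.QAcyclic T) (n : ℕ) : Subsingleton (EtCoh.H X T (n + 1)) := by
  have := Unr55.EtSh.preservesFiniteLimits_pull (𝟙 X)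
  have := hq (EtCoh.top X) ‹_› ‹_› (n + 1) n.succ_pos
  have h2 : Subsingleton (EtCoh.H X ((EtCoh.pull (𝟙 X)).obj T) (n + 1)) := this
  exact (EtCore45.Hpull_bijective_uh (𝟙 X) T (n + 1)).1.subsingleton

/-- Cohomology of torsion sheaves on proper schemes is invariant under extensions of separably closed fields. -/
theorem Hpull_bijective_fieldExt (a : X ⟶ Spec (CommRingCat.of Ω)) [IsProper a]
    (c : Spec (CommRingCat.of K) ⟶ Spec (CommRingCat.of Ω))
    [PreservesFiniteLimits (EtCoh.pull (pullback.fst a c))] :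
    ∀ (q : ℕ) (F : EtCoh.Ab X), EtCoh.IsTorsion F → Function.Bijective (EtCore.Hpull (pullback.fst a c) F q) := by
  have : CompactSpace X := QuasiCompact.compactSpace_of_compactSpace a
  have : QuasiSeparatedSpace X := quasiSeparatedSpace_of_quasiSeparated a
  let P := EtCoh.pull (pullback.fst a c)
  intro q
  induction q with
  | zero => exact fun F _ => Hpull_zero_bijective a c _ _ (IsPullback.of_hasPullback a c) F
  | succ m ih =>
    intro F hF
    obtain ⟨T, v, hv, hT, hq⟩ := PBC51.exists_torsion_qAcyclic hF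
    let S := ShortComplex.mk v (cokernel.π v) (cokernel.condition v)
    have hS : S.ShortExact := ShortComplex.ShortExact.mk' (ShortComplex.exact_cokernel _) hv inferInstance
    have hQ : EtCoh.IsTorsion S.X₃ := Cons51.isTorsion_of_epi (cokernel.π v) hT
    have hS' := hS.map_of_exact P
    have h₀ : Subsingleton (EtCoh.H X S.X₂ (m + 1)) := subsingleton_H_of_qAcyclic hq m
    have h₀' : Subsingleton (EtCoh.H (pullback a c) (P.obj S.X₂) (m + 1)) := by
      obtain ⟨e⟩ := PBC51.nonempty_H_fieldExt a c T hT (m + 1)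
      exact e.symm.injective.subsingleton
    refine ⟨(injective_iff_map_eq_zero _).2 fun x hx => ?_, fun x => ?_⟩
    · obtain ⟨z, rfl⟩ := Ext.covariant_sequence_exact₁ _ hS x (Subsingleton.elim (α := EtCoh.H X S.X₂ (m + 1)) _ _) rfl
      replace hx := (GalCoh84.Hpull_extClass (pullback.fst a c) hS rfl z).symm.trans hx
      obtain ⟨w, hw⟩ := Ext.covariant_sequence_exact₃ _ hS' _ rfl hx
      obtain ⟨w', rfl⟩ := (ih T hT).2 w
      have hz : z = w'.comp (Ext.mk₀ S.g) (add_zero m) :=
        (ih _ hQ).1 (hw.symm.trans (GalCoh84.Hpull_naturality _ S.g m w').symm)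
      rw [hz]
      exact (Ext.comp_assoc_of_second_deg_zero w' _ _ _).trans
        ((congrArg (w'.comp · rfl) hS.comp_extClass).trans (Ext.comp_zero _ _ _ _ _))
    · obtain ⟨z', rfl⟩ := Ext.covariant_sequence_exact₁ _ hS' x
        (Subsingleton.elim (α := EtCoh.H (pullback a c) (P.obj S.X₂) (m + 1)) _ _) rfl
      obtain ⟨z, rfl⟩ := (ih _ hQ).2 z'
      exact ⟨z.comp hS.extClass rfl, GalCoh84.Hpull_extClass _ hS rfl z⟩

end Groth.Agent.EtBC48
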