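import Groth.Agent.EtBC48.Killed
import Groth.Agent.EtBC48.Diag

/-!
Base change in degree `q` given base change in lower degrees.
-/

set_option autoImplicit false
set_option backward.isDefEq.respectTransparency.types false
universe u

open CategoryTheory CategoryTheory.Limits AlgebraicGeometry Opposite

namespace Groth.Agent.EtBC48

variable {X S X' S' : Scheme.{u}} (f : X ⟶ S) (g : S' ⟶ S) (f' : X' ⟶ S') (g' : X' ⟶ X)

/-- The short exact sequence of a monomorphism. -/
theorem shortExact_coker {A : Type*} [Category A] [Abelian A] {F G : A} (ι : F ⟶ G) [Mono ι] :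
    (ShortComplex.mk ι (cokernel.π ι) (cokernel.condition _)).ShortExact :=
  { exact := ShortComplex.exact_of_g_is_cokernel _ (cokernelIsCokernel ι)
    mono_f := ‹Mono ι›
    epi_g := inferInstanceAs (Epi (cokernel.π ι)) }

/-- Injectivity in degree `m + 1` of the base change map from bijectivity in degree `m`. -/
theorem mono_bcQ_succ (w : g' ≫ f = f' ≫ g) [PreservesFiniteLimits (EtCoh.pull g')] {n m : ℕ}
    (H : ∀ G : EtCoh.Ab X, EtCoh.KilledBy n G → IsIso (EtBC.bcQ f g f' g' w m G))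
    (F : EtCoh.Ab X) (hF : EtCoh.KilledBy n F) : Mono (EtBC.bcQ f g f' g' w (m + 1) F) := by
  obtain ⟨G, ι, hι, hG, hG0⟩ := exists_embed_killed hF
  have hQ : EtCoh.KilledBy n (cokernel ι) := killedBy_of_epi (cokernel.π ι) hG
  obtain ⟨δ, δ', hd, hδ₁, hδ₂, -, hδ₁', -, -⟩ := exists_bcQ_ladder f g f' g' w (shortExact_coker ι) m
  have := H G hG
  have := H _ hQ
  obtain ⟨_, hδ₂⟩ := hδ₂
  have : Epi δ := hδ₂.epi_f (((EtCoh.pull g).map_isZero (hG0 f m)).eq_of_tgt _ _)
  exact four_mono hδ₁.1 hδ₁' (bcQ_natural f g f' g' w m (cokernel.π ι)) hd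

/-- A monomorphism of sheaves killed by `n` gives a monomorphism of cokernels of base change maps. -/
theorem exists_mono_cokernel_bcQ (w : g' ≫ f = f' ≫ g) [PreservesFiniteLimits (EtCoh.pull g')] {n m : ℕ}
    (H : ∀ G : EtCoh.Ab X, EtCoh.KilledBy n G → IsIso (EtBC.bcQ f g f' g' w m G))
    {F G : EtCoh.Ab X} (ι : F ⟶ G) [Mono ι] (hG : EtCoh.KilledBy n G) :
    ∃ φ : cokernel (EtBC.bcQ f g f' g' w (m + 1) F) ⟶ cokernel (EtBC.bcQ f g f' g' w (m + 1) G), Mono φ ∧
      cokernel.π (EtBC.bcQ f g f' g' w (m + 1) F) ≫ φ =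
        (EtCoh.Rpush f' (m + 1)).map ((EtCoh.pull g').map ι) ≫ cokernel.π (EtBC.bcQ f g f' g' w (m + 1) G) := by
  have hQ : EtCoh.KilledBy n (cokernel ι) := killedBy_of_epi (cokernel.π ι) hG
  obtain ⟨δ, δ', hd, -, -, hfg, -, hδ₂', hfg'⟩ := exists_bcQ_ladder f g f' g' w (shortExact_coker ι) m
  have := H _ hQ
  have := mono_bcQ_succ f g f' g' w H _ hQ
  exact four_cokernel (hfg (m + 1)) hδ₂' (hfg' (m + 1)).1 hd
    (bcQ_natural f g f' g' w (m + 1) ι) (bcQ_natural f g f' g' w (m + 1) (cokernel.π ι))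

end Groth.Agent.EtBC48
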