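import Groth.Agent.EtBC48.IntegralPts
import Groth.Agent.EtCore45.FiniteBC
import Groth.Agent.EtBC48.Local
import Groth.Agent.EtBC48.BCQ
import Mathlib.RingTheory.TensorProduct.Basic
import Mathlib.LinearAlgebra.TensorProduct.Finiteness

/-!
Base change for direct images along integral morphisms.
-/

set_option autoImplicit false
set_option backward.isDefEq.respectTransparency.types false
universe u

open CategoryTheory CategoryTheory.Limits AlgebraicGeometry Opposite TensorProduct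
open Groth.Agent.Unr55.EtSh Groth.Agent.EtCore45

namespace Groth.Agent.EtBC48

/-- Elements of the stalk may be chosen separately on the fibres of a map to a finite scheme. -/
theorem exists_amalgam {X X₀ Y : Scheme.{u}} (f₀ : X₀ ⟶ Y) [IsFinite f₀] (p : X ⟶ X₀) (f : X ⟶ Y)
    (hf : p ≫ f₀ = f) {K : Type u} [Field K] [IsAlgClosed K] (η : Spec (CommRingCat.of K) ⟶ Y) (F : EtCoh.Ab X)
    (k : (Spec (CommRingCat.of K) ⟶ X₀) → ((EtCoh.stalk η).obj ((EtCoh.push f).obj F) : AddCommGrpCat.{u + 1})) :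
    ∃ a, ∀ (ξ : Spec (CommRingCat.of K) ⟶ X) (h : ξ ≫ f = η),
      pushMapAt f h F a = pushMapAt f h F (k (ξ ≫ p)) := by
  subst hf
  let e := (EtCoh.stalk η).mapIso ((EtCoh.pushComp f₀ p).app F)
  obtain ⟨a₀, ha₀⟩ := exists_components f₀ η ((EtCoh.push p).obj F)
    fun ξ₀ => pushMapAt f₀ ξ₀.2 ((EtCoh.push p).obj F) (e.inv (k ξ₀.1))
  refine ⟨e.hom a₀, fun ξ h => ?_⟩
  have h₀ : (ξ ≫ p) ≫ f₀ = η := (Category.assoc _ _ _).trans h
  have hk : e.hom (e.inv (k (ξ ≫ p))) = k (ξ ≫ p) := Iso.inv_hom_id_apply e _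
  refine (pushMapAt_pushComp f₀ p h h₀ F a₀).trans ?_
  rw [ha₀ (ξ ≫ p) h₀]
  exact (pushMapAt_pushComp f₀ p h h₀ F _).symm.trans (congrArg (pushMapAt (p ≫ f₀) h F) hk)

theorem surjective_stalk_bc0_spec (A B : Type u) [CommRing A] [CommRing B] [Algebra A B] [Algebra.IsIntegral A B]
    {Y' X' : Scheme.{u}} (g : Y' ⟶ Spec (CommRingCat.of A)) (f' : X' ⟶ Y') [IsIntegralHom f']
    (g' : X' ⟶ Spec (CommRingCat.of B))
    (h : IsPullback g' f' (Spec.map (CommRingCat.ofHom (algebraMap A B))) g) (F : EtCoh.Ab (Spec (CommRingCat.of B)))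
    {K : Type u} [Field K] [IsAlgClosed K] (η : Spec (CommRingCat.of K) ⟶ Y')
    (b : ((EtCoh.stalk η).obj ((EtCoh.push f').obj ((EtCoh.pull g').obj F)) : AddCommGrpCat.{u + 1})) :
    ∃ a, (EtCoh.stalk η).map (EtCoh.baseChange0 (Spec.map (CommRingCat.ofHom (algebraMap A B))) g f' g' h.w F)
      (theta g η _ a) = b := by
  classical
  let f := Spec.map (CommRingCat.ofHom (algebraMap A B))
  have : IsIntegralHom f := (IsIntegralHom.SpecMap_iff).2 (algebraMap_isIntegral_iff.2 inferInstance)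
  let κ := Spec.preimage (η ≫ g)
  let : Algebra A K := κ.hom.toAlgebra
  have hη : Spec.map (CommRingCat.ofHom (algebraMap A K)) = η ≫ g := Spec.map_preimage _
  let R := K ⊗[A] B
  let cX : Spec (CommRingCat.of R) ⟶ Spec (CommRingCat.of B) :=
    Spec.map (CommRingCat.ofHom (Algebra.TensorProduct.includeRight (R := A) (A := K) (B := B)).toRingHom)
  let cK : Spec (CommRingCat.of R) ⟶ Spec (CommRingCat.of K) := Spec.map (CommRingCat.ofHom (algebraMap K R))
  have hsq : cX ≫ f = (cK ≫ η) ≫ g := by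
    rw [Category.assoc, ← hη, ← Spec.map_comp, ← Spec.map_comp]
    congr 1
    ext a
    exact (Algebra.TensorProduct.includeRight (R := A) (A := K) (B := B)).commutes a
  let c' : Spec (CommRingCat.of R) ⟶ X' := h.lift cX (cK ≫ η) hsq
  let ev : (B →ₐ[A] K) → (R →ₐ[K] K) := fun φ =>
    Algebra.TensorProduct.lift (Algebra.ofId K K) φ fun _ _ => Commute.all _ _
  let e : (B →ₐ[A] K) → (Spec (CommRingCat.of K) ⟶ Spec (CommRingCat.of R)) := fun φ =>
    Spec.map (CommRingCat.ofHom (ev φ).toRingHom)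
  have hev : ∀ (φ : B →ₐ[A] K) (x : B), ev φ (1 ⊗ₜ x) = φ x := fun φ x =>
    (Algebra.TensorProduct.lift_tmul (Algebra.ofId K K) φ _ 1 x).trans (by rw [map_one, one_mul])
  have heK : ∀ φ, e φ ≫ cK = 𝟙 _ := fun φ => by
    rw [← Spec.map_comp, ← Spec.map_id]
    congr 1
    ext r
    exact (ev φ).commutes r
  have heX : ∀ φ, e φ ≫ cX = Spec.map (CommRingCat.ofHom φ.toRingHom) := fun φ => by
    rw [← Spec.map_comp]
    congr 1
    ext x
    exact hev φ x
  let ξ : (B →ₐ[A] K) → (Spec (CommRingCat.of K) ⟶ X') := fun φ => e φ ≫ c'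
  have hξf : ∀ φ, ξ φ ≫ f' = η := fun φ => by
    rw [Category.assoc, h.lift_snd, ← Category.assoc, heK, Category.id_comp]
  have hξg : ∀ φ, ξ φ ≫ g' = Spec.map (CommRingCat.ofHom φ.toRingHom) := fun φ => by
    rw [Category.assoc, h.lift_fst, heX]
  have hξY : ∀ φ, (ξ φ ≫ g') ≫ f = η ≫ g := fun φ => by rw [Category.assoc, h.w, ← Category.assoc, hξf]
  have hall : ∀ ξ' : Spec (CommRingCat.of K) ⟶ X', ξ' ≫ f' = η → ∃ φ, ξ φ = ξ' := fun ξ' hξ' => by
    let φ₀ := Spec.preimage (ξ' ≫ g')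
    have hφ : CommRingCat.ofHom (algebraMap A B) ≫ φ₀ = CommRingCat.ofHom (algebraMap A K) :=
      Spec.map_injective (by rw [Spec.map_comp, Spec.map_preimage, hη, Category.assoc, h.w, ← Category.assoc, hξ'])
    refine ⟨{ φ₀.hom with commutes' := fun a => congr($hφ a) }, h.hom_ext ?_ ((hξf _).trans hξ'.symm)⟩
    rw [hξg]
    exact Spec.map_preimage (ξ' ≫ g')
  let aSurj : ∀ φ, ∃ a, pushMapAt f (hξY φ) F a = _ := fun φ => pushMapAt_surjective_integral f F (hξY φ)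
    ((Equiv.ofBijective _ (theta_bijective g' (ξ φ) F)).symm (pushMapAt f' (hξf φ) ((EtCoh.pull g').obj F) b))
  choose aφ haφ using aSurj
  let d : (B →ₐ[A] K) → ((EtCoh.stalk η).obj ((EtCoh.push f').obj ((EtCoh.pull g').obj F)) : AddCommGrpCat.{u + 1}) :=
    fun φ => (EtCoh.stalk η).map (EtCoh.baseChange0 f g f' g' h.w F) (theta g η _ (aφ φ)) - b
  have hd : ∀ φ, pushMapAt f' (hξf φ) ((EtCoh.pull g').obj F) (d φ) = 0 := fun φ => by
    rw [map_sub, pushMapAt_bc0 f g f' g' h.w F η (ξ φ) (hξf φ) (hξY φ) (aφ φ), haφ, sub_eq_zero]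
    exact Equiv.ofBijective_apply_symm_apply _ (theta_bijective g' (ξ φ) F) _
  choose V s δ hδ using fun φ => exists_germ_eq η ((EtCoh.push f').obj ((EtCoh.pull g').obj F)) (d φ)
  have hsV : ∀ φ, (cK ≫ hom η (s φ)) ≫ (V φ).hom = c' ≫ f' := fun φ => by
    rw [Category.assoc, h.lift_snd]
    exact congrArg (cK ≫ ·) (Over.w (s φ))
  let cP : ∀ φ, Spec (CommRingCat.of R) ⟶ ((EtCoh.bc f').obj (V φ)).left := fun φ =>
    pullback.lift (cK ≫ hom η (s φ)) c' (hsV φ)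
  have hcP : ∀ φ ψ, hom (ξ ψ) (ptUpAt f' (hξf ψ) (s φ)) = e ψ ≫ cP φ := fun φ ψ => by
    refine pullback.hom_ext ((pullback.lift_fst _ _ _).trans ?_) ((pullback.lift_snd _ _ _).trans ?_)
    · exact ((Category.assoc _ _ _).trans ((congrArg (e ψ ≫ ·) (pullback.lift_fst _ _ _)).trans
        ((Category.assoc _ _ _).symm.trans ((congrArg (· ≫ hom η (s φ)) (heK ψ)).trans (Category.id_comp _))))).symm
    · exact ((Category.assoc _ _ _).trans (congrArg (e ψ ≫ ·) (pullback.lift_snd _ _ _))).symm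
  let N : (B →ₐ[A] K) → (Spec (CommRingCat.of R)).Opens := fun φ =>
    cP φ ⁻¹ᵁ vanishing ((EtCoh.pull g').obj F) (δ φ)
  have hN : ∀ φ, e φ default ∈ N φ := fun φ => by
    have h0 := hd φ
    rw [← hδ, pushMapAt_germ] at h0
    obtain ⟨W, q, t, h1, h2⟩ := (germ_eq_zero_iff (ξ φ) _ _ _).1 h0
    refine range_le_vanishing ((EtCoh.pull g').obj F) (U := (EtCoh.bc f').obj (V φ)) (δ φ) q h2 ⟨hom (ξ φ) t default, ?_⟩
    exact (congrArg (fun r => hom (ξ φ) r default) h1).trans (congr($(hcP φ φ) default))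
  have hmem : ∀ (φ : B →ₐ[A] K) (x : R), e φ default ∈ PrimeSpectrum.basicOpen x ↔ ev φ x ≠ 0 := fun φ x => by
    change ¬ (ev φ x ∈ (default : Spec (CommRingCat.of K)).asIdeal) ↔ _
    rw [show (default : Spec (CommRingCat.of K)).asIdeal = ⊥ from
      (Ideal.eq_bot_or_top _).resolve_right (default : Spec (CommRingCat.of K)).isPrime.ne_top, Ideal.mem_bot]
  have hpts : ∀ q : PrimeSpectrum R, ∃ φ, e φ default = q := fun q => by
    have : Algebra.IsIntegral K R := inferInstance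
    let π : R →ₐ[K] K := (AlgEquiv.ofBijective (Algebra.ofId K (R ⧸ q.asIdeal))
      IsAlgClosed.algebraMap_bijective_of_isIntegral).symm.toAlgHom.comp (Ideal.Quotient.mkₐ K q.asIdeal)
    let φ : B →ₐ[A] K := (π.restrictScalars A).comp Algebra.TensorProduct.includeRight
    have hπ : ev φ = π := Algebra.TensorProduct.ext (Subsingleton.elim _ _) (AlgHom.ext fun x => hev φ x)
    refine ⟨φ, PrimeSpectrum.ext (Ideal.ext fun x => ?_)⟩
    have := hmem φ x
    rw [hπ] at this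
    refine (not_iff_not.1 this).trans ?_
    simp [π, Ideal.Quotient.eq_zero_iff_mem]
  choose ρ hρ using hpts
  have hx : ∀ q : PrimeSpectrum R, ∃ x : R, q ∈ PrimeSpectrum.basicOpen x ∧ PrimeSpectrum.basicOpen x ≤ N (ρ q) :=
    fun q => by
      obtain ⟨_, ⟨_, ⟨x, rfl⟩, rfl⟩, hq, hle⟩ := (PrimeSpectrum.isBasis_basic_opens (R := R)).exists_subset_of_mem_open
        (u := (N (ρ q)).carrier) (a := q)
        ((congrArg (· ∈ N (ρ q)) (hρ q)).mp (hN (ρ q))) (N (ρ q)).isOpen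
      exact ⟨x, hq, hle⟩
  choose x hxq hxN using hx
  obtain ⟨t, ht⟩ := isCompact_univ.elim_finite_subcover (fun q : PrimeSpectrum R => (PrimeSpectrum.basicOpen (x q) : Set (PrimeSpectrum R)))
    (fun q => (PrimeSpectrum.basicOpen (x q)).2) (fun q _ => Set.mem_iUnion.2 ⟨q, hxq q⟩)
  choose S hS using fun q => TensorProduct.exists_finset (x q)
  let B₀ : Subalgebra A B := Algebra.adjoin A (↑(t.biUnion fun q => (S q).image Prod.snd) : Set B)
  have : Algebra.FiniteType A B₀ := ⟨B₀.fg_top.2 ⟨_, rfl⟩⟩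
  have : Algebra.IsIntegral A B₀ := Algebra.IsIntegral.of_injective B₀.val Subtype.val_injective
  have : Module.Finite A B₀ := Algebra.IsIntegral.finite
  let p : Spec (CommRingCat.of B) ⟶ Spec (CommRingCat.of B₀) := Spec.map (CommRingCat.ofHom B₀.val.toRingHom)
  let f₀ : Spec (CommRingCat.of B₀) ⟶ Spec (CommRingCat.of A) := Spec.map (CommRingCat.ofHom (algebraMap A B₀))
  have : IsFinite f₀ := (IsFinite.SpecMap_iff _).2 (RingHom.finite_algebraMap.2 inferInstance)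
  have hpf : p ≫ f₀ = f := by rw [← Spec.map_comp]; rfl
  have hagree : ∀ φ ψ : B →ₐ[A] K, (ξ φ ≫ g') ≫ p = (ξ ψ ≫ g') ≫ p → ∀ q ∈ t, ev φ (x q) = ev ψ (x q) := by
    intro φ ψ hp q hq
    rw [hξg, hξg, ← Spec.map_comp, ← Spec.map_comp] at hp
    have hp' := Spec.map_injective hp
    rw [hS q, map_sum, map_sum]
    refine Finset.sum_congr rfl fun i hi => ?_
    refine (Algebra.TensorProduct.lift_tmul (Algebra.ofId K K) φ _ i.1 i.2).trans (Eq.trans ?_
      (Algebra.TensorProduct.lift_tmul (Algebra.ofId K K) ψ _ i.1 i.2).symm)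
    have hi' : i.2 ∈ B₀ := Algebra.subset_adjoin (Finset.mem_coe.2
      (Finset.mem_biUnion.2 ⟨q, hq, Finset.mem_image.2 ⟨i, hi, rfl⟩⟩))
    exact congrArg (_ * ·) congr($hp' ⟨i.2, hi'⟩)
  let P : (Spec (CommRingCat.of K) ⟶ Spec (CommRingCat.of B₀)) → PrimeSpectrum R → Prop := fun ξ₀ q =>
    q ∈ t ∧ ∃ φ, (ξ φ ≫ g') ≫ p = ξ₀ ∧ ev φ (x q) ≠ 0
  let k : (Spec (CommRingCat.of K) ⟶ Spec (CommRingCat.of B₀)) →
      ((EtCoh.stalk (η ≫ g)).obj ((EtCoh.push f).obj F) : AddCommGrpCat.{u + 1}) := fun ξ₀ =>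
    if hP : ∃ q, P ξ₀ q then aφ (ρ hP.choose) else 0
  obtain ⟨a, ha⟩ := exists_amalgam f₀ p f hpf (η ≫ g) F k
  refine ⟨a, sub_eq_zero.1 (pushMapAt_injective_integral f' _ _ fun ξ' hξ' => ?_)⟩
  obtain ⟨φ, rfl⟩ := hall ξ' hξ'
  have hP : ∃ q, P ((ξ φ ≫ g') ≫ p) q := by
    obtain ⟨q, hq, hφq⟩ := Set.mem_iUnion₂.1 (ht (Set.mem_univ (e φ default)))
    exact ⟨q, hq, φ, rfl, (hmem φ (x q)).1 hφq⟩
  obtain ⟨q, hq, hk⟩ : ∃ q, e φ default ∈ PrimeSpectrum.basicOpen (x q) ∧ k ((ξ φ ≫ g') ≫ p) = aφ (ρ q) := by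
    refine ⟨hP.choose, ?_, dif_pos hP⟩
    obtain ⟨hqt, ψ, hψ, hne⟩ := hP.choose_spec
    exact (hmem φ _).2 (by rwa [← hagree ψ φ hψ _ hqt])
  have hz : pushMapAt f' hξ' ((EtCoh.pull g').obj F) (d (ρ q)) = 0 := by
    rw [← hδ, pushMapAt_germ]
    refine germ_eq_zero_of_mem_vanishing _ _ _ _ ?_
    rw [hcP]
    exact hxN q hq
  rw [map_sub, pushMapAt_bc0 f g f' g' h.w F η (ξ φ) hξ' (hξY φ) a, ha _ (hξY φ), hk,
    ← pushMapAt_bc0 f g f' g' h.w F η (ξ φ) hξ' (hξY φ) (aφ (ρ q)), ← map_sub]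
  exact hz

theorem isIso_bc0_spec (A B : Type u) [CommRing A] [CommRing B] [Algebra A B] [Algebra.IsIntegral A B]
    {Y' X' : Scheme.{u}} (g : Y' ⟶ Spec (CommRingCat.of A)) (f' : X' ⟶ Y') (g' : X' ⟶ Spec (CommRingCat.of B))
    (h : IsPullback g' f' (Spec.map (CommRingCat.ofHom (algebraMap A B))) g) (F : EtCoh.Ab (Spec (CommRingCat.of B))) :
    IsIso (EtCoh.baseChange0 (Spec.map (CommRingCat.ofHom (algebraMap A B))) g f' g' h.w F) := by
  let f := Spec.map (CommRingCat.ofHom (algebraMap A B))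
  have : IsIntegralHom f := (IsIntegralHom.SpecMap_iff).2 (algebraMap_isIntegral_iff.2 inferInstance)
  have : IsIntegralHom f' := MorphismProperty.of_isPullback h inferInstance
  refine isIso_of_stalks_algClosed _ fun K _ _ η => ⟨?_, fun b => ?_⟩
  · refine (injective_iff_map_eq_zero ((EtCoh.stalk η).map _).hom).2 fun b hb => ?_
    obtain ⟨a, rfl⟩ := (theta_bijective g η ((EtCoh.push f).obj F)).2 b
    rw [show a = 0 from pushMapAt_injective_integral f F a fun ξ hξ => ?_, map_zero]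
    obtain ⟨ξ', rfl, h2⟩ : ∃ ξ', ξ' ≫ g' = ξ ∧ ξ' ≫ f' = η :=
      ⟨h.lift ξ η hξ, h.lift_fst _ _ _, h.lift_snd _ _ _⟩
    have e := pushMapAt_bc0 f g f' g' h.w F η ξ' h2 hξ a
    refine (theta_bijective g' ξ' F).1 ?_
    rw [← e, map_zero]
    exact (congrArg (pushMapAt f' h2 ((EtCoh.pull g').obj F)) hb).trans (map_zero _)
  · obtain ⟨a, ha⟩ := surjective_stalk_bc0_spec A B g f' g' h F η b
    exact ⟨_, ha⟩

end Groth.Agent.EtBC48

namespace Groth.Agent.EtBC48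

variable {X Y X' Y' : Scheme.{u}}

/-- Base change holds for direct images along integral morphisms. -/
theorem isIso_baseChange0_integral (f : X ⟶ Y) [IsIntegralHom f] (g : Y' ⟶ Y) (f' : X' ⟶ Y') (g' : X' ⟶ X)
    (h : IsPullback g' f' f g) (F : EtCoh.Ab X) : IsIso (EtCoh.baseChange0 f g f' g' h.w F) := by
  change IsIso (bc0 AbU f g f' g' h.w F)
  let ι := Y.affineOpens
  let aX : ι → X.Opens := fun V => f ⁻¹ᵁ V.1
  have haX : ∀ V : ι, IsAffineOpen (aX V) := fun V => V.2.preimage f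
  let U : ι → Y'.Etale := fun V => Scheme.Etale.mk (g ⁻¹ᵁ V.1).ι
  let iV : ∀ V : ι, Spec Γ(Y, V.1) ⟶ Y := fun V => V.2.fromSpec
  let W : ι → Y.Etale := fun V => Scheme.Etale.mk (iV V)
  let a : ∀ V, (U V).left ⟶ (W V).left := fun V => (g ∣_ V.1) ≫ V.2.isoSpec.hom
  let gi : ∀ V : ι, Spec Γ(X, aX V) ⟶ Spec Γ(Y, V.1) := fun V => Spec.map (f.appLE V.1 (aX V) le_rfl)
  have cT : ∀ V : ι, IsPullback (haX V).fromSpec (gi V) f (W V).hom := fun V =>
    (IsOpenImmersion.isPullback (gi V) (haX V).fromSpec (iV V) f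
      (IsAffineOpen.SpecMap_appLE_fromSpec f V.2 (haX V) le_rfl).symm (by
        rw [IsAffineOpen.opensRange_fromSpec, IsAffineOpen.opensRange_fromSpec])).flip
  refine isIso_bc0_local AbU h F U (fun y => ?_) W a (fun V => ?_) _ (fun V => pullback (gi V) (a V)) gi
    (fun V => (haX V).fromSpec) cT (fun V => pullback.snd (gi V) (a V)) (fun V => pullback.fst (gi V) (a V))
    (fun V => IsPullback.of_hasPullback _ _) fun V => ?_
  · obtain ⟨V, hV, hyV, -⟩ := exists_isAffineOpen_mem_and_subset (x := g y) (U := ⊤) trivial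
    exact ⟨⟨V, hV⟩, ⟨y, hyV⟩, rfl⟩
  · change ((g ∣_ V.1) ≫ V.2.isoSpec.hom) ≫ V.2.fromSpec = (g ⁻¹ᵁ V.1).ι ≫ g
    rw [Category.assoc, IsAffineOpen.isoSpec_hom_fromSpec, morphismRestrict_ι]
  · have : IsIntegralHom (gi V) := MorphismProperty.of_isPullback (cT V) ‹IsIntegralHom f›
    let φ := f.appLE V.1 (aX V) le_rfl
    let : Algebra Γ(Y, V.1) Γ(X, aX V) := φ.hom.toAlgebra
    have : Algebra.IsIntegral Γ(Y, V.1) Γ(X, aX V) := ⟨(IsIntegralHom.SpecMap_iff).1 ‹IsIntegralHom (gi V)›⟩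
    exact isIso_bc0_spec Γ(Y, V.1) Γ(X, aX V) (a V) (pullback.snd (gi V) (a V)) (pullback.fst (gi V) (a V))
      (IsPullback.of_hasPullback (gi V) (a V)) _

end Groth.Agent.EtBC48
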