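import Groth.Agent.EtBC48.BCQ

/-!
Base change maps and composition on the source.
-/

set_option autoImplicit false
set_option backward.isDefEq.respectTransparency.types false
universe u v₁ v₂ v₃ v₄ v₅ v₆ u₁ u₂ u₃ u₄ u₅ u₆

open CategoryTheory CategoryTheory.Limits HomologicalComplex

namespace Groth.Agent.EtBC48

theorem assoc₄ {C : Type*} [Category C] {A₁ A₂ A₃ A₄ A₅ A₆ : C} (a : A₁ ⟶ A₂) (b : A₂ ⟶ A₃) (c : A₃ ⟶ A₄)
    (d : A₄ ⟶ A₅) (e : A₅ ⟶ A₆) : (a ≫ b ≫ c ≫ d) ≫ e = a ≫ b ≫ c ≫ d ≫ e := by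
  simp only [Category.assoc]

theorem vpaste_aux {C : Type*} [Category C] {T A₁ A₂ A₃ A₄ B₁ B₂ B₃ B₄ V : C} {s : T ⟶ A₁} {m : A₁ ⟶ A₂}
    {p : A₂ ⟶ A₃} {r : A₃ ⟶ V} {p₁ : A₁ ⟶ A₄} {cm : A₄ ⟶ A₃} {r₁ : A₄ ⟶ V} {t : T ⟶ V} {c : T ⟶ B₁}
    {n : B₁ ⟶ B₂} {sa : B₂ ⟶ A₂} {q : B₂ ⟶ B₃} {r₄ : B₃ ⟶ V} {q' : B₁ ⟶ B₄} {sq : B₄ ⟶ B₃} {v : B₄ ⟶ V}
    (e₁ : m ≫ p = p₁ ≫ cm) (e₂ : cm ≫ r = r₁) (e₃ : s ≫ p₁ ≫ r₁ = t) (e₄ : sa ≫ p ≫ r = q ≫ r₄)
    (e₅ : n ≫ q = q' ≫ sq) (e₆ : sq ≫ r₄ = v) (e₇ : c ≫ q' ≫ v = t) :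
    (s ≫ m) ≫ p ≫ r = (c ≫ n ≫ sa) ≫ p ≫ r := by
  simp only [Category.assoc]
  rw [reassoc_of% e₁, e₂, e₃, e₄, reassoc_of% e₅, e₆, e₇]

section Abstract

variable {CX : Type u₁} [Category.{v₁} CX] [Abelian CX] [HasInjectiveResolutions CX]
  {CS : Type u₂} [Category.{v₂} CS] [Abelian CS]
  {CX' : Type u₃} [Category.{v₃} CX'] [Abelian CX'] [HasInjectiveResolutions CX']
  {CS' : Type u₄} [Category.{v₄} CS'] [Abelian CS']
  {CA : Type u₅} [Category.{v₅} CA] [Abelian CA] [HasInjectiveResolutions CA]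
  {CA' : Type u₆} [Category.{v₆} CA'] [Abelian CA'] [HasInjectiveResolutions CA']
  {Pf : CX ⥤ CS} {Pf' : CX' ⥤ CS'} {Lg : CS ⥤ CS'} {Pg : CS' ⥤ CS} {Lg' : CX ⥤ CX'} {Pg' : CX' ⥤ CX}
  {Pa : CA ⥤ CX} {Pa' : CA' ⥤ CX'} {L : CA ⥤ CA'} {P : CA' ⥤ CA} {Pc : CA ⥤ CS} {Pc' : CA' ⥤ CS'}
  (aG : Lg ⊣ Pg) (aG' : Lg' ⊣ Pg') (σ : Pg' ⋙ Pf ≅ Pf' ⋙ Pg)
  (aA : L ⊣ P) (τ : P ⋙ Pa ≅ Pa' ⋙ Pg') (c : Pa ⋙ Pf ≅ Pc) (c' : Pa' ⋙ Pf' ≅ Pc') (ρ : P ⋙ Pc ≅ Pc' ⋙ Pg)
  (hρ : ∀ G : CA', c.hom.app (P.obj G) ≫ ρ.hom.app G =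
    Pf.map (τ.hom.app G) ≫ σ.hom.app (Pa'.obj G) ≫ Pg.map (c'.hom.app G))

include hρ in
omit [Abelian CX] [HasInjectiveResolutions CX] [Abelian CS] [Abelian CX'] [HasInjectiveResolutions CX'] [Abelian CS']
  [Abelian CA] [HasInjectiveResolutions CA] [Abelian CA'] [HasInjectiveResolutions CA'] in
theorem bcM_vcomp (F : CA) :
    bcM aG aA ρ.hom F = Lg.map (c.inv.app F) ≫ bcM aG aG' σ.hom (Pa.obj F) ≫
      Pf'.map (bcM aG' aA τ.hom F) ≫ c'.hom.app (L.obj F) := by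
  refine (bcM_ext aG aA ρ.hom ?_).symm
  have h1 := bcM_unit aG aG' σ.hom (Pa.obj F)
  have h2 := bcM_unit aG' aA τ.hom F
  have h3 := σ.hom.naturality (bcM aG' aA τ.hom F)
  dsimp at h3
  have h4 := aG.unit.naturality (c.inv.app F)
  dsimp at h4
  have h5 := c.hom.naturality (aA.unit.app F)
  dsimp at h5
  simp only [Functor.map_comp]
  rw [← reassoc_of% h4, reassoc_of% h1, ← reassoc_of% h3, ← Functor.map_comp_assoc Pf, h2,
    Functor.map_comp_assoc, ← hρ]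
  dsimp
  rw [reassoc_of% h5, Iso.inv_hom_id_app_assoc]

variable [Pf.Additive] [Pf'.Additive] [Lg.Additive] [Pg.Additive] [Lg'.Additive] [Pg'.Additive]
  [Pa.Additive] [Pa'.Additive] [L.Additive] [P.Additive] [Pc.Additive] [Pc'.Additive]
  [PreservesFiniteLimits Pg] [Pg'.PreservesInjectiveObjects] [P.PreservesInjectiveObjects]
  [PreservesFiniteLimits Lg] [PreservesFiniteColimits Lg] [PreservesFiniteLimits Lg'] [PreservesFiniteColimits Lg']
  [PreservesFiniteLimits L] [PreservesFiniteColimits L]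
  [PreservesFiniteLimits Pa] [PreservesFiniteColimits Pa] [Pa.PreservesInjectiveObjects]
  [PreservesFiniteLimits Pa'] [PreservesFiniteColimits Pa'] [Pa'.PreservesInjectiveObjects]

include hρ in
/-- The base change map of the composite with an exact functor. -/
theorem isIso_bcD_vpaste_iff (q : ℕ) (F : CA) (h₀ : IsIso (bcM aG' aA τ.hom F)) :
    IsIso (bcD aG aA ρ q F) ↔ IsIso (bcD aG aG' σ q (Pa.obj F)) := by
  let R := injectiveResolution F
  let R'' := injectiveResolution (L.obj F)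
  obtain ⟨φ, hφ⟩ := exists_lift (Lg' := L) R R''
  let RP : InjectiveResolution (Pa.obj F) :=
    { cocomplex := (Pa.mapHomologicalComplex _).obj R.cocomplex
      injective := fun n => Pa.injective_obj (R.cocomplex.X n)
      ι := RDer.mapAug Pa R.ι }
  let R₁ : InjectiveResolution (Lg'.obj (Pa.obj F)) :=
    { cocomplex := (Pa'.mapHomologicalComplex _).obj R''.cocomplex
      injective := fun n => Pa'.injective_obj (R''.cocomplex.X n)
      ι := (CochainComplex.single₀ CX').map (bcM aG' aA τ.hom F) ≫ RDer.mapAug Pa' R''.ι }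
  let φ₁ : (Lg'.mapHomologicalComplex (ComplexShape.up ℕ)).obj RP.cocomplex ⟶ R₁.cocomplex :=
    bcCx aG' aA τ R.cocomplex ≫ (Pa'.mapHomologicalComplex _).map φ
  have h₁ : Lg'.map (RP.ι.f 0) ≫ φ₁.f 0 = R₁.ι.f 0 := by
    have hn := bcM_natural aG' aA τ.hom (R.ι.f 0)
    simp only [RP, R₁, φ₁, HomologicalComplex.comp_f, Functor.mapHomologicalComplex_map_f,
      NatTrans.mapHomologicalComplex_app_f, bcNat_app, RDer.mapAug]
    simp only [Category.id_comp, Functor.map_comp, Category.assoc]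
    simp
    refine (congrArg (· ≫ _) (Lg'.map_id _)).trans ((Category.id_comp _).trans (Eq.trans ?_
      (congrArg (_ ≫ ·) (Category.id_comp _).symm)))
    exact ((reassoc_of% hn) _).trans (congrArg (_ ≫ ·) ((Pa'.map_comp _ _).symm.trans (congrArg Pa'.map hφ)))
  rw [isIso_bcD_iff aG aA ρ q R R'' φ hφ, isIso_bcD_iff aG aG' σ q RP R₁ φ₁ h₁]
  let Θ : (Lg.mapHomologicalComplex (ComplexShape.up ℕ)).obj ((Pc.mapHomologicalComplex _).obj R.cocomplex) ≅
      (Lg.mapHomologicalComplex _).obj ((Pf.mapHomologicalComplex _).obj RP.cocomplex) :=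
    (Lg.mapHomologicalComplex _).mapIso (HomologicalComplex.Hom.isoOfComponents
      (fun i => (c.app (R.cocomplex.X i)).symm) fun i j _ => (c.inv.naturality (R.cocomplex.d i j)).symm)
  let Θ' : (Pf'.mapHomologicalComplex (ComplexShape.up ℕ)).obj R₁.cocomplex ≅
      (Pc'.mapHomologicalComplex _).obj R''.cocomplex :=
    HomologicalComplex.Hom.isoOfComponents
      (fun i => c'.app (R''.cocomplex.X i)) fun i j _ => (c'.hom.naturality (R''.cocomplex.d i j)).symm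
  have e : bcCx aG aA ρ R.cocomplex ≫ (Pc'.mapHomologicalComplex _).map φ =
      Θ.hom ≫ (bcCx aG aG' σ RP.cocomplex ≫ (Pf'.mapHomologicalComplex _).map φ₁) ≫ Θ'.hom := by
    ext i
    have h1 := bcM_vcomp aG aG' σ aA τ c c' ρ hρ (R.cocomplex.X i)
    have h2 := c'.hom.naturality (φ.f i)
    simp only [Θ, Θ', φ₁, HomologicalComplex.comp_f, Functor.mapHomologicalComplex_map_f,
      NatTrans.mapHomologicalComplex_app_f, bcNat_app, HomologicalComplex.Hom.isoOfComponents_hom_f,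
      Functor.mapIso_hom, Iso.symm_hom, Iso.app_inv, Iso.app_hom, Category.assoc, Functor.map_comp]
    exact ((congrArg (· ≫ _) h1).trans (assoc₄ _ _ _ _ _)).trans (congrArg (fun t => _ ≫ _ ≫ _ ≫ t) h2.symm)
  rw [e, homologyMap_comp, isIso_comp_left_iff, homologyMap_comp, isIso_comp_right_iff]

variable [PreservesFiniteLimits Pg'] [PreservesFiniteLimits Pf] [PreservesFiniteColimits Pf]
  [PreservesFiniteLimits Pf'] [PreservesFiniteColimits Pf']

include hρ in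
omit [HasInjectiveResolutions CX'] [Pg'.PreservesInjectiveObjects] [PreservesFiniteLimits Pa]
  [PreservesFiniteColimits Pa] [Pa.PreservesInjectiveObjects] [PreservesFiniteLimits Pa']
  [PreservesFiniteColimits Pa'] [Pa'.PreservesInjectiveObjects] in
/-- The base change map of the composite with an exact functor on the base. -/
theorem isIso_bcD_hpaste_iff (q : ℕ) (F : CA) (h₀ : ∀ G : CX, IsIso (bcM aG aG' σ.hom G)) :
    IsIso (bcD aG aA ρ q F) ↔ IsIso (Pf'.map (bcD aG' aA τ q F)) := by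
  let R := injectiveResolution F
  let R'' := injectiveResolution (L.obj F)
  obtain ⟨φ, hφ⟩ := exists_lift (Lg' := L) R R''
  rw [isIso_bcD_iff aG aA ρ q R R'' φ hφ, isIso_map_bcD_iff aG' aA τ q Pf' R R'' φ hφ]
  refine Iff.trans ?_ (isIso_map_homologyMap_iff Pf' _ q).symm
  let PR := (Pa.mapHomologicalComplex (ComplexShape.up ℕ)).obj R.cocomplex
  let Θ : (Lg.mapHomologicalComplex (ComplexShape.up ℕ)).obj ((Pc.mapHomologicalComplex _).obj R.cocomplex) ≅
      (Lg.mapHomologicalComplex _).obj ((Pf.mapHomologicalComplex _).obj PR) :=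
    (Lg.mapHomologicalComplex _).mapIso (HomologicalComplex.Hom.isoOfComponents
      (fun i => (c.app (R.cocomplex.X i)).symm) fun i j _ => (c.inv.naturality (R.cocomplex.d i j)).symm)
  let Θ' : (Pf'.mapHomologicalComplex (ComplexShape.up ℕ)).obj ((Pa'.mapHomologicalComplex _).obj R''.cocomplex) ≅
      (Pc'.mapHomologicalComplex _).obj R''.cocomplex :=
    HomologicalComplex.Hom.isoOfComponents
      (fun i => c'.app (R''.cocomplex.X i)) fun i j _ => (c'.hom.naturality (R''.cocomplex.d i j)).symm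
  let ψ := bcCx aG' aA τ R.cocomplex ≫ (Pa'.mapHomologicalComplex _).map φ
  have : ∀ i, IsIso ((bcCx aG aG' σ PR).f i) := fun i => h₀ _
  have := HomologicalComplex.Hom.isIso_of_components (bcCx aG aG' σ PR)
  have e : bcCx aG aA ρ R.cocomplex ≫ (Pc'.mapHomologicalComplex _).map φ =
      (Θ.hom ≫ bcCx aG aG' σ PR) ≫ (Pf'.mapHomologicalComplex _).map ψ ≫ Θ'.hom := by
    ext i
    have h1 := bcM_vcomp aG aG' σ aA τ c c' ρ hρ (R.cocomplex.X i)
    have h2 := c'.hom.naturality (φ.f i)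
    simp only [Θ, Θ', ψ, HomologicalComplex.comp_f, Functor.mapHomologicalComplex_map_f,
      NatTrans.mapHomologicalComplex_app_f, bcNat_app, HomologicalComplex.Hom.isoOfComponents_hom_f,
      Functor.mapIso_hom, Iso.symm_hom, Iso.app_inv, Iso.app_hom, Category.assoc, Functor.map_comp]
    exact ((congrArg (· ≫ _) h1).trans (assoc₄ _ _ _ _ _)).trans (congrArg (fun t => _ ≫ _ ≫ _ ≫ t) h2.symm)
  rw [e, homologyMap_comp, isIso_comp_left_iff, homologyMap_comp, isIso_comp_right_iff]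

end Abstract

section Etale

open AlgebraicGeometry Opposite

variable (A : Type (u + 2)) [Category.{u + 1} A]
variable {X S X' S' Z Z' : Scheme.{u}} (f : X ⟶ S) (g : S' ⟶ S) (f' : X' ⟶ S') (g' : X' ⟶ X) (w : g' ≫ f = f' ≫ g)
  (a : Z ⟶ X) (a' : Z' ⟶ X') (k : Z' ⟶ Z) (w' : k ≫ a = a' ≫ g') (w'' : k ≫ a ≫ f = (a' ≫ f') ≫ g)

/-- Coherence of the squares composed on the source. -/
theorem sqIso_vpaste (G : Sheaf Z'.smallEtaleTopology A) :
    (pushC A f a).hom.app ((push A k).obj G) ≫ (sqIso A (a ≫ f) g (a' ≫ f') k w'').hom.app G =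
      (push A f).map ((sqIso A a g' a' k w').hom.app G) ≫ (sqIso A f g f' g' w).hom.app ((push A a').obj G) ≫
        (push A g).map ((pushC A f' a').hom.app G) := by
  refine ObjectProperty.hom_ext _ (NatTrans.ext (funext fun ⟨V⟩ => ?_))
  change ((pushC A f a).hom.app ((push A k).obj G)).hom.app (op V) ≫
      ((sqIso A (a ≫ f) g (a' ≫ f') k w'').hom.app G).hom.app (op V) =
    ((sqIso A a g' a' k w').hom.app G).hom.app (op ((EtCoh.bc f).obj V)) ≫
      ((sqIso A f g f' g' w).hom.app ((push A a').obj G)).hom.app (op V) ≫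
        ((pushC A f' a').hom.app G).hom.app (op ((EtCoh.bc g).obj V))
  rw [sqIso_hom_app, sqIso_hom_app, sqIso_hom_app, pushC_hom_app, pushC_hom_app]
  change G.obj.map ((EtCoh.bc k).map ((cmpBC f a).hom.app V)).op ≫ G.obj.map _ =
    G.obj.map _ ≫ G.obj.map ((EtCoh.bc a').map (sqMap f g f' g' w V)).op ≫ G.obj.map _
  simp only [← Functor.map_comp, ← op_comp]
  refine congrArg G.obj.map (congrArg Quiver.Hom.op ?_)
  refine bc_hom_ext₃ f a k ?_
  change ((sqMap (a ≫ f) g (a' ≫ f') k w'' V).left ≫ ((EtCoh.bc k).map ((cmpBC f a).hom.app V)).left) ≫ _ =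
    (((cmpBC f' a').hom.app ((EtCoh.bc g).obj V)).left ≫ ((EtCoh.bc a').map (sqMap f g f' g' w V)).left ≫
      (sqMap a g' a' k w' ((EtCoh.bc f).obj V)).left) ≫ _
  exact vpaste_aux (bc_map_fst k ((cmpBC f a).hom.app V)) (cmpBC_hom_fst f a V)
    (sqMap_fst (a ≫ f) g (a' ≫ f') k w'' V)
    ((sqMap_fst_assoc a g' a' k w' ((EtCoh.bc f).obj V) (pullback.fst V.hom f)).trans (Category.assoc _ _ _))
    (bc_map_fst a' (sqMap f g f' g' w V)) (sqMap_fst f g f' g' w V)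
    (cmpBC_hom_fst_assoc f' a' ((EtCoh.bc g).obj V) (pullback.fst V.hom g))

end Etale

section Quot

open AlgebraicGeometry Opposite

variable {X S X' S' Z Z' : Scheme.{u}} (f : X ⟶ S) (g : S' ⟶ S) (f' : X' ⟶ S') (g' : X' ⟶ X) (w : g' ≫ f = f' ≫ g)
  (a : Z ⟶ X) (a' : Z' ⟶ X') (k : Z' ⟶ Z) (w' : k ≫ a = a' ≫ g') (w'' : k ≫ a ≫ f = (a' ≫ f') ≫ g)

/-- Base change maps and an exact direct image on the source. -/
theorem isIso_bcQ_vpaste_iff [PreservesFiniteColimits (EtCoh.push a)] [PreservesFiniteColimits (EtCoh.push a')]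
    [PreservesFiniteLimits (EtCoh.pull g')] [PreservesFiniteLimits (EtCoh.pull k)] (q : ℕ) (F : EtCoh.Ab Z)
    (h₀ : IsIso (EtCoh.baseChange0 a g' a' k w' F)) :
    IsIso (EtBC.bcQ (a ≫ f) g (a' ≫ f') k w'' q F) ↔ IsIso (EtBC.bcQ f g f' g' w q ((EtCoh.push a).obj F)) := by
  have := Unr55.EtSh.preservesFiniteLimits_pull g
  have : PreservesLimitsOfSize.{0, 0} (EtCoh.push a) := (EtCoh.pullPushAdj a).rightAdjoint_preservesLimits
  have : PreservesLimitsOfSize.{0, 0} (EtCoh.push a') := (EtCoh.pullPushAdj a').rightAdjoint_preservesLimits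
  have : PreservesFiniteLimits (EtCoh.pull a) := Unr55.EtSh.preservesFiniteLimits_pull a
  have : PreservesFiniteLimits (EtCoh.pull a') := Unr55.EtSh.preservesFiniteLimits_pull a'
  have := Functor.preservesInjectiveObjects_of_adjunction_of_preservesMonomorphisms (EtCoh.pullPushAdj a)
  have := Functor.preservesInjectiveObjects_of_adjunction_of_preservesMonomorphisms (EtCoh.pullPushAdj a')
  rw [bcQ_eq, bcQ_eq]
  exact isIso_bcD_vpaste_iff (Pf := EtCoh.push f) (Pf' := EtCoh.push f') (Pa := EtCoh.push a) (Pa' := EtCoh.push a')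
    (Pc := EtCoh.push (a ≫ f)) (Pc' := EtCoh.push (a' ≫ f')) (EtCoh.pullPushAdj g) (EtCoh.pullPushAdj g')
    (sqIso AbU f g f' g' w) (EtCoh.pullPushAdj k) (sqIso AbU a g' a' k w') (pushC AbU f a) (pushC AbU f' a')
    (sqIso AbU (a ≫ f) g (a' ≫ f') k w'') (sqIso_vpaste AbU f g f' g' w a a' k w' w'') q F h₀

/-- Base change maps and an exact direct image on the base. -/
theorem isIso_bcQ_hpaste_iff [PreservesFiniteColimits (EtCoh.push f)] [PreservesFiniteColimits (EtCoh.push f')]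
    [PreservesFiniteLimits (EtCoh.pull g')] [PreservesFiniteLimits (EtCoh.pull k)] (q : ℕ) (F : EtCoh.Ab Z)
    (h₀ : ∀ G, IsIso (EtCoh.baseChange0 f g f' g' w G)) :
    IsIso (EtBC.bcQ (a ≫ f) g (a' ≫ f') k w'' q F) ↔
      IsIso ((EtCoh.push f').map (EtBC.bcQ a g' a' k w' q F)) := by
  have := Unr55.EtSh.preservesFiniteLimits_pull g
  have : PreservesLimitsOfSize.{0, 0} (EtCoh.push f) := (EtCoh.pullPushAdj f).rightAdjoint_preservesLimits
  have : PreservesLimitsOfSize.{0, 0} (EtCoh.push f') := (EtCoh.pullPushAdj f').rightAdjoint_preservesLimits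
  rw [bcQ_eq, bcQ_eq]
  exact isIso_bcD_hpaste_iff (Pf := EtCoh.push f) (Pf' := EtCoh.push f') (Pa := EtCoh.push a) (Pa' := EtCoh.push a')
    (Pc := EtCoh.push (a ≫ f)) (Pc' := EtCoh.push (a' ≫ f')) (EtCoh.pullPushAdj g) (EtCoh.pullPushAdj g')
    (sqIso AbU f g f' g' w) (EtCoh.pullPushAdj k) (sqIso AbU a g' a' k w') (pushC AbU f a) (pushC AbU f' a')
    (sqIso AbU (a ≫ f) g (a' ≫ f') k w'') (sqIso_vpaste AbU f g f' g' w a a' k w' w'') q F h₀

end Quot

end Groth.Agent.EtBC48
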