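import Groth.Agent.EtBC48.Induct
import Groth.Agent.EtBC48.IntegralBC
import Groth.Agent.EtBC48.VPaste
import Groth.Agent.Cons51.IntegralBC

/-!
Devissage of base change maps along integral morphisms.
-/

set_option autoImplicit false
set_option backward.isDefEq.respectTransparency.types false
universe u

open CategoryTheory CategoryTheory.Limits AlgebraicGeometry Opposite
open Groth.Agent.Unr55.EtSh Groth.Agent.EtCore45

namespace Groth.Agent.EtBC48

variable {X Y : Scheme.{u}}

/-- A sheaf with vanishing integral direct image vanishes. -/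
theorem isZero_of_push_integral (π : X ⟶ Y) [IsIntegralHom π] (G : EtCoh.Ab X)
    (hG : IsZero ((EtCoh.push π).obj G)) : IsZero G := by
  refine isZero_of_stalks_algClosed G fun K _ _ ξ => ?_
  have h0 : IsZero ((EtCoh.stalk (ξ ≫ π)).obj ((EtCoh.push π).obj G)) := (EtCoh.stalk (ξ ≫ π)).map_isZero hG
  have := AddCommGrpCat.subsingleton_of_isZero h0
  have : Subsingleton ((EtCoh.stalk ξ).obj G : AddCommGrpCat.{u + 1}) :=
    (pushMapAt_surjective_integral π G (η := ξ ≫ π) rfl).subsingleton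
  exact AddCommGrpCat.isZero_of_subsingleton _

/-- Integral direct images reflect isomorphisms. -/
theorem isIso_of_push_integral (π : X ⟶ Y) [IsIntegralHom π] {F G : EtCoh.Ab X} (φ : F ⟶ G)
    (h : IsIso ((EtCoh.push π).map φ)) : IsIso φ := by
  have := Cons51.preservesFiniteColimits_push_integral π
  have : PreservesLimitsOfSize.{0, 0} (EtCoh.push π) := (EtCoh.pullPushAdj π).rightAdjoint_preservesLimits
  have : Mono φ := Preadditive.mono_of_isZero_kernel _ (isZero_of_push_integral π _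
    ((isZero_kernel_of_mono ((EtCoh.push π).map φ)).of_iso (PreservesKernel.iso (EtCoh.push π) φ)))
  have : Epi φ := Preadditive.epi_of_isZero_cokernel _ (isZero_of_push_integral π _
    ((isZero_cokernel_of_epi ((EtCoh.push π).map φ)).of_iso (PreservesCokernel.iso (EtCoh.push π) φ)))
  exact isIso_of_mono_of_epi _

theorem killedBy_map {n : ℕ} {F : EtCoh.Ab X} (Φ : EtCoh.Ab X ⥤ EtCoh.Ab Y) [Φ.Additive]
    (hF : EtCoh.KilledBy n F) : EtCoh.KilledBy n (Φ.obj F) :=
  killedBy_iff.2 (by rw [← Φ.map_id, ← Functor.map_nsmul, killedBy_iff.1 hF, Φ.map_zero])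

/-- Descent of base change along an integral surjection of the source. -/
theorem isIso_bcQ_of_integral_cover {S' X' T Y T' Y' : Scheme.{u}} (f' : X' ⟶ S') (g : T ⟶ S') (h : Y ⟶ X')
    (e : Y ⟶ T) (w : e ≫ g = h ≫ f') (π : T' ⟶ T) [IsIntegralHom π] [Surjective π] (π' : Y' ⟶ Y) (e' : Y' ⟶ T')
    (c' : IsPullback e' π' π e) (w'' : e' ≫ π ≫ g = (π' ≫ h) ≫ f')
    [PreservesFiniteLimits (EtCoh.pull e)] [PreservesFiniteLimits (EtCoh.pull e')] {n m : ℕ}
    (H : ∀ G : EtCoh.Ab T, EtCoh.KilledBy n G → IsIso (EtBC.bcQ g f' h e w m G))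
    (F : EtCoh.Ab T) (hF : EtCoh.KilledBy n F)
    (hiso : IsIso (EtBC.bcQ (π ≫ g) f' (π' ≫ h) e' w'' (m + 1) ((EtCoh.pull π).obj F))) :
    IsIso (EtBC.bcQ g f' h e w (m + 1) F) := by
  have : IsIntegralHom π' := MorphismProperty.of_isPullback c' inferInstance
  have := Cons51.preservesFiniteColimits_push_integral π
  have := Cons51.preservesFiniteColimits_push_integral π'
  have : (EtCoh.pull π).Additive := (EtCoh.pullPushAdj π).left_adjoint_additive
  let G := (EtCoh.push π).obj ((EtCoh.pull π).obj F)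
  let ι : F ⟶ G := (EtCoh.pullPushAdj π).unit.app F
  have : Mono ι := mono_unit_of_surjective π F
  have hG : EtCoh.KilledBy n G := killedBy_map (EtCoh.push π) (killedBy_map (EtCoh.pull π) hF)
  have hbc : IsIso (EtBC.bcQ g f' h e w (m + 1) G) :=
    (isIso_bcQ_vpaste_iff g f' h e w π π' e' c'.w w'' (m + 1) _
      (isIso_baseChange0_integral π e π' e' c' _)).1 hiso
  obtain ⟨φ, hφ, -⟩ := exists_mono_cokernel_bcQ g f' h e w H ι hG
  have := mono_bcQ_succ g f' h e w H F hF
  have : Epi (EtBC.bcQ g f' h e w (m + 1) F) := Preadditive.epi_of_isZero_cokernel _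
    (IsZero.of_mono φ (isZero_cokernel_of_epi _))
  exact isIso_of_mono_of_epi _

/-- Base change and composition with an integral morphism on the base. -/
theorem isIso_bcQ_of_integral_base {S' X' S'' X'' T Y : Scheme.{u}} (f' : X' ⟶ S') (π : S'' ⟶ S') [IsIntegralHom π]
    (f'' : X'' ⟶ S'') (π' : X'' ⟶ X') (hX : IsPullback π' f'' f' π) (g' : T ⟶ S'') (h' : Y ⟶ X'') (e : Y ⟶ T)
    (w' : e ≫ g' = h' ≫ f'') (w'' : e ≫ g' ≫ π = (h' ≫ π') ≫ f') [PreservesFiniteLimits (EtCoh.pull e)]
    (q : ℕ) (F : EtCoh.Ab T) (hiso : IsIso (EtBC.bcQ (g' ≫ π) f' (h' ≫ π') e w'' q F)) :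
    IsIso (EtBC.bcQ g' f'' h' e w' q F) := by
  have : IsIntegralHom π' := MorphismProperty.of_isPullback hX.flip inferInstance
  have := Cons51.preservesFiniteColimits_push_integral π
  have := Cons51.preservesFiniteColimits_push_integral π'
  have := Unr55.EtSh.preservesFiniteLimits_pull f''
  exact isIso_of_push_integral π' _ ((isIso_bcQ_hpaste_iff π f' π' f'' hX.flip.w g' h' e w' w'' q F
    (fun G => isIso_baseChange0_integral π f' π' f'' hX.flip G)).1 hiso)

end Groth.Agent.EtBC48
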