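import Groth.Agent.EtCore45.PushEpi
import Groth.Agent.EtCore45.BaseChange

/-!
Stalks of direct images along integral morphisms at algebraically closed points.
-/

set_option autoImplicit false
set_option backward.isDefEq.respectTransparency.types false
universe u

open CategoryTheory CategoryTheory.Limits AlgebraicGeometry Opposite IsLocalRing
open Groth.Agent.Unr55.EtSh Groth.Agent.EtCore45 Groth.Agent.FlatMor66

namespace Groth.Agent.EtBC48

variable {X Y : Scheme.{u}} {K : Type u} [Field K] [IsAlgClosed K]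

/-- Algebraically closed points lift through integral morphisms. -/
theorem exists_lift_integral {P V : Scheme.{u}} (q : P ⟶ V) [IsIntegralHom q]
    (η : Spec (CommRingCat.of K) ⟶ V) (z : P) (hz : q z = η default) :
    ∃ c : Spec (CommRingCat.of K) ⟶ P, c ≫ q = η ∧ c default = z := by
  let Q := pullback q η
  let p₂ : Q ⟶ Spec (CommRingCat.of K) := pullback.snd q η
  have : IsIntegralHom p₂ := MorphismProperty.pullback_snd _ _ inferInstance
  have : IsAffine Q := isAffine_of_isAffineHom p₂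
  obtain ⟨w, hw, -⟩ := Scheme.Pullback.exists_preimage_pullback (f := q) (g := η) z default hz
  let B := Γ(Q, ⊤)
  let φ₀ : CommRingCat.of K ⟶ B := (Scheme.ΓSpecIso (CommRingCat.of K)).inv ≫ p₂.appTop
  have hint : φ₀.hom.IsIntegral := RingHom.IsIntegral.trans _ _
    (RingHom.isIntegral_of_surjective _
      (ConcreteCategory.bijective_of_isIso (Scheme.ΓSpecIso (CommRingCat.of K)).inv).2)
    ((HasAffineProperty.iff_of_isAffine (P := @IsIntegralHom)).1 ‹IsIntegralHom p₂›).2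
  algebraize [φ₀.hom]
  have : Algebra.IsIntegral K B := ⟨hint⟩
  let p : PrimeSpectrum B := Q.isoSpec.hom w
  let ψ := algebraMap K (B ⧸ p.asIdeal)
  have hψ : Function.Bijective ψ := IsAlgClosed.algebraMap_bijective_of_isIntegral
  let e := RingEquiv.ofBijective ψ hψ
  let ρ : B ⟶ CommRingCat.of K := CommRingCat.ofHom (e.symm.toRingHom.comp (Ideal.Quotient.mk p.asIdeal))
  have hρ : φ₀ ≫ ρ = 𝟙 _ := CommRingCat.hom_ext (RingHom.ext fun k => e.symm_apply_apply k)
  let c : Spec (CommRingCat.of K) ⟶ Q := Spec.map ρ ≫ Q.isoSpec.inv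
  have hc : c ≫ p₂ = 𝟙 _ := by
    rw [Category.assoc, ← Scheme.isoSpec_inv_naturality, ← Category.assoc, ← Spec.map_comp]
    have : (Spec (CommRingCat.of K)).isoSpec.inv = Spec.map (Scheme.ΓSpecIso (CommRingCat.of K)).inv := by
      simp
    rw [this, ← Spec.map_comp, ← Category.assoc, show ((Scheme.ΓSpecIso (CommRingCat.of K)).inv ≫ p₂.appTop) ≫ ρ = 𝟙 _
      from hρ, Spec.map_id]
  refine ⟨c ≫ pullback.fst q η, ?_, ?_⟩
  · rw [Category.assoc, pullback.condition, ← Category.assoc, hc, Category.id_comp]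
  · refine Eq.trans ?_ hw
    refine congrArg (pullback.fst q η) ?_
    apply Q.isoSpec.hom.isOpenEmbedding.injective
    show (c ≫ Q.isoSpec.hom) default = p
    rw [Category.assoc, Iso.inv_hom_id, Category.comp_id]
    refine PrimeSpectrum.ext (Ideal.ext fun b => ?_)
    change ρ.hom b ∈ (default : Spec (CommRingCat.of K)).asIdeal ↔ _
    rw [show (default : Spec (CommRingCat.of K)).asIdeal = ⊥ from
      (Ideal.eq_bot_or_top _).resolve_right (default : Spec (CommRingCat.of K)).isPrime.ne_top]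
    simp [ρ, Ideal.Quotient.eq_zero_iff_mem]

variable (f : X ⟶ Y) [IsIntegralHom f] {η : Spec (CommRingCat.of K) ⟶ Y}

theorem exists_point_of_fibre_integral {V : Y.Etale} (s : Pt η V) (z : ((EtCoh.bc f).obj V).left)
    (hz : pullback.fst V.hom f z = hom η s default) :
    ∃ (ξ : Spec (CommRingCat.of K) ⟶ X) (h : ξ ≫ f = η), hom ξ (ptUpAt f h s) default = z := by
  have : IsIntegralHom (pullback.fst V.hom f) := MorphismProperty.pullback_fst _ _ inferInstance
  obtain ⟨c, hc, hcz⟩ := exists_lift_integral (pullback.fst V.hom f) (hom η s) z hz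
  have hξ : (c ≫ pullback.snd V.hom f) ≫ f = η := by
    have hs : hom η s ≫ V.hom = η := Over.w s
    rw [Category.assoc, ← pullback.condition, reassoc_of% hc, hs]
  refine ⟨_, hξ, ?_⟩
  have : hom _ (ptUpAt f hξ s) = c := pullback.hom_ext
    ((pullback.lift_fst _ _ _).trans hc.symm) (pullback.lift_snd _ _ _)
  exact (congrArg (fun k : Spec (CommRingCat.of K) ⟶ _ => k default) this).trans hcz

theorem pushMapAt_injective_integral (F : EtCoh.Ab X)
    (a : ((EtCoh.stalk η).obj ((EtCoh.push f).obj F) : AddCommGrpCat.{u + 1}))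
    (ha : ∀ (ξ : Spec (CommRingCat.of K) ⟶ X) (h : ξ ≫ f = η), pushMapAt f h F a = 0) : a = 0 := by
  obtain ⟨V, s, σ, rfl⟩ := exists_germ_eq η ((EtCoh.push f).obj F) a
  have : IsIntegralHom (pullback.fst V.hom f) := MorphismProperty.pullback_fst _ _ inferInstance
  let C : Set V.left := pullback.fst V.hom f '' (vanishing F σ : Set ((EtCoh.bc f).obj V).left)ᶜ
  have hC : IsClosed C := (pullback.fst V.hom f).isClosedMap _ (vanishing F σ).2.isClosed_compl
  let O : V.left.Opens := ⟨Cᶜ, hC.isOpen_compl⟩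
  have hs : hom η s default ∈ O := by
    rintro ⟨z, hz, hzs⟩
    obtain ⟨ξ, h, hξz⟩ := exists_point_of_fibre_integral f s z hzs
    obtain ⟨U, g, t, h1, h2⟩ := (germ_eq_zero_iff ξ F (ptUpAt f h s) σ).1
      ((pushMapAt_germ f h F s σ).symm.trans (ha ξ h))
    exact hz (range_le_vanishing F σ g h2 ⟨hom ξ t default,
      (congrArg (fun q => hom ξ q default) h1).trans hξz⟩)
  refine (germ_eq_zero_iff η ((EtCoh.push f).obj F) s σ).2
    ⟨_, openSubι V O, ptOpen O s hs, map_ptOpen O s hs, (map_eq_zero_iff_range_le F σ _).2 ?_⟩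
  rintro _ ⟨p, rfl⟩
  by_contra hp
  have e : ((EtCoh.bc f).map (openSubι V O)).left ≫ pullback.fst V.hom f =
      pullback.fst (openSub V O).hom f ≫ O.ι := (EtCoh.isPullback_bc_map f (openSubι V O)).w
  have hO : (((EtCoh.bc f).map (openSubι V O)).left ≫ pullback.fst V.hom f) p ∈ O := by
    rw [e]
    exact O.range_ι.le ⟨_, rfl⟩
  exact hO ⟨_, hp, rfl⟩

/-- The component maps of an integral direct image are surjective. -/
theorem pushMapAt_surjective_integral (F : EtCoh.Ab X) {ξ : Spec (CommRingCat.of K) ⟶ X} (h : ξ ≫ f = η) :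
    Function.Surjective (pushMapAt f h F) := by
  intro v
  obtain ⟨U, t, σ, rfl⟩ := exists_germ_eq ξ F v
  let Z : ULift.{u} Bool → X.Etale := fun b => if b.down then U else Scheme.Etale.mk (𝟙 X)
  let g : ∀ b, (Z b).left ⟶ X := fun b => (Z b).hom
  have : ∀ b, Etale (g b) := fun b => (Z b).prop
  let u₀ : Σ b, (Z b).left := ⟨⟨true⟩, hom ξ t default⟩
  have hu₀ : f (g u₀.1 u₀.2) = η default := by
    change f (U.hom (hom ξ t default)) = η default
    have ht : hom ξ t ≫ U.hom = ξ := Over.w t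
    exact (congrArg (fun k : Spec (CommRingCat.of K) ⟶ X => f (k default)) ht).trans (congr($h default))
  obtain ⟨T⟩ := exists_split f g (η default) (fun x _ => ⟨⟨false⟩, x, rfl⟩) {u₀} Set.subsingleton_singleton
    (by rintro _ rfl; exact hu₀)
  obtain ⟨a₀, w₀, hw₀⟩ := T.des u₀ rfl
  have hidx : T.idx a₀ = ⟨true⟩ := congrArg Sigma.fst hw₀
  have := T.etale
  let V : Y.Etale := Scheme.Etale.mk T.v
  let e : ((EtCoh.bc f).obj V).left ⟶ T.P := T.isPullback.flip.isoPullback.inv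
  let W' : T.μ → ((EtCoh.bc f).obj V).left.Opens := fun a => e ⁻¹ᵁ T.W a
  have he : e ≫ T.pr₁ = pullback.snd T.v f := T.isPullback.flip.isoPullback_inv_snd
  let m : ∀ a, openSub ((EtCoh.bc f).obj V) (W' a) ⟶ Z (T.idx a) := fun a =>
    MorphismProperty.Over.homMk ((e ∣_ T.W a) ≫ T.h a) (by
      change ((e ∣_ T.W a) ≫ T.h a) ≫ g (T.idx a) = (W' a).ι ≫ pullback.snd T.v f
      rw [Category.assoc, T.comm, morphismRestrict_ι_assoc, he]) trivial
  have hd : ∀ a b, a ≠ b → Disjoint (W' a) (W' b) := fun a b hab => disjoint_iff.2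
    (by rw [← Scheme.Hom.preimage_inf, (T.disj a b hab).eq_bot, Scheme.Hom.preimage_bot])
  have ht : ⨆ a, W' a = ⊤ := by rw [← Scheme.Hom.preimage_iSup, T.top, Scheme.Hom.preimage_top]
  let σZ : ∀ b, EtCoh.sect F (Z b) := fun b => match b with
    | ⟨true⟩ => σ
    | ⟨false⟩ => 0
  obtain ⟨Sg, hSg⟩ := exists_glue_disjoint_sect F W' hd ht fun a => F.obj.map (m a).op (σZ (T.idx a))
  let hWg : (T.W a₀ : Scheme.{u}) ⟶ (Z (T.idx a₀)).left := T.h a₀
  have : Etale ((T.W a₀).ι ≫ T.pr₁) := by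
    have : Etale T.pr₁ := MorphismProperty.of_isPullback (P := @Etale) T.isPullback.flip inferInstance
    infer_instance
  have : Etale (hWg ≫ g (T.idx a₀)) := by rw [T.comm]; infer_instance
  have : Etale hWg := Etale.of_comp hWg (g (T.idx a₀))
  have : LocallyQuasiFinite hWg := lqf_of_etale _
  obtain ⟨c, hcm, hcg⟩ : ∃ (c : Spec (CommRingCat.of K) ⟶ (T.W a₀ : Scheme.{u})) (t' : Pt ξ (Z (T.idx a₀))),
      c ≫ hWg = hom ξ t' ∧ germ ξ F t' (σZ (T.idx a₀)) = germ ξ F t σ := by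
    have key : ∀ (b : ULift.{u} Bool) (hb : b = ⟨true⟩) (W : Scheme.{u}) (k : W ⟶ (Z b).left)
        [LocallyQuasiFinite k] (w : W), (⟨b, k w⟩ : Σ b, (Z b).left) = u₀ →
        ∃ (c : Spec (CommRingCat.of K) ⟶ W) (t' : Pt ξ (Z b)),
          c ≫ k = hom ξ t' ∧ germ ξ F t' (σZ b) = germ ξ F t σ := by
      rintro _ rfl W k _ w hw
      obtain ⟨q, -⟩ := FlatMor66.exists_lift k (hom ξ t) w
        ((eq_of_heq (Sigma.mk.inj_iff.1 hw).2).trans (congrArg (hom ξ t) (Subsingleton.elim _ _)))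
      exact ⟨q.1, t, q.2, rfl⟩
    exact key _ hidx _ hWg w₀ hw₀
  obtain ⟨hcw, hgerm⟩ := hcg
  let s' : Spec (CommRingCat.of K) ⟶ T.P := c ≫ (T.W a₀).ι
  have hs1 : s' ≫ T.pr₁ = ξ := by
    rw [Category.assoc, ← T.comm, ← Category.assoc, hcw]
    exact Over.w hcm
  let s : Pt η V := mkPt _ (s' ≫ T.pr₂) (by
    change (s' ≫ T.pr₂) ≫ T.v = η
    rw [Category.assoc, ← T.isPullback.w, ← Category.assoc, hs1, h])
  refine ⟨germ η ((EtCoh.push f).obj F) s Sg, ?_⟩
  rw [pushMapAt_germ]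
  let p := hom ξ (ptUpAt f h s)
  have hpe : p ≫ e = s' := T.isPullback.hom_ext
    (by rw [Category.assoc, he]; exact (pullback.lift_snd _ _ _).trans hs1.symm)
    ((Category.assoc _ _ _).trans ((congrArg (p ≫ ·) T.isPullback.flip.isoPullback_inv_fst).trans
      (pullback.lift_fst _ _ _)))
  have hp : p default ∈ W' a₀ := by
    change (p ≫ e) default ∈ T.W a₀
    rw [hpe]
    exact (T.W a₀).range_ι.le ⟨c default, rfl⟩
  let P₀ := ptOpen (W' a₀) (ptUpAt f h s) hp
  rw [← map_ptOpen (W' a₀) (ptUpAt f h s) hp, ← germ_map, hSg, germ_map, ← hgerm]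
  refine congrArg (fun x => germ ξ F x (σZ (T.idx a₀))) (hom_ext _ ?_)
  have hl : hom ξ P₀ ≫ (W' a₀).ι = p := congrArg (fun r => hom ξ r) (map_ptOpen (W' a₀) (ptUpAt f h s) hp)
  have hc : hom ξ P₀ ≫ (e ∣_ T.W a₀) = c := (cancel_mono (T.W a₀).ι).1 (by
    exact ((Category.assoc _ _ _).trans (congrArg (_ ≫ ·) (morphismRestrict_ι e (T.W a₀)))).trans
      ((Category.assoc _ _ _).symm.trans ((congrArg (· ≫ e) hl).trans hpe)))
  change hom ξ P₀ ≫ (e ∣_ T.W a₀) ≫ T.h a₀ = hom ξ hcm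
  rw [← Category.assoc, hc, hcw]

variable {X₀ : Scheme.{u}}

/-- Component maps of a composite direct image. -/
theorem pushMapAt_pushComp {L : Type u} [Field L] [IsSepClosed L] (f₀ : X₀ ⟶ Y) (p : X ⟶ X₀)
    {η : Spec (CommRingCat.of L) ⟶ Y} {ξ : Spec (CommRingCat.of L) ⟶ X} (h : ξ ≫ p ≫ f₀ = η)
    (h₀ : (ξ ≫ p) ≫ f₀ = η) (F : EtCoh.Ab X)
    (a : ((EtCoh.stalk η).obj ((EtCoh.push f₀).obj ((EtCoh.push p).obj F)) : AddCommGrpCat.{u + 1})) :
    pushMapAt (p ≫ f₀) h F ((EtCoh.stalk η).map ((EtCoh.pushComp f₀ p).hom.app F) a) =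
      pushMapAt p rfl F (pushMapAt f₀ h₀ ((EtCoh.push p).obj F) a) := by
  obtain ⟨V, s, σ, rfl⟩ := exists_germ_eq η _ a
  refine (congrArg (pushMapAt (p ≫ f₀) h F) (stalk_map_germ η ((EtCoh.pushComp f₀ p).hom.app F) s σ)).trans ?_
  refine (pushMapAt_germ (p ≫ f₀) h F s _).trans (Eq.symm ?_)
  refine (congrArg (pushMapAt p rfl F) (pushMapAt_germ f₀ h₀ ((EtCoh.push p).obj F) s σ)).trans ?_
  refine (pushMapAt_germ p rfl F _ _).trans (Eq.symm ?_)
  let k : (EtCoh.bc (p ≫ f₀)).obj V ⟶ (EtCoh.bc p).obj ((EtCoh.bc f₀).obj V) :=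
    (MorphismProperty.Over.pullbackComp (P := EtCoh.etaleMP) (Q := ⊤) p f₀).hom.app V
  have e : ((EtCoh.pushComp f₀ p).hom.app F).hom.app (op V) σ = F.obj.map k.op σ := by
    simp [EtCoh.pushComp, k]
    rfl
  rw [e, germ_map]
  refine congrArg (fun x => germ ξ F x σ) (hom_ext _ ?_)
  change hom ξ (ptUpAt (p ≫ f₀) h s) ≫ k.left = _
  refine pullback.hom_ext (pullback.hom_ext ?_ ?_) ?_
  · refine (Category.assoc _ _ _).trans ((Category.assoc _ _ _).trans ?_)
    refine (congrArg (_ ≫ ·) (MorphismProperty.Over.pullbackComp_left_fst_fst (P := EtCoh.etaleMP) (Q := ⊤) p f₀ V)).trans ?_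
    exact (pullback.lift_fst _ _ _).trans
      ((congrArg (· ≫ _) (pullback.lift_fst _ _ _)).trans (pullback.lift_fst _ _ _)).symm
  · refine Eq.trans ?_ ((congrArg (· ≫ _) (pullback.lift_fst _ _ _)).trans (pullback.lift_snd _ _ _)).symm
    refine (Category.assoc _ _ _).trans ((congrArg (_ ≫ ·) pullback.condition).trans ((Category.assoc _ _ _).symm.trans
      (congrArg (· ≫ p) ((Category.assoc _ _ _).trans ((congrArg (_ ≫ ·) (Over.w k.hom)).trans
        (pullback.lift_snd _ _ _))))))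
  · exact ((Category.assoc _ _ _).trans ((congrArg (_ ≫ ·) (Over.w k.hom)).trans (pullback.lift_snd _ _ _))).trans
      (pullback.lift_snd _ _ _).symm

end Groth.Agent.EtBC48
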