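import Groth.Agent.EtBC48.BCQLadder
import Groth.Agent.Cons51.TorsionInj
import Groth.Agent.RD97.LES

/-!
Sheaves killed by `n` embed in such sheaves without higher direct images.
-/

set_option autoImplicit false
set_option backward.isDefEq.respectTransparency.types false
universe u

open CategoryTheory CategoryTheory.Limits AlgebraicGeometry Opposite

namespace Groth.Agent.EtBC48

variable {T S : Scheme.{u}}

theorem killedBy_iff {n : ℕ} {F : EtCoh.Ab T} : EtCoh.KilledBy n F ↔ n • 𝟙 F = 0 := by
  have hs : ∀ (U : T.Etale) (s : EtCoh.sect F U), ((n • 𝟙 F : F ⟶ F).hom.app (op U)).hom s = n • s := by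
    intro U s
    induction n with
    | zero => simp
    | succ m ih => rw [succ_nsmul, succ_nsmul, ← ih]; rfl
  constructor
  · intro h
    ext U s
    exact (hs U.unop s).trans (h U.unop s)
  · intro h U s
    rw [← hs U s, h]
    rfl

theorem killedBy_of_mono {n : ℕ} {F G : EtCoh.Ab T} (ι : F ⟶ G) [Mono ι] (hG : EtCoh.KilledBy n G) :
    EtCoh.KilledBy n F :=
  killedBy_iff.2 (by rw [← cancel_mono ι, zero_comp, Preadditive.nsmul_comp, Category.id_comp,
    ← Category.comp_id ι, ← Preadditive.comp_nsmul, killedBy_iff.1 hG, comp_zero])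

theorem killedBy_of_epi {n : ℕ} {F G : EtCoh.Ab T} (p : F ⟶ G) [Epi p] (hF : EtCoh.KilledBy n F) :
    EtCoh.KilledBy n G :=
  killedBy_iff.2 (by rw [← cancel_epi p, comp_zero, Preadditive.comp_nsmul, Category.comp_id,
    ← Category.id_comp p, ← Preadditive.nsmul_comp, killedBy_iff.1 hF, zero_comp])

/-- Multiplication by a positive integer is surjective on the direct image of an injective sheaf. -/
theorem epi_push_nsmul (g : T ⟶ S) (I : EtCoh.Ab T) [Injective I] {n : ℕ} (hn : 0 < n) :
    Epi (n • 𝟙 ((EtCoh.push g).obj I)) := by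
  have hs : ∀ (U : S.Etale) (s : EtCoh.sect ((EtCoh.push g).obj I) U),
      ((n • 𝟙 ((EtCoh.push g).obj I) : _ ⟶ (EtCoh.push g).obj I).hom.app (op U)).hom s = n • s := by
    intro U s
    clear hn
    induction n with
    | zero => simp
    | succ m ih => rw [succ_nsmul, succ_nsmul, ← ih]; rfl
  have key : ∀ U, Epi ((n • 𝟙 ((EtCoh.push g).obj I) : _ ⟶ (EtCoh.push g).obj I).hom.app U) := fun U =>
    (AddCommGrpCat.epi_iff_surjective _).2 fun s => by
      obtain ⟨t, ht⟩ := Cons51.exists_nsmul_sect I hn _ s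
      exact ⟨t, (hs U.unop t).trans ht⟩
  have := NatTrans.epi_of_epi_app (n • 𝟙 ((EtCoh.push g).obj I) : _ ⟶ (EtCoh.push g).obj I).hom
  exact (sheafToPresheaf S.smallEtaleTopology AddCommGrpCat.{u + 1}).epi_of_epi_map this

theorem epi_nsmul_of_injective (I : EtCoh.Ab T) [Injective I] {n : ℕ} (hn : 0 < n) : Epi (n • 𝟙 I) := by
  have hs : ∀ (U : T.Etale) (s : EtCoh.sect I U), ((n • 𝟙 I : I ⟶ I).hom.app (op U)).hom s = n • s := by
    intro U s
    clear hn
    induction n with
    | zero => simp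
    | succ m ih => rw [succ_nsmul, succ_nsmul, ← ih]; rfl
  have key : ∀ U, Epi ((n • 𝟙 I : I ⟶ I).hom.app U) := fun U =>
    (AddCommGrpCat.epi_iff_surjective _).2 fun s => by
      obtain ⟨t, ht⟩ := Cons51.exists_nsmul_sect I hn _ s
      exact ⟨t, (hs U.unop t).trans ht⟩
  have := NatTrans.epi_of_epi_app (n • 𝟙 I : I ⟶ I).hom
  exact (sheafToPresheaf T.smallEtaleTopology AddCommGrpCat.{u + 1}).epi_of_epi_map this

/-- The kernel of multiplication by `n` on an injective sheaf has no higher direct images. -/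
theorem isZero_rpush_kernel_nsmul (g : T ⟶ S) (I : EtCoh.Ab T) [Injective I] {n : ℕ} (hn : 0 < n) (q : ℕ) :
    IsZero ((EtCoh.Rpush g (q + 1)).obj (kernel (n • 𝟙 I))) := by
  have := epi_nsmul_of_injective I hn
  obtain ⟨Δ⟩ := RD97.nonempty_derivedLES (EtCoh.push g)
  let S₀ := ShortComplex.mk (kernel.ι (n • 𝟙 I)) (n • 𝟙 I) (kernel.condition _)
  have hS : S₀.ShortExact :=
    { exact := ShortComplex.exact_of_f_is_kernel _ (kernelIsKernel (n • 𝟙 I))
      mono_f := inferInstanceAs (Mono (kernel.ι (n • 𝟙 I)))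
      epi_g := ‹Epi (n • 𝟙 I)› }
  have h₁ := Δ.exact₁ S₀ hS q (q + 1) rfl
  have hg : Epi (((EtCoh.push g).rightDerived q).map S₀.g) ∨ IsZero (((EtCoh.push g).rightDerived q).obj I) := by
    rcases q with _ | q
    · left
      have := epi_push_nsmul g I hn
      have e : ((EtCoh.push g).rightDerived 0).map S₀.g = ((EtCoh.push g).rightDerivedZeroIsoSelf.app I).hom ≫
          (n • 𝟙 ((EtCoh.push g).obj I)) ≫ ((EtCoh.push g).rightDerivedZeroIsoSelf.app I).inv := by
        simp [S₀, Functor.map_nsmul]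
      rw [e]
      exact epi_comp' inferInstance (epi_comp' this inferInstance)
    · exact Or.inr ((EtCoh.push g).isZero_rightDerived_obj_injective_succ q I)
  refine h₁.isZero_of_both_zeros ?_ ?_
  · rcases hg with hg | hg
    · refine (cancel_epi (((EtCoh.push g).rightDerived q).map S₀.g)).1 ?_
      exact (Δ.comp_δ S₀ hS q (q + 1) rfl).trans comp_zero.symm
    · exact hg.eq_of_src _ _
  · exact ((EtCoh.push g).isZero_rightDerived_obj_injective_succ q I).eq_of_tgt _ _

/-- A sheaf killed by `n` embeds in one without higher direct images. -/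
theorem exists_embed_killed {n : ℕ} {F : EtCoh.Ab T} (hF : EtCoh.KilledBy n F) :
    ∃ (G : EtCoh.Ab T) (ι : F ⟶ G), Mono ι ∧ EtCoh.KilledBy n G ∧
      ∀ {S : Scheme.{u}} (g : T ⟶ S) (q : ℕ), IsZero ((EtCoh.Rpush g (q + 1)).obj G) := by
  obtain rfl | hn := Nat.eq_zero_or_pos n
  · exact ⟨Injective.under F, Injective.ι F, inferInstance, fun U s => zero_smul _ s,
      fun g q => (EtCoh.push g).isZero_rightDerived_obj_injective_succ q _⟩
  · let j := kernel.lift (n • 𝟙 (Injective.under F)) (Injective.ι F) (by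
      rw [Preadditive.comp_nsmul, Category.comp_id, ← Category.id_comp (Injective.ι F),
        ← Preadditive.nsmul_comp, killedBy_iff.1 hF, zero_comp])
    have : Mono (j ≫ kernel.ι _) := by rw [kernel.lift_ι]; infer_instance
    refine ⟨_, j, mono_of_mono j (kernel.ι _), killedBy_iff.2 ?_,
      fun g q => isZero_rpush_kernel_nsmul g _ hn q⟩
    rw [← cancel_mono (kernel.ι (n • 𝟙 (Injective.under F))), zero_comp, Preadditive.nsmul_comp, Category.id_comp]
    simpa using kernel.condition (n • 𝟙 (Injective.under F))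

end Groth.Agent.EtBC48
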