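import Mathlib.CategoryTheory.Adjunction.Unique

/-!
Base change morphisms of squares of right adjoints: naturality, change of adjunctions, pasting.
-/

universe v u

set_option autoImplicit false

open CategoryTheory

namespace Groth.Agent.EtBC48

variable {CX CS CX' CS' : Type*} [Category CX] [Category CS] [Category CX'] [Category CS']
  {Pf : CX ⥤ CS} {Pf' : CX' ⥤ CS'} {Lg : CS ⥤ CS'} {Pg : CS' ⥤ CS} {Lg' : CX ⥤ CX'} {Pg' : CX' ⥤ CX}
  (aG : Lg ⊣ Pg) (aG' : Lg' ⊣ Pg') (σ : Pg' ⋙ Pf ⟶ Pf' ⋙ Pg)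

/-- The base change morphism of a square of right adjoints. -/
def bcM (F : CX) : Lg.obj (Pf.obj F) ⟶ Pf'.obj (Lg'.obj F) :=
  (aG.homEquiv _ _).symm (Pf.map (aG'.unit.app F) ≫ σ.app (Lg'.obj F))

theorem bcM_unit (F : CX) :
    aG.unit.app (Pf.obj F) ≫ Pg.map (bcM aG aG' σ F) = Pf.map (aG'.unit.app F) ≫ σ.app (Lg'.obj F) :=
  (aG.homEquiv_unit _ _ _).symm.trans (Equiv.apply_symm_apply _ _)

theorem bcM_ext {F : CX} {β : Lg.obj (Pf.obj F) ⟶ Pf'.obj (Lg'.obj F)}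
    (h : aG.unit.app (Pf.obj F) ≫ Pg.map β = Pf.map (aG'.unit.app F) ≫ σ.app (Lg'.obj F)) :
    β = bcM aG aG' σ F := by
  refine (Equiv.eq_symm_apply _).2 ?_
  rw [Adjunction.homEquiv_unit]
  exact h

@[reassoc]
theorem bcM_natural {F G : CX} (φ : F ⟶ G) :
    Lg.map (Pf.map φ) ≫ bcM aG aG' σ G = bcM aG aG' σ F ≫ Pf'.map (Lg'.map φ) := by
  unfold bcM
  rw [← Adjunction.homEquiv_naturality_left_symm, ← Adjunction.homEquiv_naturality_right_symm]
  refine congrArg (aG.homEquiv _ _).symm ?_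
  have h := σ.naturality (Lg'.map φ)
  dsimp at h
  have h' := congrArg Pf.map (aG'.unit.naturality φ)
  dsimp at h'
  rw [Functor.map_comp, Functor.map_comp] at h'
  rw [Category.assoc, ← h, reassoc_of% h']

/-- The base change morphism as a natural transformation. -/
@[simps]
def bcNat : Pf ⋙ Lg ⟶ Lg' ⋙ Pf' where
  app := bcM aG aG' σ
  naturality _ _ φ := bcM_natural aG aG' σ φ

section Change

variable {Mg : CS ⥤ CS'} (bG : Mg ⊣ Pg) {Mg' : CX ⥤ CX'} (bG' : Mg' ⊣ Pg')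

theorem bcM_change (F : CX) :
    (aG.leftAdjointUniq bG).hom.app (Pf.obj F) ≫ bcM bG bG' σ F =
      bcM aG aG' σ F ≫ Pf'.map ((aG'.leftAdjointUniq bG').hom.app F) := by
  apply (aG.homEquiv _ _).injective
  have h := σ.naturality ((aG'.leftAdjointUniq bG').hom.app F)
  dsimp at h
  simp only [Adjunction.homEquiv_unit, Functor.map_comp]
  rw [Adjunction.unit_leftAdjointUniq_hom_app_assoc, bcM_unit, ← Category.assoc, bcM_unit, Category.assoc, ← h,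
    ← Functor.map_comp_assoc, Adjunction.unit_leftAdjointUniq_hom_app]

theorem isIso_bcM_change {F : CX} (h : IsIso (bcM bG bG' σ F)) : IsIso (bcM aG aG' σ F) := by
  have e := bcM_change aG aG' σ bG bG' F
  have : IsIso (bcM aG aG' σ F ≫ Pf'.map ((aG'.leftAdjointUniq bG').hom.app F)) := by
    rw [← e]
    infer_instance
  exact IsIso.of_isIso_comp_right _ (Pf'.map ((aG'.leftAdjointUniq bG').hom.app F))

end Change

section Paste

variable {CW CZ : Type*} [Category CW] [Category CZ]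
  {Li : CS' ⥤ CW} {Pi' : CW ⥤ CS'} {Lk : CX' ⥤ CZ} {Pk : CZ ⥤ CX'} {Pj : CZ ⥤ CW}
  (aI : Li ⊣ Pi') (aK : Lk ⊣ Pk) (τ : Pk ⋙ Pf' ⟶ Pj ⋙ Pi')
  {P3 : CW ⥤ CS} {P3' : CZ ⥤ CX} (c : Pi' ⋙ Pg ≅ P3) (c' : Pk ⋙ Pg' ≅ P3')
  {L3 : CS ⥤ CW} {L3' : CX ⥤ CZ} (a3 : L3 ⊣ P3) (a3' : L3' ⊣ P3') (ρ : P3' ⋙ Pf ⟶ Pj ⋙ P3)
  (hρ : ∀ G : CZ, Pf.map (c'.hom.app G) ≫ ρ.app G =
    σ.app (Pk.obj G) ≫ Pg.map (τ.app G) ≫ c.hom.app (Pj.obj G))

include hρ in
theorem bcM_comp (F : CX) :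
    bcM ((aG.comp aI).ofNatIsoRight c) ((aG'.comp aK).ofNatIsoRight c') ρ F =
      Li.map (bcM aG aG' σ F) ≫ bcM aI aK τ (Lg'.obj F) := by
  refine (bcM_ext _ _ ρ ?_).symm
  have hc := c.hom.naturality (Li.map (bcM aG aG' σ F) ≫ bcM aI aK τ (Lg'.obj F))
  dsimp at hc
  have h1 := bcM_unit aG aG' σ F
  have h2 := bcM_unit aI aK τ (Lg'.obj F)
  have h3 := aI.unit.naturality (bcM aG aG' σ F)
  dsimp at h3
  have h4 := σ.naturality (aK.unit.app (Lg'.obj F))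
  dsimp at h4
  have hu : ((aG.comp aI).ofNatIsoRight c).unit.app (Pf.obj F) =
      aG.unit.app (Pf.obj F) ≫ Pg.map (aI.unit.app (Lg.obj (Pf.obj F))) ≫
        c.hom.app (Li.obj (Lg.obj (Pf.obj F))) := by simp
  have hu' : ((aG'.comp aK).ofNatIsoRight c').unit.app F =
      aG'.unit.app F ≫ Pg'.map (aK.unit.app (Lg'.obj F)) ≫ c'.hom.app (Lk.obj (Lg'.obj F)) := by simp
  rw [hu, hu']
  calc (aG.unit.app (Pf.obj F) ≫ Pg.map (aI.unit.app (Lg.obj (Pf.obj F))) ≫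
        c.hom.app (Li.obj (Lg.obj (Pf.obj F)))) ≫ P3.map (Li.map (bcM aG aG' σ F) ≫ bcM aI aK τ (Lg'.obj F))
      = aG.unit.app (Pf.obj F) ≫ Pg.map (aI.unit.app (Lg.obj (Pf.obj F)) ≫
          Pi'.map (Li.map (bcM aG aG' σ F)) ≫ Pi'.map (bcM aI aK τ (Lg'.obj F))) ≫ c.hom.app _ := by
        simp only [Category.assoc]
        rw [← hc]
        simp only [Category.assoc, Functor.map_comp]
    _ = (aG.unit.app (Pf.obj F) ≫ Pg.map (bcM aG aG' σ F)) ≫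
          Pg.map (Pf'.map (aK.unit.app (Lg'.obj F)) ≫ τ.app _) ≫ c.hom.app _ := by
        rw [← reassoc_of% h3, h2]
        simp only [Functor.map_comp, Category.assoc]
    _ = _ := by
        rw [h1]
        simp only [Functor.map_comp, Category.assoc]
        rw [← reassoc_of% h4]
        erw [hρ]

include hρ in
theorem exists_bcM_paste (F : CX) : ∃ (u : L3.obj (Pf.obj F) ≅ Li.obj (Lg.obj (Pf.obj F)))
    (v : Lk.obj (Lg'.obj F) ≅ L3'.obj F),
    bcM a3 a3' ρ F = u.hom ≫ Li.map (bcM aG aG' σ F) ≫ bcM aI aK τ (Lg'.obj F) ≫ Pj.map v.hom := by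
  refine ⟨(a3.leftAdjointUniq ((aG.comp aI).ofNatIsoRight c)).app _,
    ((a3'.leftAdjointUniq ((aG'.comp aK).ofNatIsoRight c')).app F).symm, ?_⟩
  have h := bcM_change a3 a3' ρ ((aG.comp aI).ofNatIsoRight c) ((aG'.comp aK).ofNatIsoRight c') F
  rw [bcM_comp aG aG' σ aI aK τ c c' ρ hρ F] at h
  simp only [Iso.app_hom, Iso.symm_hom, Iso.app_inv]
  rw [reassoc_of% h, ← Functor.map_comp, Iso.hom_inv_id_app, CategoryTheory.Functor.map_id, Category.comp_id]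

end Paste

end Groth.Agent.EtBC48
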