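import Groth.Agent.EtBC48.DegZero
import Groth.Agent.EtBC48.Induct
import Groth.Agent.PBC51.BaseChange

/-!
Proper base change as a statement about the base change maps.
-/

set_option autoImplicit false
set_option backward.isDefEq.respectTransparency.types false
universe u

open CategoryTheory CategoryTheory.Limits AlgebraicGeometry

namespace Groth.Agent.EtBC48

variable {X S X' S' : Scheme.{u}}

/-- The base change maps of a proper morphism are bijective on torsion sheaves. -/
theorem isIso_bcQ_proper (f : X ⟶ S) [IsProper f] (g : S' ⟶ S) (f' : X' ⟶ S') (g' : X' ⟶ X)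
    (h : IsPullback g' f' f g) [PreservesFiniteLimits (EtCoh.pull g')] :
    ∀ (q : ℕ) (F : EtCoh.Ab X), EtCoh.IsTorsion F → IsIso (EtBC.bcQ f g f' g' h.w q F) := by
  have : IsProper f' := MorphismProperty.of_isPullback h inferInstance
  intro q
  induction q with
  | zero => exact fun F _ => (isIso_bcQ_zero_iff f g f' g' h.w F).2 (Cons51.isIso_baseChange0_proper f g f' g' h F)
  | succ m ih =>
    intro F hF
    obtain ⟨T, v, hv, hT, hq⟩ := PBC51.exists_torsion_qAcyclic hF
    have hQ : EtCoh.IsTorsion (cokernel v) := Cons51.isTorsion_of_epi (cokernel.π v) hT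
    obtain ⟨δ, δ', hd, hδ₁, hδ₂, -, hδ₁', hδ₂', -⟩ := exists_bcQ_ladder f g f' g' h.w (shortExact_coker v) m
    have := ih T hT
    have := ih _ hQ
    obtain ⟨_, hδ₂⟩ := hδ₂
    have : Epi δ := hδ₂.epi_f (((EtCoh.pull g).map_isZero (PBC51.isZero_Rpush_of_qAcyclic f m T hq)).eq_of_tgt _ _)
    obtain ⟨_, hδ₂'⟩ := hδ₂'
    have : Epi δ' := hδ₂'.epi_f (((PBC51.Van.good_of_isProper f).isZero_Rpush hT hq h m).eq_of_tgt _ _)
    have : Mono (EtBC.bcQ f g f' g' h.w (m + 1) F) :=
      four_mono hδ₁.1 hδ₁' (bcQ_natural f g f' g' h.w m (cokernel.π v)) hd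
    have : Epi (δ ≫ EtBC.bcQ f g f' g' h.w (m + 1) F) := hd ▸ epi_comp' inferInstance ‹Epi δ'›
    have : Epi (EtBC.bcQ f g f' g' h.w (m + 1) F) := epi_of_epi δ _
    exact isIso_of_mono_of_epi _

end Groth.Agent.EtBC48
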