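import Groth.Agent.EtBC48.TorsionQis
import Groth.Agent.EtBC48.DBC
import Groth.Agent.EtBC48.DegZero
import Groth.Agent.PBC51.BaseChange
import Groth.Agent.GalCoh84.Torsion

/-!
Proper base change on the bounded below derived category.
-/

set_option autoImplicit false
set_option backward.isDefEq.respectTransparency.types false
universe u

open CategoryTheory CategoryTheory.Limits AlgebraicGeometry HomologicalComplex DerivedCategory

attribute [local instance] HasDerivedCategory.standard

namespace Groth.Agent.EtBC48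

variable {X S X' S' : Scheme.{u}}

theorem quasiIso_of_fac {C : Type*} [Category C] [Abelian C] {K₁ K₂ L₁ L₂ : CochainComplex C ℤ}
    {a : K₁ ⟶ K₂} {p : K₂ ⟶ L₂} {b : K₁ ⟶ L₁} {q : L₁ ⟶ L₂} (h : a ≫ p = b ≫ q)
    (ha : QuasiIso a) (hb : QuasiIso b) (hq : QuasiIso q) : QuasiIso p := by
  have : QuasiIso (a ≫ p) := h ▸ inferInstance
  exact quasiIso_of_comp_left a p

/-- A bounded below object has a bounded below injective model. -/
theorem exists_injective_model {A : Type*} [Category A] [Abelian A] [HasDerivedCategory A] [EnoughInjectives A]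
    (E : DerivedCategory A) (n : ℤ) [E.IsGE n] :
    ∃ I : CochainComplex A ℤ, I.IsStrictlyGE n ∧ (∀ i, Injective (I.X i)) ∧
      Nonempty (Qh.obj ((HomotopyCategory.quotient A _).obj I) ≅ E) := by
  obtain ⟨K, _, ⟨e⟩⟩ := exists_iso_Q_obj_of_isGE E n
  obtain ⟨I, q, _, hI, hge⟩ := CochainComplex.Plus.modelCategoryQuillen.exists_quasiIso_injective K n
  exact ⟨I, hge, hI, ⟨(quotientCompQhIso A).app I ≪≫ (asIso (Q.map q)).symm ≪≫ e.symm⟩⟩

theorem isStrictlyGE_map {A B : Type*} [Category A] [Abelian A] [Category B] [Abelian B] (F : A ⥤ B) [F.Additive]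
    (K : CochainComplex A ℤ) (a : ℤ) [K.IsStrictlyGE a] :
    CochainComplex.IsStrictlyGE ((F.mapHomologicalComplex (ComplexShape.up ℤ)).obj K) a := by
  rw [CochainComplex.isStrictlyGE_iff]
  exact fun i hi => F.map_isZero (K.isZero_of_isStrictlyGE a i hi)

/-- Proper base change for bounded below complexes with torsion cohomology. -/
theorem isIso_bcMap_proper (f : X ⟶ S) [IsProper f] (g : S' ⟶ S) (f' : X' ⟶ S') (g' : X' ⟶ X)
    (h : IsPullback g' f' f g) [PreservesFiniteLimits (EtCoh.pull g)] [PreservesFiniteLimits (EtCoh.pull g')]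
    [DCoh.HasRpushEt X f] [DCoh.HasRpushEt X' f'] [DCoh.HasRpushEt S' g]
    (adj : EtBC.pullD g ⊣ DCoh.RpushEt S' g) (E : DCoh.DEt X) (n : ℤ) [E.IsGE n]
    (hE : ∀ i : ℤ, EtCoh.IsTorsion (DCoh.HDEt E i)) :
    IsIso (EtBC.bcMap f g f' g' h.w adj E) := by
  have : IsProper f' := MorphismProperty.of_isPullback h inferInstance
  have : PreservesLimitsOfSize.{0, 0} (EtCoh.push f) := (EtCoh.pullPushAdj f).rightAdjoint_preservesLimits
  have : PreservesLimitsOfSize.{0, 0} (EtCoh.push f') := (EtCoh.pullPushAdj f').rightAdjoint_preservesLimits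
  obtain ⟨I, hge, hI, ⟨e⟩⟩ := exists_injective_model E n
  obtain ⟨T, i, hi, hTge, hT⟩ := exists_torsion_model I n fun m =>
    GalCoh84.isTorsion_of_iso ((homologyFunctor _ m).mapIso e.symm ≪≫ (homologyFunctorFactorsh _ m).app _ ≪≫
      (HomotopyCategory.homologyFunctorFactors _ _ m).app I) (hE m)
  have := CochainComplex.isKInjective_of_injective I n
  have := isStrictlyGE_map (EtCoh.pull g') I n
  obtain ⟨J, φ, _, hJ, _⟩ := CochainComplex.Plus.modelCategoryQuillen.exists_quasiIso_injective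
    (((EtCoh.pull g').mapHomologicalComplex (ComplexShape.up ℤ)).obj I) n
  have := CochainComplex.isKInjective_of_injective J n
  have := isStrictlyGE_map (EtCoh.pull g') T n
  let aG := EtCoh.pullPushAdj g
  let aG' := EtCoh.pullPushAdj g'
  let σ := sqIso AbU f g f' g' h.w
  refine (isIso_bcT_iff (Pf := EtCoh.push f) (Pf' := EtCoh.push f') aG aG' σ (rUnit f) (rUnit f') (rUnit g)
    Mod48.enoughKInj Mod48.enoughKInj Mod48.enoughKInj (isBCAdj_bcAdj f g f' g' h.w) adj I e φ).2 ?_
  have h₁ : QuasiIso (((EtCoh.push f).mapHomologicalComplex (ComplexShape.up ℤ)).map i) :=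
    quasiIso_map_of_rAc (EtCoh.push f) i n (fun m k => PBC51.isZero_Rpush_of_qAcyclic f k _ (hT m).2)
      fun m => rAc_of_injective _ _
  let ψ : ((EtCoh.pull g').mapHomologicalComplex (ComplexShape.up ℤ)).obj T ⟶ J :=
    ((EtCoh.pull g').mapHomologicalComplex (ComplexShape.up ℤ)).map i ≫ φ
  have : QuasiIso ψ := inferInstance
  have h₂ : QuasiIso (((EtCoh.push f').mapHomologicalComplex (ComplexShape.up ℤ)).map ψ) :=
    quasiIso_map_of_rAc (EtCoh.push f') ψ n
      (fun m k => (PBC51.Van.good_of_isProper f).isZero_Rpush (hT m).1 (hT m).2 h k) fun m => rAc_of_injective _ _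
  have : ∀ m, IsIso ((bcCxZ aG aG' σ T).f m) := fun m =>
    Cons51.isIso_baseChange0_proper f g f' g' h (T.X m)
  have := HomologicalComplex.Hom.isIso_of_components (bcCxZ aG aG' σ T)
  refine quasiIso_of_fac (a := ((EtCoh.pull g).mapHomologicalComplex (ComplexShape.up ℤ)).map
    (((EtCoh.push f).mapHomologicalComplex (ComplexShape.up ℤ)).map i)) ?_ inferInstance
    (inferInstance : QuasiIso (bcCxZ aG aG' σ T)) h₂
  refine HomologicalComplex.hom_ext _ _ fun m => ?_
  refine (bcM_natural_assoc aG aG' σ.hom (i.f m) ((EtCoh.push f').map (φ.f m))).trans ?_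
  exact congrArg (_ ≫ ·) ((EtCoh.push f').map_comp _ _).symm

end Groth.Agent.EtBC48
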