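import Groth.Agent.CohDer42.AcClass
import Groth.Agent.RD97.LES
import Mathlib.Algebra.Homology.ShortComplex.Ab

/-!
Quasi-isomorphisms between bounded below complexes of acyclic objects; quasi-isomorphisms on elements.
-/

universe v₁ v₂ u₁ u₂ w

set_option autoImplicit false
set_option backward.isDefEq.respectTransparency.types false

open CategoryTheory CategoryTheory.Limits HomologicalComplex

namespace Groth.Agent.EtBC48

section RAc

variable {C : Type u₁} [Category.{v₁} C] [Abelian C] [HasInjectiveResolutions C]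
  {D : Type u₂} [Category.{v₂} D] [Abelian D] (G : C ⥤ D) [G.Additive]

/-- The higher derived functors vanish. -/
def RAc (A : C) : Prop := ∀ n : ℕ, IsZero ((G.rightDerived (n + 1)).obj A)

theorem rAc_of_injective (A : C) [Injective A] : RAc G A := fun n => G.isZero_rightDerived_obj_injective_succ n A

theorem rAc_of_iso {A B : C} (e : A ≅ B) (h : RAc G A) : RAc G B := fun n =>
  (h n).of_iso ((G.rightDerived (n + 1)).mapIso e).symm

theorem rAc_biprod {A B : C} (hA : RAc G A) (hB : RAc G B) : RAc G (A ⊞ B) := fun n => by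
  rw [IsZero.iff_id_eq_zero, ← (G.rightDerived (n + 1)).map_id, ← biprod.total, Functor.map_add, Functor.map_comp,
    Functor.map_comp, (hA n).eq_of_tgt ((G.rightDerived (n + 1)).map biprod.fst) 0,
    (hB n).eq_of_tgt ((G.rightDerived (n + 1)).map biprod.snd) 0, zero_comp, zero_comp, add_zero]

variable [PreservesFiniteLimits G]

theorem rAc_step (S : ShortComplex C) (hS : S.ShortExact) (h₁ : RAc G S.X₁) (h₂ : RAc G S.X₂) :
    RAc G S.X₃ ∧ (S.map G).ShortExact := by
  obtain ⟨Δ⟩ := RD97.nonempty_derivedLES G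
  refine ⟨fun n => (Δ.exact₃ S hS (n + 1) (n + 2) rfl).isZero_X₂ ((h₂ n).eq_of_src _ _)
    ((h₁ (n + 1)).eq_of_tgt _ _), ?_⟩
  obtain ⟨hl, hm⟩ := ((Functor.preservesFiniteLimits_iff_forall_exact_map_and_mono G).1 inferInstance) S hS
  have he : Epi ((G.rightDerived 0).map S.g) := (Δ.exact₃ S hS 0 1 rfl).epi_f ((h₁ 0).eq_of_tgt _ _)
  have : Epi (G.map S.g) := (NatIso.naturality_1 G.rightDerivedZeroIsoSelf S.g) ▸ inferInstance
  exact ShortComplex.ShortExact.mk' hl hm this

/-- A left exact functor preserves quasi-isomorphisms of bounded below complexes of acyclic objects. -/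
theorem quasiIso_map_of_rAc {K L : CochainComplex C ℤ} (φ : K ⟶ L) [QuasiIso φ] (a : ℤ) [K.IsStrictlyGE a]
    [L.IsStrictlyGE a] (hK : ∀ n, RAc G (K.X n)) (hL : ∀ n, RAc G (L.X n)) :
    QuasiIso ((G.mapHomologicalComplex (ComplexShape.up ℤ)).map φ) := by
  let M := CochainComplex.mappingCone φ
  have : M.IsStrictlyGE (a - 1) := CochainComplex.isStrictlyGE_mappingCone φ a a (a - 1)
  have hX : ∀ n, CohDer42.sat (RAc G) (M.X n) := fun n => Or.inr ⟨_, rAc_biprod G (hK (n + 1)) (hL n),
    ⟨(HomologicalComplex.homotopyCofiber.XIsoBiprod φ n (n + 1) rfl).symm⟩⟩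
  have hT := HomotopyCategory.mappingCone_triangleh_distinguished φ
  have hMac : M.Acyclic := by
    refine (HomotopyCategory.quotient_obj_mem_subcategoryAcyclic_iff_acyclic _).1 ?_
    refine ((HomotopyCategory.subcategoryAcyclic C).trW_iff_of_distinguished _ hT).1 ?_
    rw [← HomotopyCategory.quasiIso_eq_trW_subcategoryAcyclic]
    exact (HomotopyCategory.quotient_map_mem_quasiIso_iff _).2
      ((HomologicalComplex.mem_quasiIso_iff _).2 (inferInstance : QuasiIso φ))
  rw [← HomologicalComplex.mem_quasiIso_iff, ← HomotopyCategory.quotient_map_mem_quasiIso_iff,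
    HomotopyCategory.quasiIso_eq_trW_subcategoryAcyclic]
  refine ((HomotopyCategory.subcategoryAcyclic D).trW_iff_of_distinguished _
    ((G.mapHomotopyCategory (ComplexShape.up ℤ)).map_distinguished _ hT)).2 ?_
  exact (HomotopyCategory.quotient_obj_mem_subcategoryAcyclic_iff_acyclic _).2
    (CohDer42.acyclic_map_of_adapted G (RAc G) (fun S hS => rAc_step G S hS) M (a - 1) hMac hX)

end RAc

section Ab

variable {ι : Type*} {c : ComplexShape ι}

theorem exists_homologyπ_eq (K : HomologicalComplex AddCommGrpCat.{w} c) (j k : ι) (hk : c.next j = k)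
    (x : K.homology j) : ∃ z : K.cycles j, K.homologyπ j z = x ∧ K.d j k (K.iCycles j z) = 0 := by
  obtain ⟨z, rfl⟩ := (AddCommGrpCat.epi_iff_surjective (K.homologyπ j)).1 inferInstance x
  refine ⟨z, rfl, ?_⟩
  rw [← ConcreteCategory.comp_apply, K.iCycles_d]
  rfl

theorem exists_iCycles_eq (K : HomologicalComplex AddCommGrpCat.{w} c) (j k : ι) (hk : c.next j = k)
    (y : K.X j) (hy : K.d j k y = 0) : ∃ z : K.cycles j, K.iCycles j z = y :=
  (ShortComplex.ab_exact_iff (ShortComplex.mk (K.iCycles j) (K.d j k) (K.iCycles_d j k))).1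
    (ShortComplex.exact_of_f_is_kernel _ (K.cyclesIsKernel j k hk)) y hy

theorem homologyπ_eq_zero_iff' (K : HomologicalComplex AddCommGrpCat.{w} c) (i j : ι) (hi : c.prev j = i)
    (z : K.cycles j) : K.homologyπ j z = 0 ↔ ∃ x, K.d i j x = K.iCycles j z := by
  constructor
  · intro h
    obtain ⟨x, rfl⟩ := (ShortComplex.ab_exact_iff (ShortComplex.mk (K.toCycles i j) (K.homologyπ j)
      (K.toCycles_comp_homologyπ i j))).1 (ShortComplex.exact_of_g_is_cokernel _ (K.homologyIsCokernel i j hi)) z h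
    exact ⟨x, (ConcreteCategory.congr_hom (K.toCycles_i i j) x).symm⟩
  · rintro ⟨x, hx⟩
    have : K.toCycles i j x = z := (AddCommGrpCat.mono_iff_injective (K.iCycles j)).1 inferInstance
      ((ConcreteCategory.congr_hom (K.toCycles_i i j) x).trans hx)
    rw [← this]
    exact ConcreteCategory.congr_hom (K.toCycles_comp_homologyπ i j) x

/-- A criterion for quasi-isomorphisms of complexes of abelian groups. -/
theorem isIso_homologyMap_of_elements {K L : HomologicalComplex AddCommGrpCat.{w} c} (f : K ⟶ L) (i j k : ι)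
    (hi : c.prev j = i) (hk : c.next j = k)
    (h₁ : ∀ y, L.d j k y = 0 → ∃ t z, K.d j k t = 0 ∧ f.f j t + L.d i j z = y)
    (h₂ : ∀ t, K.d j k t = 0 → ∀ z, L.d i j z = f.f j t → ∃ t', K.d i j t' = t) :
    IsIso (homologyMap f j) := by
  refine (ConcreteCategory.isIso_iff_bijective _).2 ⟨(injective_iff_map_eq_zero (homologyMap f j).hom).2 fun x hx => ?_,
    fun x => ?_⟩
  · obtain ⟨t, rfl, ht⟩ := exists_homologyπ_eq K j k hk x
    have e : L.homologyπ j (cyclesMap f j t) = 0 :=
      (ConcreteCategory.congr_hom (homologyπ_naturality f j) t).symm.trans hx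
    obtain ⟨z, hz⟩ := (homologyπ_eq_zero_iff' L i j hi _).1 e
    exact (homologyπ_eq_zero_iff' K i j hi t).2
      (h₂ _ ht z (hz.trans (ConcreteCategory.congr_hom (cyclesMap_i f j) t)))
  · obtain ⟨y, rfl, hy⟩ := exists_homologyπ_eq L j k hk x
    obtain ⟨t, z, ht, e⟩ := h₁ _ hy
    obtain ⟨s, rfl⟩ := exists_iCycles_eq K j k hk t ht
    refine ⟨K.homologyπ j s, (ConcreteCategory.congr_hom (homologyπ_naturality f j) s).trans ?_⟩
    refine (sub_eq_zero.1 ?_).symm
    change L.homologyπ j y - L.homologyπ j (cyclesMap f j s) = 0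
    rw [← map_sub]
    refine (homologyπ_eq_zero_iff' L i j hi _).2 ⟨z, ?_⟩
    rw [map_sub, ← e, eq_sub_iff_add_eq, add_comm]
    exact congrArg (· + _) (ConcreteCategory.congr_hom (cyclesMap_i f j) s)

end Ab

end Groth.Agent.EtBC48
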