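import Groth.Agent.An92.EtSets.Stalk
import Groth.Agent.EtSets93.Push
import Groth.Agent.EtSets93.SecPull
import Groth.Agent.Unr55.Et.Unit
import Groth.Agent.EtBC48.Local
import Groth.Prelude.Def_EtBCD
import Mathlib.CategoryTheory.Sites.LocallyInjective
import Mathlib.CategoryTheory.Sites.Adjunction
import Mathlib.CategoryTheory.Adhesive.Basic

/-!
Base change for sheaves of sets from base change for abelian sheaves.
-/

set_option autoImplicit false
set_option backward.isDefEq.respectTransparency.types false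

universe u

open CategoryTheory CategoryTheory.Limits AlgebraicGeometry Opposite
open Groth.Agent.Unr55.EtSh

namespace Groth.Agent.EtBC48

instance : AB5OfSize.{u, u} (Type (u + 1)) := AB5OfSize_shrink.{u, u, u + 1, u + 1} _

variable {X Y : Scheme.{u}}

/-- Inverse image of sheaves of sets is left exact. -/
theorem preservesFiniteLimits_pullSh (f : X ⟶ Y) : PreservesFiniteLimits (EtDesc.pullSh f) := by
  refine ⟨fun J _ _ => ⟨fun {D} => preservesLimit_of_preserves_limit_cone (limit.isLimit D) ?_⟩⟩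
  let c := (EtDesc.pullSh f).mapCone (limit.cone D)
  have : IsIso ((limit.isLimit (D ⋙ EtDesc.pullSh f)).lift c) := by
    refine An92.EtSets.isIso_of_stalks_sets _ fun K _ _ η => (CategoryTheory.isIso_iff_bijective _).1 ?_
    let Φ := An92.EtSets.stalkSh η
    have : PreservesFiniteLimits (EtDesc.pullSh f ⋙ Φ) :=
      preservesFiniteLimits_of_natIso (An92.EtSets.stalkPullShIso f η).symm
    let h₁ := isLimitOfPreserves (EtDesc.pullSh f ⋙ Φ) (limit.isLimit D)
    let h₂ := isLimitOfPreserves Φ (limit.isLimit (D ⋙ EtDesc.pullSh f))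
    have e : Φ.map ((limit.isLimit (D ⋙ EtDesc.pullSh f)).lift c) = (h₁.conePointUniqueUpToIso h₂).hom :=
      h₂.hom_ext fun j => ((Φ.map_comp _ _).symm.trans (congrArg Φ.map ((limit.isLimit _).fac c j))).trans
        (h₁.conePointUniqueUpToIso_hom_comp h₂ j).symm
    rw [e]
    infer_instance
  exact IsLimit.ofPointIso (limit.isLimit (D ⋙ EtDesc.pullSh f))

/-- The underlying sheaf of sets. -/
noncomputable abbrev toSets (X : Scheme.{u}) : EtCoh.Ab X ⥤ EtDesc.Sh X :=
  sheafCompose X.smallEtaleTopology (forget AddCommGrpCat.{u + 1})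

/-- The germ of a section of a sheaf of sets. -/
noncomputable abbrev germSh {Ω : Type u} [Field Ω] [IsSepClosed Ω] (ξ : Spec (CommRingCat.of Ω) ⟶ X)
    (F : EtDesc.Sh X) {U : X.Etale} (t : Pt ξ U) (σ : F.obj.obj (op U)) : (An92.EtSets.stalkSh ξ).obj F :=
  (Scheme.pointSmallEtale ξ).toPresheafFiber U t F.obj σ

section Stalk

variable (f : X ⟶ Y) {Ω : Type u} [Field Ω] [IsSepClosed Ω] (ξ : Spec (CommRingCat.of Ω) ⟶ X)

/-- From the stalk of the underlying sheaf of sets to the stalk. -/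
noncomputable def cmpStalk (A : EtCoh.Ab X) :
    (An92.EtSets.stalkSh ξ).obj ((toSets X).obj A) ⟶ (forget AddCommGrpCat).obj ((EtCoh.stalk ξ).obj A) :=
  (Scheme.pointSmallEtale ξ).presheafFiberDesc (P := ((toSets X).obj A).obj)
    (fun V t => (forget AddCommGrpCat).map ((Scheme.pointSmallEtale ξ).toPresheafFiber V t A.obj))
    (fun V W g t => by
      exact ((forget AddCommGrpCat).map_comp _ _).symm.trans
        (congrArg (forget AddCommGrpCat).map ((Scheme.pointSmallEtale ξ).toPresheafFiber_w g t A.obj)))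

theorem cmpStalk_germ (A : EtCoh.Ab X) {V : X.Etale} (t : Pt ξ V) (σ : EtCoh.sect A V) :
    cmpStalk ξ A (germSh ξ ((toSets X).obj A) t σ) = germ ξ A t σ :=
  ConcreteCategory.congr_hom ((Scheme.pointSmallEtale ξ).toPresheafFiber_presheafFiberDesc
    (P := ((toSets X).obj A).obj) (T := (forget AddCommGrpCat).obj ((EtCoh.stalk ξ).obj A))
    (fun V t => (forget AddCommGrpCat).map ((Scheme.pointSmallEtale ξ).toPresheafFiber V t A.obj)) _ V t) σ

theorem cmpStalk_bijective (A : EtCoh.Ab X) : Function.Bijective (cmpStalk ξ A) := by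
  refine ⟨fun a b h => ?_, fun a => ?_⟩
  · obtain ⟨V, t, σ, τ, rfl, rfl⟩ :=
      (Scheme.pointSmallEtale ξ).toPresheafFiber_jointly_surjective₂ (P := ((toSets X).obj A).obj) a b
    refine ((Scheme.pointSmallEtale ξ).toPresheafFiber_eq_iff' (P := ((toSets X).obj A).obj) V t σ τ).2 ?_
    exact ((Scheme.pointSmallEtale ξ).toPresheafFiber_eq_iff' (P := A.obj) V t σ τ).1
      ((cmpStalk_germ ξ A t σ).symm.trans (h.trans (cmpStalk_germ ξ A t τ)))
  · obtain ⟨V, t, σ, rfl⟩ := exists_germ_eq ξ A a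
    exact ⟨_, cmpStalk_germ ξ A t σ⟩

/-- The canonical map from a stalk to the stalk of the inverse image, sets. -/
noncomputable def thetaSh (F : EtDesc.Sh Y) :
    (An92.EtSets.stalkSh (ξ ≫ f)).obj F ⟶ (An92.EtSets.stalkSh ξ).obj ((EtDesc.pullSh f).obj F) :=
  (Scheme.pointSmallEtale (ξ ≫ f)).presheafFiberDesc (P := F.obj)
    (fun V t => ((EtDesc.adjSh f).unit.app F).hom.app (op V) ≫
      (Scheme.pointSmallEtale ξ).toPresheafFiber ((EtCoh.bc f).obj V) (ptUp f ξ t) ((EtDesc.pullSh f).obj F).obj)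
    (fun V W g t => by
      refine (Category.assoc _ _ _).symm.trans ((congrArg (· ≫ _) (((EtDesc.adjSh f).unit.app F).hom.naturality g.op)).trans
        ((Category.assoc _ _ _).trans (congrArg (_ ≫ ·) ?_)))
      rw [ptUp_map]
      exact (Scheme.pointSmallEtale ξ).toPresheafFiber_w ((EtCoh.bc f).map g) (ptUp f ξ t)
        ((EtDesc.pullSh f).obj F).obj)

theorem thetaSh_germ (F : EtDesc.Sh Y) {V : Y.Etale} (s : Pt (ξ ≫ f) V) (σ : F.obj.obj (op V)) :
    thetaSh f ξ F (germSh (ξ ≫ f) F s σ) = germSh ξ ((EtDesc.pullSh f).obj F) (ptUp f ξ s)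
      (((EtDesc.adjSh f).unit.app F).hom.app (op V) σ) :=
  ConcreteCategory.congr_hom ((Scheme.pointSmallEtale (ξ ≫ f)).toPresheafFiber_presheafFiberDesc
    (P := F.obj) (T := (An92.EtSets.stalkSh ξ).obj ((EtDesc.pullSh f).obj F))
    (fun V t => ((EtDesc.adjSh f).unit.app F).hom.app (op V) ≫
      (Scheme.pointSmallEtale ξ).toPresheafFiber ((EtCoh.bc f).obj V) (ptUp f ξ t) ((EtDesc.pullSh f).obj F).obj)
    _ V s) σ

theorem thetaSh_cancel (F : EtDesc.Sh Y) {M : Type (u + 1)}
    {h₁ h₂ : (An92.EtSets.stalkSh ξ).obj ((EtDesc.pullSh f).obj F) ⟶ M}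
    (h : thetaSh f ξ F ≫ h₁ = thetaSh f ξ F ≫ h₂) : h₁ = h₂ := by
  let Φ := Scheme.pointSmallEtale ξ
  apply (Φ.skyscraperSheafAdjunction.homEquiv ((EtDesc.pullSh f).obj F) M).injective
  apply ((EtDesc.adjSh f).homEquiv F (Φ.skyscraperSheaf M)).injective
  have key : ∀ (k : (An92.EtSets.stalkSh ξ).obj ((EtDesc.pullSh f).obj F) ⟶ M) (V : Y.Etale)
      (t : Pt ξ ((EtCoh.bc f).obj V)) (σ : F.obj.obj (op V)),
      Pi.π (fun _ : Pt ξ ((EtCoh.bc f).obj V) => M) t
        ((((EtDesc.adjSh f).homEquiv F (Φ.skyscraperSheaf M))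
          ((Φ.skyscraperSheafAdjunction.homEquiv ((EtDesc.pullSh f).obj F) M) k)).hom.app (op V) σ) =
      k (thetaSh f ξ F (germSh (ξ ≫ f) F (ptDown f ξ t) σ)) := by
    intro k V t σ
    rw [thetaSh_germ, ptUp_ptDown, Adjunction.homEquiv_unit]
    have h1 := Φ.skyscraperSheafAdjunction_homEquiv_apply_hom (F := (EtDesc.pullSh f).obj F) (M := M) k
    have h2 : ((Φ.skyscraperSheafAdjunction.homEquiv ((EtDesc.pullSh f).obj F) M) k).hom.app
        (op ((EtCoh.bc f).obj V)) ≫ Pi.π (fun _ : Pt ξ ((EtCoh.bc f).obj V) => M) t =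
        Φ.toPresheafFiber ((EtCoh.bc f).obj V) t ((EtDesc.pullSh f).obj F).obj ≫ k := by
      exact (congrArg (fun (N : _ ⟶ Φ.skyscraperPresheaf M) =>
        N.app (op ((EtCoh.bc f).obj V)) ≫ Pi.π (fun _ : Pt ξ ((EtCoh.bc f).obj V) => M) t) h1).trans
        (Φ.skyscraperPresheafHomEquiv_app_π k _ t)
    exact ConcreteCategory.congr_hom h2 (((EtDesc.adjSh f).unit.app F).hom.app (op V) σ)
  refine ObjectProperty.hom_ext _ (NatTrans.ext (funext fun V => ?_))
  refine Pi.hom_ext _ _ fun t => ConcreteCategory.hom_ext _ _ fun σ => ?_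
  rw [ConcreteCategory.comp_apply, ConcreteCategory.comp_apply]
  exact (key h₁ V.unop t σ).trans
    ((ConcreteCategory.congr_hom h (germSh (ξ ≫ f) F (ptDown f ξ t) σ)).trans (key h₂ V.unop t σ).symm)

theorem thetaSh_surjective (F : EtDesc.Sh Y) : Function.Surjective (thetaSh f ξ F) := by
  intro a
  by_contra hc
  classical
  let h₁ : (An92.EtSets.stalkSh ξ).obj ((EtDesc.pullSh f).obj F) ⟶ ULift.{u + 1} Prop :=
    TypeCat.ofHom fun b => ULift.up (∃ c, thetaSh f ξ F c = b)
  let h₂ : (An92.EtSets.stalkSh ξ).obj ((EtDesc.pullSh f).obj F) ⟶ ULift.{u + 1} Prop :=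
    TypeCat.ofHom fun _ => ULift.up True
  have h : h₁ = h₂ := thetaSh_cancel f ξ F (by
    refine ConcreteCategory.hom_ext _ _ fun c => ?_
    have hc' : (∃ d, thetaSh f ξ F d = thetaSh f ξ F c) = True := eq_true ⟨c, rfl⟩
    exact congrArg ULift.up hc')
  have h' := congrArg ULift.down (ConcreteCategory.congr_hom h a)
  exact hc (cast h'.symm trivial)

end Stalk

/-- From the inverse image of the underlying sheaf of sets to the underlying sheaf of the inverse image. -/
noncomputable def pullToSets (f : X ⟶ Y) (A : EtCoh.Ab Y) :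
    (EtDesc.pullSh f).obj ((toSets Y).obj A) ⟶ (toSets X).obj ((EtCoh.pull f).obj A) :=
  ((EtDesc.adjSh f).homEquiv _ _).symm ((toSets Y).map ((EtCoh.pullPushAdj f).unit.app A))

theorem unit_pullToSets (f : X ⟶ Y) (A : EtCoh.Ab Y) :
    (EtDesc.adjSh f).unit.app ((toSets Y).obj A) ≫ (EtDesc.pushSh f).map (pullToSets f A) =
      (toSets Y).map ((EtCoh.pullPushAdj f).unit.app A) :=
  ((EtDesc.adjSh f).homEquiv_unit _ _ _).symm.trans (Equiv.apply_symm_apply _ _)

theorem isIso_pullToSets (f : X ⟶ Y) (A : EtCoh.Ab Y) : IsIso (pullToSets f A) := by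
  refine An92.EtSets.isIso_of_stalks_sets _ fun K _ _ η => ?_
  have key : ∀ a, cmpStalk η _ ((An92.EtSets.stalkSh η).map (pullToSets f A) (thetaSh f η _ a)) =
      theta f η A (cmpStalk (η ≫ f) A a) := by
    intro a
    obtain ⟨V, t, σ, rfl⟩ := (Scheme.pointSmallEtale (η ≫ f)).toPresheafFiber_jointly_surjective
      (P := ((toSets Y).obj A).obj) a
    have e1 : cmpStalk (η ≫ f) A (germSh (η ≫ f) ((toSets Y).obj A) t σ) = germ (η ≫ f) A t σ :=
      cmpStalk_germ (η ≫ f) A t σ
    refine Eq.trans ?_ (congrArg (theta f η A) e1).symm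
    rw [theta_germ]
    refine (congrArg (fun b => cmpStalk η _ ((An92.EtSets.stalkSh η).map (pullToSets f A) b))
      (thetaSh_germ f η ((toSets Y).obj A) t σ)).trans ?_
    refine (congrArg (cmpStalk η _) ((Scheme.pointSmallEtale η).toPresheafFiber_naturality_apply
      (pullToSets f A).hom _ (ptUp f η t) _)).trans ?_
    refine (cmpStalk_germ η _ (ptUp f η t) _).trans (congrArg (germ η _ (ptUp f η t)) ?_)
    exact ConcreteCategory.congr_hom (congrArg (fun k => k.hom.app (op V)) (unit_pullToSets f A)) σ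
  have hb : Function.Bijective
      (fun a => cmpStalk η _ ((An92.EtSets.stalkSh η).map (pullToSets f A) (thetaSh f η _ a))) :=
    (funext key).symm ▸ ((theta_bijective f η A).comp (cmpStalk_bijective (η ≫ f) A))
  refine ⟨fun x y e => ?_, fun z => ?_⟩
  · obtain ⟨a, rfl⟩ := thetaSh_surjective f η _ x
    obtain ⟨b, rfl⟩ := thetaSh_surjective f η _ y
    exact congrArg (thetaSh f η _) (hb.1 (congrArg (cmpStalk η _) e))
  · obtain ⟨a, ha⟩ := hb.2 (cmpStalk η _ z)
    exact ⟨_, (cmpStalk_bijective η _).1 ha⟩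

section BC

variable {S X' S' : Scheme.{u}} (f : X ⟶ S) (g : S' ⟶ S) (f' : X' ⟶ S') (g' : X' ⟶ X) (w : g' ≫ f = f' ≫ g)

theorem bc0_toSets (A : EtCoh.Ab X) :
    bc0 (Type (u + 1)) f g f' g' w ((toSets X).obj A) ≫ (EtDesc.pushSh f').map (pullToSets g' A) =
      pullToSets g ((EtCoh.push f).obj A) ≫ (toSets S').map (bc0 AddCommGrpCat.{u + 1} f g f' g' w A) := by
  refine ((EtDesc.adjSh g).homEquiv _ _).injective ?_
  refine ((EtDesc.adjSh g).homEquiv_naturality_right _ _).trans (Eq.trans ?_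
    ((EtDesc.adjSh g).homEquiv_naturality_right _ _).symm)
  have hσ : (sqIso (Type (u + 1)) f g f' g' w).hom.app ((toSets X').obj ((EtCoh.pull g').obj A)) =
      (toSets S).map ((sqIso AddCommGrpCat.{u + 1} f g f' g' w).hom.app ((EtCoh.pull g').obj A)) :=
    ObjectProperty.hom_ext _ (NatTrans.ext (funext fun V => (sqIso_hom_app _ f g f' g' w _ V.unop).trans
      (congrArg (forget AddCommGrpCat).map (sqIso_hom_app _ f g f' g' w _ V.unop)).symm))
  refine (congrArg (· ≫ _) (((EtDesc.adjSh g).homEquiv _ _).apply_symm_apply _)).trans ?_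
  refine ((Category.assoc _ _ _).trans (congrArg ((EtDesc.pushSh f).map _ ≫ ·)
    ((sqIso (Type (u + 1)) f g f' g' w).hom.naturality (pullToSets g' A)).symm)).trans ?_
  refine (Category.assoc _ _ _).symm.trans ?_
  refine (congrArg (· ≫ _) (((EtDesc.pushSh f).map_comp _ _).symm.trans
    (congrArg (EtDesc.pushSh f).map (unit_pullToSets g' A)))).trans ?_
  refine (congrArg (_ ≫ ·) hσ).trans ?_
  refine Eq.trans ?_ (congrArg (· ≫ _) (((EtDesc.adjSh g).homEquiv _ _).apply_symm_apply _)).symm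
  change (toSets S).map ((EtCoh.push f).map ((EtCoh.pullPushAdj g').unit.app A)) ≫
      (toSets S).map ((sqIso AddCommGrpCat.{u + 1} f g f' g' w).hom.app ((EtCoh.pull g').obj A)) =
    (toSets S).map ((EtCoh.pullPushAdj g).unit.app ((EtCoh.push f).obj A)) ≫
      (toSets S).map ((EtCoh.push g).map (bc0 AddCommGrpCat.{u + 1} f g f' g' w A))
  rw [← Functor.map_comp, ← Functor.map_comp]
  exact congrArg (toSets S).map
    (bcM_unit (adj AddCommGrpCat.{u + 1} g) (adj AddCommGrpCat.{u + 1} g') (sqIso _ f g f' g' w).hom A).symm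

theorem isIso_bc0_toSets (A : EtCoh.Ab X) (h : IsIso (EtCoh.baseChange0 f g f' g' w A)) :
    IsIso (bc0 (Type (u + 1)) f g f' g' w ((toSets X).obj A)) := by
  have := isIso_pullToSets g ((EtCoh.push f).obj A)
  have := isIso_pullToSets g' A
  have h1 : IsIso (bc0 AddCommGrpCat.{u + 1} f g f' g' w A) := h
  have h2 : IsIso (bc0 (Type (u + 1)) f g f' g' w ((toSets X).obj A) ≫
      (EtDesc.pushSh f').map (pullToSets g' A)) := by
    rw [bc0_toSets]
    exact @IsIso.comp_isIso _ _ _ _ _ _ _ (isIso_pullToSets g _) (Functor.map_isIso (toSets S') _)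
  exact @IsIso.of_isIso_comp_right _ _ _ _ _ _ _ inferInstance h2

/-- A sheaf of sets embeds in the underlying sheaf of an abelian sheaf. -/
theorem exists_mono_toSets (F : EtDesc.Sh X) : ∃ (A : EtCoh.Ab X) (ι : F ⟶ (toSets X).obj A), Mono ι := by
  let P := F.obj ⋙ AddCommGrpCat.free
  let A : EtCoh.Ab X := (presheafToSheaf X.smallEtaleTopology AddCommGrpCat.{u + 1}).obj P
  let a : F.obj ⟶ ((toSets X).obj A).obj :=
    Functor.whiskerLeft F.obj AddCommGrpCat.adj.{u + 1}.unit ≫
      Functor.whiskerRight (toSheafify X.smallEtaleTopology P) (forget AddCommGrpCat)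
  refine ⟨A, ⟨a⟩, EtSets93.mono_of_injective_app _ fun U s t e => ?_⟩
  have hst := Presheaf.equalizerSieve_mem X.smallEtaleTopology (toSheafify X.smallEtaleTopology P)
    (AddCommGrpCat.adj.{u + 1}.unit.app (F.obj.obj (op U)) s) (AddCommGrpCat.adj.{u + 1}.unit.app (F.obj.obj (op U)) t) e
  refine ((isSheaf_iff_isSheaf_of_type _ _).1 F.property _ hst).isSeparatedFor.ext fun V g hg => ?_
  exact FreeAbelianGroup.of_injective hg

theorem baseChange0Sh_isIso_of_ab (h : ∀ A : EtCoh.Ab X, IsIso (EtCoh.baseChange0 f g f' g' w A))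
    (F : EtDesc.Sh X) : IsIso (EtBC.baseChange0Sh f g f' g' w F) := by
  change IsIso (bc0 (Type (u + 1)) f g f' g' w F)
  obtain ⟨A, ι, hι⟩ := exists_mono_toSets F
  let R := regularMonoOfMono ι
  obtain ⟨B, j, hj⟩ := exists_mono_toSets R.Z
  have hw : ι ≫ R.left ≫ j = ι ≫ R.right ≫ j := by rw [reassoc_of% R.w]
  have hl : IsLimit (Fork.ofι ι hw) := isEqualizerCompMono R.isLimit j
  have := preservesFiniteLimits_pullSh g
  have := preservesFiniteLimits_pullSh g'
  let ν := bcNat (adj (Type (u + 1)) g) (adj (Type (u + 1)) g') (sqIso (Type (u + 1)) f g f' g' w).hom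
  let D := parallelPair (R.left ≫ j) (R.right ≫ j)
  have : ∀ k, IsIso (ν.app (D.obj k)) := fun k => by
    cases k
    · exact isIso_bc0_toSets f g f' g' w A (h A)
    · exact isIso_bc0_toSets f g f' g' w B (h B)
  have hν : IsIso (Functor.whiskerLeft D ν) := @NatIso.isIso_of_isIso_app _ _ _ _ _ _ (Functor.whiskerLeft D ν) this
  let s := isLimitOfPreserves (EtDesc.pushSh f ⋙ EtDesc.pullSh g) hl
  let t := isLimitOfPreserves (EtDesc.pullSh g' ⋙ EtDesc.pushSh f') hl
  have e : ν.app F = (IsLimit.conePointsIsoOfNatIso s t (@asIso _ _ _ _ (Functor.whiskerLeft D ν) hν)).hom :=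
    t.hom_ext fun k => ((IsLimit.conePointsIsoOfNatIso_hom_comp s t
      (@asIso _ _ _ _ (Functor.whiskerLeft D ν) hν) k).trans (ν.naturality ((Fork.ofι ι hw).π.app k))).symm
  change IsIso (ν.app F)
  rw [e]
  infer_instance

end BC

end Groth.Agent.EtBC48
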