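import Groth.Agent.EtBC48.Mate
import Groth.Agent.EtCore45.EtalePull
import Groth.Prelude.Def_EtBCD

/-!
Base change squares of small etale sites, for sheaves with arbitrary values: coherence and etale base change.
-/

set_option autoImplicit false
set_option backward.isDefEq.respectTransparency.types false
universe u

open CategoryTheory CategoryTheory.Limits AlgebraicGeometry Opposite

namespace Groth.Agent.EtBC48

theorem paste_aux {C : Type*} [Category C] {A B B' V M₁ M₂ : C} {s : A ⟶ B} {c : B ⟶ B'} {q : B' ⟶ V}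
    {r : B ⟶ V} {t : A ⟶ V} {m₁ : A ⟶ M₁} {m₂ : M₁ ⟶ M₂} {m₃ : M₂ ⟶ B'} {u : M₂ ⟶ V} {v : M₁ ⟶ V}
    (e₁ : c ≫ q = r) (e₂ : s ≫ r = t) (d₁ : m₃ ≫ q = u) (d₂ : m₂ ≫ u = v) (d₃ : m₁ ≫ v = t) :
    (s ≫ c) ≫ q = (m₁ ≫ m₂ ≫ m₃) ≫ q := by
  rw [Category.assoc, e₁, e₂, Category.assoc, Category.assoc, d₁, d₂, d₃]

section Site

variable {X Y Z : Scheme.{u}}

theorem bc_hom_ext (f : X ⟶ Y) {W : Y.Etale} {T : X.Etale} {a b : T ⟶ (EtCoh.bc f).obj W}
    (h : a.left ≫ pullback.fst W.hom f = b.left ≫ pullback.fst W.hom f) : a = b :=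
  MorphismProperty.Over.Hom.ext (pullback.hom_ext h ((Over.w a.hom).trans (Over.w b.hom).symm))

theorem bc_hom_ext₂ {X' : Scheme.{u}} (f : X ⟶ Y) (k : X' ⟶ X) {W : Y.Etale} {T : X'.Etale}
    {a b : T ⟶ (EtCoh.bc k).obj ((EtCoh.bc f).obj W)}
    (h : a.left ≫ pullback.fst (pullback.snd W.hom f) k ≫ pullback.fst W.hom f =
      b.left ≫ pullback.fst (pullback.snd W.hom f) k ≫ pullback.fst W.hom f) : a = b := by
  refine bc_hom_ext k (pullback.hom_ext ((Category.assoc _ _ _).trans (h.trans (Category.assoc _ _ _).symm)) ?_)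
  have e : ∀ c : T ⟶ (EtCoh.bc k).obj ((EtCoh.bc f).obj W),
      (c.left ≫ pullback.fst (pullback.snd W.hom f) k) ≫ pullback.snd W.hom f = T.hom ≫ k := fun c => by
    refine (Category.assoc _ _ _).trans ((congrArg (c.left ≫ ·) pullback.condition).trans
      ((Category.assoc _ _ _).symm.trans (congrArg (· ≫ k) (Over.w c.hom))))
  exact (e a).trans (e b).symm

theorem bc_hom_ext₃ {X' X'' : Scheme.{u}} (f : X ⟶ Y) (k : X' ⟶ X) (l : X'' ⟶ X') {W : Y.Etale} {T : X''.Etale}
    {a b : T ⟶ (EtCoh.bc l).obj ((EtCoh.bc k).obj ((EtCoh.bc f).obj W))}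
    (h : a.left ≫ pullback.fst (pullback.snd (pullback.snd W.hom f) k) l ≫
        pullback.fst (pullback.snd W.hom f) k ≫ pullback.fst W.hom f =
      b.left ≫ pullback.fst (pullback.snd (pullback.snd W.hom f) k) l ≫
        pullback.fst (pullback.snd W.hom f) k ≫ pullback.fst W.hom f) : a = b := by
  have e : ∀ c : T ⟶ (EtCoh.bc l).obj ((EtCoh.bc k).obj ((EtCoh.bc f).obj W)),
      (c.left ≫ pullback.fst (pullback.snd (pullback.snd W.hom f) k) l) ≫ pullback.snd (pullback.snd W.hom f) k =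
        T.hom ≫ l := fun c => by
    refine (Category.assoc _ _ _).trans ((congrArg (c.left ≫ ·) pullback.condition).trans
      ((Category.assoc _ _ _).symm.trans (congrArg (· ≫ l) (Over.w c.hom))))
  refine bc_hom_ext l (pullback.hom_ext (pullback.hom_ext ?_ ?_) ((e a).trans (e b).symm))
  · exact ((Category.assoc _ _ _).trans (Category.assoc _ _ _)).trans
      (h.trans ((Category.assoc _ _ _).trans (Category.assoc _ _ _)).symm)
  · refine (Category.assoc _ _ _).trans ((congrArg (_ ≫ ·) pullback.condition).trans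
      ((Category.assoc _ _ _).symm.trans (Eq.trans ?_ ((Category.assoc _ _ _).trans
        ((congrArg (_ ≫ ·) pullback.condition.symm).trans (Category.assoc _ _ _).symm)))))
    exact congrArg (· ≫ k) ((e a).trans (e b).symm)

theorem bc_map_fst (f : X ⟶ Y) {W W' : Y.Etale} (a : W ⟶ W') :
    ((EtCoh.bc f).map a).left ≫ pullback.fst W'.hom f = pullback.fst W.hom f ≫ a.left :=
  pullback.lift_fst _ _ _

/-- `bc (g ≫ f) ≅ bc f ⋙ bc g`. -/
noncomputable abbrev cmpBC (f : X ⟶ Y) (g : Z ⟶ X) : EtCoh.bc (g ≫ f) ≅ EtCoh.bc f ⋙ EtCoh.bc g :=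
  MorphismProperty.Over.pullbackComp (P := EtCoh.etaleMP) (Q := ⊤) g f

@[reassoc]
theorem cmpBC_hom_fst (f : X ⟶ Y) (g : Z ⟶ X) (W : Y.Etale) :
    ((cmpBC f g).hom.app W).left ≫ pullback.fst (pullback.snd W.hom f) g ≫ pullback.fst W.hom f =
      pullback.fst W.hom (g ≫ f) :=
  MorphismProperty.Over.pullbackComp_left_fst_fst (P := EtCoh.etaleMP) (Q := ⊤) g f W

@[reassoc]
theorem cmpBC_inv_fst (f : X ⟶ Y) (g : Z ⟶ X) (W : Y.Etale) :
    ((cmpBC f g).inv.app W).left ≫ pullback.fst W.hom (g ≫ f) =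
      pullback.fst (pullback.snd W.hom f) g ≫ pullback.fst W.hom f := by
  rw [← cmpBC_hom_fst f g W, ← Category.assoc]
  erw [← MorphismProperty.Comma.comp_left, Iso.inv_hom_id_app]
  exact Category.id_comp _

@[reassoc]
theorem congrBC_inv_fst {f f' : X ⟶ Y} (h : f = f') (W : Y.Etale) :
    ((MorphismProperty.Over.pullbackCongr (P := EtCoh.etaleMP) (Q := ⊤) h).inv.app W).left ≫
      pullback.fst W.hom f = pullback.fst W.hom f' := by
  rw [← MorphismProperty.Over.pullbackCongr_hom_app_left_fst (P := EtCoh.etaleMP) (Q := ⊤) h W, ← Category.assoc]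
  erw [← MorphismProperty.Comma.comp_left, Iso.inv_hom_id_app]
  exact Category.id_comp _

variable {S X' S' : Scheme.{u}} (f : X ⟶ S) (g : S' ⟶ S) (f' : X' ⟶ S') (g' : X' ⟶ X) (w : g' ≫ f = f' ≫ g)

/-- The comparison of the two iterated base changes. -/
noncomputable def sqMap (V : S.Etale) :
    (EtCoh.bc f').obj ((EtCoh.bc g).obj V) ⟶ (EtCoh.bc g').obj ((EtCoh.bc f).obj V) :=
  (cmpBC g f').inv.app V ≫ (MorphismProperty.Over.pullbackCongr (P := EtCoh.etaleMP) (Q := ⊤) w).inv.app V ≫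
    (cmpBC f g').hom.app V

@[reassoc]
theorem sqMap_fst (V : S.Etale) :
    (sqMap f g f' g' w V).left ≫ pullback.fst (pullback.snd V.hom f) g' ≫ pullback.fst V.hom f =
      pullback.fst (pullback.snd V.hom g) f' ≫ pullback.fst V.hom g := by
  simp only [sqMap, MorphismProperty.Comma.comp_left, Category.assoc]
  exact ((congrArg (fun q => _ ≫ _ ≫ q) (cmpBC_hom_fst f g' V)).trans
    (congrArg (fun q => _ ≫ q) (congrBC_inv_fst w V))).trans (cmpBC_inv_fst g f' V)

end Site

section Coeff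

variable (A : Type (u + 2)) [Category.{u + 1} A]

/-- Direct image. -/
noncomputable abbrev push {X Y : Scheme.{u}} (f : X ⟶ Y) :
    Sheaf X.smallEtaleTopology A ⥤ Sheaf Y.smallEtaleTopology A :=
  (EtCoh.bc f).sheafPushforwardContinuous A Y.smallEtaleTopology X.smallEtaleTopology

/-- Direct images compose. -/
noncomputable def pushC {X Y Z : Scheme.{u}} (f : X ⟶ Y) (g : Z ⟶ X) : push A g ⋙ push A f ≅ push A (g ≫ f) :=
  Functor.sheafPushforwardContinuousComp' (F := EtCoh.bc f) (G := EtCoh.bc g) (FG := EtCoh.bc (g ≫ f))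
    ((cmpBC f g).symm : EtCoh.bc f ⋙ EtCoh.bc g ≅ EtCoh.bc (g ≫ f))
    A Y.smallEtaleTopology X.smallEtaleTopology Z.smallEtaleTopology

variable {X S X' S' : Scheme.{u}} (f : X ⟶ S) (g : S' ⟶ S) (f' : X' ⟶ S') (g' : X' ⟶ X) (w : g' ≫ f = f' ≫ g)

/-- `f_* g'_* ≅ g_* f'_*`. -/
noncomputable def sqIso : push A g' ⋙ push A f ≅ push A f' ⋙ push A g :=
  pushC A f g' ≪≫
    (Functor.sheafPushforwardContinuousIso (F := EtCoh.bc (g' ≫ f)) (F' := EtCoh.bc (f' ≫ g))
      ((MorphismProperty.Over.pullbackCongr (P := EtCoh.etaleMP) (Q := ⊤) w) :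
        EtCoh.bc (g' ≫ f) ≅ EtCoh.bc (f' ≫ g))
      A S.smallEtaleTopology X'.smallEtaleTopology : push A (g' ≫ f) ≅ push A (f' ≫ g)) ≪≫
    (pushC A g f').symm

theorem sqIso_hom_app (G : Sheaf X'.smallEtaleTopology A) (V : S.Etale) :
    ((sqIso A f g f' g' w).hom.app G).hom.app (op V) = G.obj.map (sqMap f g f' g' w V).op := by
  simp only [sqMap, sqIso, pushC, op_comp, Functor.map_comp]
  simp
  rfl

theorem pushC_hom_app (G : Sheaf X'.smallEtaleTopology A) (V : S.Etale) :
    ((pushC A f g').hom.app G).hom.app (op V) = G.obj.map ((cmpBC f g').hom.app V).op := by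
  simp [pushC]

section Paste

variable {W Z : Scheme.{u}} (i : W ⟶ S') (j : Z ⟶ W) (k : Z ⟶ X') (w' : k ≫ f' = j ≫ i)
  (w'' : (k ≫ g') ≫ f = j ≫ i ≫ g)

/-- Coherence of the squares of a tower. -/
theorem sqIso_paste (G : Sheaf Z.smallEtaleTopology A) :
    (push A f).map ((pushC A g' k).hom.app G) ≫ (sqIso A f (i ≫ g) j (k ≫ g') w'').hom.app G =
      (sqIso A f g f' g' w).hom.app ((push A k).obj G) ≫ (push A g).map ((sqIso A f' i j k w').hom.app G) ≫
        (pushC A g i).hom.app ((push A j).obj G) := by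
  refine ObjectProperty.hom_ext _ (NatTrans.ext (funext fun ⟨V⟩ => ?_))
  change ((pushC A g' k).hom.app G).hom.app (op ((EtCoh.bc f).obj V)) ≫
      ((sqIso A f (i ≫ g) j (k ≫ g') w'').hom.app G).hom.app (op V) =
    ((sqIso A f g f' g' w).hom.app ((push A k).obj G)).hom.app (op V) ≫
      ((sqIso A f' i j k w').hom.app G).hom.app (op ((EtCoh.bc g).obj V)) ≫
        ((pushC A g i).hom.app ((push A j).obj G)).hom.app (op V)
  rw [sqIso_hom_app, sqIso_hom_app, sqIso_hom_app, pushC_hom_app, pushC_hom_app]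
  change G.obj.map _ ≫ G.obj.map _ =
    G.obj.map ((EtCoh.bc k).map (sqMap f g f' g' w V)).op ≫ G.obj.map _ ≫
      G.obj.map ((EtCoh.bc j).map ((cmpBC g i).hom.app V)).op
  simp only [← Functor.map_comp, ← op_comp]
  refine congrArg G.obj.map (congrArg Quiver.Hom.op ?_)
  refine bc_hom_ext₃ f g' k ?_
  change ((sqMap f (i ≫ g) j (k ≫ g') w'' V).left ≫ ((cmpBC g' k).hom.app ((EtCoh.bc f).obj V)).left) ≫ _ =
    (((EtCoh.bc j).map ((cmpBC g i).hom.app V)).left ≫ (sqMap f' i j k w' ((EtCoh.bc g).obj V)).left ≫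
      ((EtCoh.bc k).map (sqMap f g f' g' w V)).left) ≫ _
  let p₁ : _ ⟶ _ := pullback.fst (pullback.snd V.hom g) i ≫ pullback.fst V.hom g
  exact paste_aux (cmpBC_hom_fst g' k ((EtCoh.bc f).obj V) =≫ pullback.fst V.hom f |> fun e =>
      ((congrArg (_ ≫ ·) (Category.assoc _ _ _).symm).trans ((Category.assoc _ _ _).symm.trans e)))
    (sqMap_fst f (i ≫ g) j (k ≫ g') w'' V)
    ((reassoc_of% (bc_map_fst k (sqMap f g f' g' w V))) _ |>.trans
      (congrArg (pullback.fst ((EtCoh.bc f').obj ((EtCoh.bc g).obj V)).hom k ≫ ·) (sqMap_fst f g f' g' w V)))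
    (sqMap_fst_assoc f' i j k w' ((EtCoh.bc g).obj V) (pullback.fst V.hom g))
    (((reassoc_of% (bc_map_fst j ((cmpBC g i).hom.app V)))
      (pullback.fst (pullback.snd V.hom g) i ≫ pullback.fst V.hom g)).trans
      (congrArg (pullback.fst ((EtCoh.bc (i ≫ g)).obj V).hom j ≫ ·) (cmpBC_hom_fst g i V)))

end Paste

section Etale

variable [Etale g] [Etale g']

/-- Restriction along an etale morphism. -/
noncomputable abbrev restr {U Y : Scheme.{u}} (j : U ⟶ Y) [Etale j] :
    Sheaf Y.smallEtaleTopology A ⥤ Sheaf U.smallEtaleTopology A :=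
  (EtShriek.compEtale j).sheafPushforwardContinuous A U.smallEtaleTopology Y.smallEtaleTopology

/-- Restriction is left adjoint to direct image. -/
noncomputable abbrev restrAdj {U Y : Scheme.{u}} (j : U ⟶ Y) [Etale j] : restr A j ⊣ push A j :=
  (EtCore45.compBcAdj j).sheafPushforwardContinuous U.smallEtaleTopology Y.smallEtaleTopology

theorem isIso_bcM_restr (sq : IsPullback g' f' f g) (F : Sheaf X.smallEtaleTopology A) :
    IsIso (bcM (restrAdj A g) (restrAdj A g') (sqIso A f g f' g' sq.w).hom F) := by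
  have key : ∀ W : S'.Etale, ∃ m : (EtShriek.compEtale g').obj ((EtCoh.bc f').obj W) ⟶
      (EtCoh.bc f).obj ((EtShriek.compEtale g).obj W),
      (bcM (restrAdj A g) (restrAdj A g') (sqIso A f g f' g' sq.w).hom F).hom.app (op W) = F.obj.map m.op ∧
        m.left ≫ pullback.fst (W.hom ≫ g) f = pullback.fst W.hom f' := by
    intro W
    refine ⟨(EtShriek.compEtale g').map ((EtCoh.bc f').map ((EtCore45.compBcAdj g).unit.app W) ≫
        sqMap f g f' g' sq.w ((EtShriek.compEtale g).obj W)) ≫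
      (EtCore45.compBcAdj g').counit.app ((EtCoh.bc f).obj ((EtShriek.compEtale g).obj W)), ?_, ?_⟩
    · rw [bcM, Adjunction.homEquiv_counit]
      change ((((push A f).map ((restrAdj A g').unit.app F)).hom.app (op ((EtShriek.compEtale g).obj W)) ≫
        ((sqIso A f g f' g' sq.w).hom.app ((restr A g').obj F)).hom.app (op ((EtShriek.compEtale g).obj W))) ≫
        (((restrAdj A g).counit.app ((push A f').obj ((restr A g').obj F))).hom.app (op W))) = _
      rw [sqIso_hom_app]
      simp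
      rfl
    · change ((((EtCoh.bc f').map ((EtCore45.compBcAdj g).unit.app W)).left ≫
          (sqMap f g f' g' sq.w ((EtShriek.compEtale g).obj W)).left) ≫ pullback.fst (pullback.snd (W.hom ≫ g) f) g') ≫
          pullback.fst (W.hom ≫ g) f = _
      refine (Category.assoc _ _ _).trans ((Category.assoc _ _ _).trans ?_)
      refine (congrArg (_ ≫ ·) (sqMap_fst f g f' g' sq.w ((EtShriek.compEtale g).obj W))).trans ?_
      refine (Category.assoc _ _ _).symm.trans ((congrArg (· ≫ pullback.fst (W.hom ≫ g) g)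
        (bc_map_fst f' ((EtCore45.compBcAdj g).unit.app W))).trans ((Category.assoc _ _ _).trans ?_))
      exact (congrArg (pullback.fst W.hom f' ≫ ·) (pullback.lift_fst (𝟙 W.left) W.hom _)).trans (Category.comp_id _)
  have hk : ∀ W : S'.Etale,
      IsIso ((bcM (restrAdj A g) (restrAdj A g') (sqIso A f g f' g' sq.w).hom F).hom.app (op W)) := by
    intro W
    obtain ⟨m, hm, hf⟩ := key W
    rw [hm]
    have hP : IsPullback (pullback.fst W.hom f') (pullback.snd W.hom f' ≫ g') (W.hom ≫ g) f :=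
      (IsPullback.of_hasPullback W.hom f').paste_vert sq.flip
    have e : m.left = hP.isoPullback.hom := pullback.hom_ext
      (hf.trans hP.isoPullback_hom_fst.symm) ((Over.w m.hom).trans hP.isoPullback_hom_snd.symm)
    let mi : (EtShriek.compEtale g').obj ((EtCoh.bc f').obj W) ≅ (EtCoh.bc f).obj ((EtShriek.compEtale g).obj W) :=
      MorphismProperty.Over.isoMk hP.isoPullback hP.isoPullback_hom_snd
    have hmi : m = mi.hom := MorphismProperty.Over.Hom.ext e
    rw [hmi]
    exact (F.obj.mapIso mi.op).isIso_hom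
  have : IsIso (bcM (restrAdj A g) (restrAdj A g') (sqIso A f g f' g' sq.w).hom F).hom :=
    @NatIso.isIso_of_isIso_app _ _ _ _ _ _ _ fun W => hk W.unop
  exact @isIso_of_reflects_iso _ _ _ _ _ _ _ (sheafToPresheaf _ _) this _

end Etale

end Coeff

end Groth.Agent.EtBC48
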