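import Groth.Agent.PBC51.TorsionAcyclic

/-!
Torsion parts of injective sheaves and of complexes of injective sheaves.
-/

set_option autoImplicit false
set_option backward.isDefEq.respectTransparency.types false
universe u

open CategoryTheory CategoryTheory.Limits CategoryTheory.Abelian AlgebraicGeometry Opposite
open Groth.Agent.Unr55.EtSh Groth.Agent.Cons51 Groth.Agent.PBC51

namespace Groth.Agent.EtBC48

variable {X : Scheme.{u}}

/-- The torsion part of an injective sheaf. -/
theorem exists_torsion_part (I : EtCoh.Ab X) [Injective I] :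
    ∃ (T : EtCoh.Ab X) (i : T ⟶ I), Mono i ∧ EtCoh.IsTorsion T ∧ QAcyclic T ∧
      (∀ G : EtCoh.Ab X, EtCoh.IsTorsion G → ∀ φ : G ⟶ I, ∃ ψ, ψ ≫ i = φ) ∧
      ∀ (K : Type u) [Field K] [IsSepClosed K] (η : Spec (CommRingCat.of K) ⟶ X)
        (b : ((EtCoh.stalk η).obj I : AddCommGrpCat.{u + 1})),
        IsOfFinAddOrder b → ∃ a, (EtCoh.stalk η).map i a = b := by
  let D := factSeq I
  let R := colimit D
  let ιk : ℕ → (I ⟶ R) := fun k => colimit.ι D (stage k)
  let r : I ⟶ R := ιk 0
  have : IsFiltered (AsSmall.{u + 1} ℕ) := IsFiltered.of_equivalence (AsSmall.equiv (C := ℕ))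
  let e0 : ∀ k, stage.{u} 0 ⟶ stage k := fun k => AsSmall.up.map (homOfLE (Nat.zero_le k))
  have hmap : ∀ k, (D.map (e0 k) : I ⟶ I) = k.factorial • 𝟙 I := fun k => factSeq_map I k
  have hr : ∀ k, k.factorial • ιk k = r := fun k => by
    refine Eq.trans ?_ ((congrArg (fun g : I ⟶ I => g ≫ ιk k) (hmap k)).symm.trans (colimit.w D (e0 k)))
    rw [Preadditive.nsmul_comp, Category.id_comp]
  have hstalk : ∀ {K : Type u} [Field K] [IsSepClosed K] (η : Spec (CommRingCat.of K) ⟶ X) (k : ℕ)
      (b : ((EtCoh.stalk η).obj I : AddCommGrpCat.{u + 1})),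
      (EtCoh.stalk η).map (ιk k) (k.factorial • b) = (EtCoh.stalk η).map r b := by
    intro K _ _ η k b
    rw [← hr k, Functor.map_nsmul, map_nsmul]
    rfl
  have hepi : Epi r := epi_of_stalks r fun K _ _ η a => by
    have : PreservesColimitsOfSize.{u + 1, u + 1} (EtCoh.stalk η) :=
      (Scheme.pointSmallEtale η).skyscraperSheafAdjunction.leftAdjoint_preservesColimits
    obtain ⟨j, b, rfl⟩ := Concrete.isColimit_exists_rep _ (isColimitOfPreserves (EtCoh.stalk η) (colimit.isColimit D)) a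
    let b' : ((EtCoh.stalk η).obj I : AddCommGrpCat.{u + 1}) := b
    obtain ⟨y, hy⟩ := exists_nsmul_stalk I (Nat.factorial_pos (AsSmall.down.obj j)) η b'
    refine ⟨y, (hstalk η (AsSmall.down.obj j) y).symm.trans ?_⟩
    rw [hy]
    rfl
  let S : ShortComplex (EtCoh.Ab X) := ShortComplex.mk (kernel.ι r) r (kernel.condition r)
  have hS : S.ShortExact := ShortComplex.ShortExact.mk' (ShortComplex.exact_of_f_is_kernel _ (kernelIsKernel r))
    inferInstance hepi
  have hTt : EtCoh.IsTorsion (kernel r) := by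
    refine (isTorsion_iff_stalks _).2 fun K _ _ η a => ?_
    have : PreservesColimitsOfSize.{u + 1, u + 1} (EtCoh.stalk η) :=
      (Scheme.pointSmallEtale η).skyscraperSheafAdjunction.leftAdjoint_preservesColimits
    let b := (EtCoh.stalk η).map (kernel.ι r) a
    have hb : (EtCoh.stalk η).map r b = 0 := by
      rw [← ConcreteCategory.comp_apply, ← Functor.map_comp, kernel.condition, Functor.map_zero]
      rfl
    let hcS := isColimitOfPreserves (EtCoh.stalk η ⋙ forget AddCommGrpCat.{u + 1}) (colimit.isColimit D)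
    let b0 : ((EtCoh.stalk η).obj I : AddCommGrpCat.{u + 1}) := 0
    obtain ⟨j, f, hf⟩ := (Types.FilteredColimit.isColimit_eq_iff' (i := stage 0) hcS b b0).1
      (hb.trans (map_zero ((EtCoh.stalk η).map r).hom).symm)
    have hfe : f = e0 (AsSmall.down.obj j) := ULift.ext _ _ (Subsingleton.elim _ _)
    subst hfe
    let g : I ⟶ I := D.map (e0 (AsSmall.down.obj j))
    have hg : g = (AsSmall.down.obj j).factorial • 𝟙 I := hmap _
    have h2' : (EtCoh.stalk η).map g b = (EtCoh.stalk η).map g b0 := hf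
    have h2 : (EtCoh.stalk η).map g b = 0 := h2'.trans (map_zero ((EtCoh.stalk η).map g).hom)
    rw [hg, Functor.map_nsmul, (EtCoh.stalk η).map_id] at h2
    refine isOfFinAddOrder_iff_nsmul_eq_zero.2 ⟨(AsSmall.down.obj j).factorial, Nat.factorial_pos _, ?_⟩
    refine (AddCommGrpCat.mono_iff_injective ((EtCoh.stalk η).map (kernel.ι r))).1 inferInstance ?_
    rw [map_nsmul, map_zero]
    exact h2
  have htor : ∀ (K : Type u) [Field K] [IsSepClosed K] (η : Spec (CommRingCat.of K) ⟶ X)
      (b : ((EtCoh.stalk η).obj I : AddCommGrpCat.{u + 1})),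
      IsOfFinAddOrder b → ∃ a, (EtCoh.stalk η).map (kernel.ι r) a = b := by
    intro K _ _ η b hb
    obtain ⟨N, hN, h0⟩ := isOfFinAddOrder_iff_nsmul_eq_zero.1 hb
    have ha : N.factorial • b = 0 := by
      obtain ⟨c, hc⟩ := Nat.dvd_factorial hN le_rfl
      rw [hc, mul_comm, mul_nsmul', h0, smul_zero]
    have hb0 : (EtCoh.stalk η).map r b = 0 := by
      rw [← hstalk η N b, ha, map_zero]
    exact (ShortComplex.ab_exact_iff _).1 (hS.exact.map (EtCoh.stalk η)) b hb0
  have hfac : ∀ (G : EtCoh.Ab X), EtCoh.IsTorsion G → ∀ φ : G ⟶ I, ∃ ψ, ψ ≫ kernel.ι r = φ := fun G hG φ => by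
    refine ⟨kernel.lift r φ (ObjectProperty.hom_ext _ (NatTrans.ext (funext fun U =>
      ConcreteCategory.hom_ext _ _ fun σ => ?_))), kernel.lift_ι _ _ _⟩
    refine sect_eq_zero_of_germ R _ fun K _ _ η p => ?_
    obtain ⟨a, ha⟩ := htor K η ((EtCoh.stalk η).map φ (germ η G p σ))
      (AddMonoidHom.isOfFinAddOrder _ ((isTorsion_iff_stalks G).1 hG K η _))
    refine (stalk_map_germ η (φ ≫ r) p σ).symm.trans ?_
    rw [Functor.map_comp, ConcreteCategory.comp_apply, ← ha, ← ConcreteCategory.comp_apply, ← Functor.map_comp,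
      kernel.condition, Functor.map_zero]
    rfl
  refine ⟨kernel r, kernel.ι r, inferInstance, hTt, fun W hc hs q hq => ?_, hfac, htor⟩
  refine subsingleton_of_forall_eq 0 fun x => ?_
  obtain ⟨q, rfl⟩ := Nat.exists_eq_add_one.2 hq
  have : Etale W.hom := W.prop
  have := hc
  have := hs
  let P := EtCoh.pull W.hom
  have : P.Additive := (EtCoh.pullPushAdj W.hom).left_adjoint_additive
  have : PreservesColimitsOfShape (AsSmall.{u + 1} ℕ) P :=
    (EtCoh.pullPushAdj W.hom).leftAdjoint_preservesColimits.preservesColimitsOfShape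
  have hI : Injective (P.obj I) := EtCore45.injective_pull W.hom I
  have hS' := EtCore45.shortExact_pull W hS
  let hcP := isColimitOfPreserves P (colimit.isColimit D)
  obtain ⟨x₃, rfl⟩ := Ext.covariant_sequence_exact₁ (EtCoh.const W.left ℤ) hS' x
    (Ext.eq_zero_of_injective (I := P.obj I) _) (rfl : q + 1 = q + 1)
  rcases Nat.eq_zero_or_pos q with rfl | hq0
  · have := Unr55.HColim.preservesColimitsOfShape_HF (X := W.left) (AsSmall.{u + 1} ℕ) 0
    obtain ⟨j, w, hw⟩ := Concrete.isColimit_exists_rep _ (isColimitOfPreserves (EtCoh.HF W.left 0) hcP) x₃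
    let φ : EtCoh.const W.left ℤ ⟶ P.obj I := Ext.addEquiv₀ w
    have hφ : Ext.mk₀ φ = w := Ext.mk₀_addEquiv₀_apply _
    obtain ⟨ψ, hψ⟩ := exists_nsmul_eq (G := P.obj I) (Nat.factorial_pos (AsSmall.down.obj j)) φ
    have e : ψ ≫ P.map r = φ ≫ P.map (colimit.ι D j) := by
      rw [← hr (AsSmall.down.obj j), Functor.map_nsmul, Preadditive.comp_nsmul, ← Preadditive.nsmul_comp, hψ]
      rfl
    have hx : x₃ = (Ext.mk₀ ψ).comp (Ext.mk₀ (P.map r)) (add_zero 0) := by
      rw [← hw, ← hφ, Ext.mk₀_comp_mk₀, e, ← Ext.mk₀_comp_mk₀]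
      rfl
    rw [hx]
    refine (Ext.comp_assoc_of_second_deg_zero (Ext.mk₀ ψ) (Ext.mk₀ (P.map r)) hS'.extClass (zero_add 1)).trans ?_
    exact (congrArg ((Ext.mk₀ ψ).comp · (zero_add 1)) hS'.comp_extClass).trans (Ext.comp_zero _ _ _ _ _)
  · obtain ⟨p, rfl⟩ := Nat.exists_eq_add_one.2 hq0
    have h1 := Unr55.HColim.subsingleton_H_colimit (X := W.left) (AsSmall.{u + 1} ℕ) (D ⋙ P)
      (fun _ => EtCore45.injective_pull W.hom I) p
    have e := (colimit.isColimit (D ⋙ P)).coconePointUniqueUpToIso hcP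
    have h2 : Subsingleton (EtCoh.H W.left (P.obj R) (p + 1)) := by
      refine ⟨fun a b => ?_⟩
      have h3 : ∀ z : EtCoh.H W.left (P.obj R) (p + 1),
          Sheaf.H.map e.hom (p + 1) (Sheaf.H.map e.inv (p + 1) z) = z := fun z => by
        rw [← Sheaf.H.map_comp_apply, e.inv_hom_id]; exact Sheaf.H.map_id_apply z
      exact (h3 a).symm.trans ((congrArg (fun z => Sheaf.H.map e.hom (p + 1) z) (h1.elim _ _)).trans (h3 b))
    rw [show x₃ = 0 from Subsingleton.elim (α := EtCoh.H W.left (P.obj R) (p + 1)) _ _]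
    exact Ext.zero_comp _ _ _ _ _

/-- A torsion subcomplex with acyclic terms, containing all torsion elements. -/
theorem exists_torsion_subcomplex (I : CochainComplex (EtCoh.Ab X) ℤ) [∀ n, Injective (I.X n)] :
    ∃ (T : CochainComplex (EtCoh.Ab X) ℤ) (i : T ⟶ I),
      (∀ n, Mono (i.f n) ∧ EtCoh.IsTorsion (T.X n) ∧ QAcyclic (T.X n)) ∧
      ∀ (n : ℤ) (K : Type u) [Field K] [IsSepClosed K] (η : Spec (CommRingCat.of K) ⟶ X)
        (b : ((EtCoh.stalk η).obj (I.X n) : AddCommGrpCat.{u + 1})),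
        IsOfFinAddOrder b → ∃ a, (EtCoh.stalk η).map (i.f n) a = b := by
  choose T i hi hT hq hfac htor using fun n => exists_torsion_part (I.X n)
  choose d hd using fun m n => hfac n (T m) (hT m) (i m ≫ I.d m n)
  let C : CochainComplex (EtCoh.Ab X) ℤ :=
    { X := T
      d := d
      shape := fun m n h => by
        have := hi n
        rw [← cancel_mono (i n), hd, I.shape m n h, comp_zero, zero_comp]
      d_comp_d' := fun m n p _ _ => by
        have := hi p
        rw [← cancel_mono (i p), Category.assoc, hd, reassoc_of% (hd m n), HomologicalComplex.d_comp_d, comp_zero,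
          zero_comp] }
  exact ⟨C, { f := i, comm' := fun m n _ => (hd m n).symm }, fun n => ⟨hi n, hT n, hq n⟩, htor⟩

end Groth.Agent.EtBC48
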