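import Groth.Agent.EtBC48.TorsionPart
import Groth.Agent.EtBC48.RAcQis
import Groth.Agent.EtBC48.Derived
import Mathlib.Algebra.Homology.DerivedCategory.TStructure

/-!
A bounded below complex of injective sheaves with torsion cohomology is quasi-isomorphic to its torsion part.
-/

set_option autoImplicit false
set_option backward.isDefEq.respectTransparency.types false
universe u

open CategoryTheory CategoryTheory.Limits AlgebraicGeometry HomologicalComplex
open Groth.Agent.Cons51

namespace Groth.Agent.EtBC48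

variable {X : Scheme.{u}}

/-- On elements, torsion parts compute torsion cohomology of complexes with divisible terms. -/
theorem isIso_homologyMap_of_torsionPart {K L : CochainComplex AddCommGrpCat.{u + 1} ℤ} (f : K ⟶ L) (n : ℤ)
    (hinj : ∀ m, Function.Injective (f.f m)) (hdiv : ∀ m (z : L.X m) (N : ℕ), 0 < N → ∃ z', N • z' = z)
    (htor : ∀ m (b : L.X m), IsOfFinAddOrder b → ∃ a, f.f m a = b)
    (hK : ∀ t : K.X n, IsOfFinAddOrder t) (hH : ∀ m, ∀ x : L.homology m, IsOfFinAddOrder x) :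
    IsIso (homologyMap f n) := by
  have key : ∀ m k (y : L.X m), m + 1 = k → L.d m k y = 0 → ∃ M : ℕ, 0 < M ∧ ∃ w, L.d (m - 1) m w = M • y := by
    intro m k y hk hy
    obtain ⟨s, rfl⟩ := exists_iCycles_eq L m k (by simp [← hk]) y hy
    obtain ⟨M, hM, h0⟩ := isOfFinAddOrder_iff_nsmul_eq_zero.1 (hH m (L.homologyπ m s))
    rw [← map_nsmul] at h0
    obtain ⟨w, hw⟩ := (homologyπ_eq_zero_iff' L (m - 1) m (by simp) _).1 h0
    exact ⟨M, hM, w, hw.trans (map_nsmul _ _ _)⟩
  have hcomm : ∀ i j (a : K.X i), L.d i j (f.f i a) = f.f j (K.d i j a) := fun i j a =>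
    ConcreteCategory.congr_hom (f.comm i j) a
  refine isIso_homologyMap_of_elements f (n - 1) n (n + 1) (by simp) (by simp) (fun y hy => ?_)
    fun t ht z hz => ?_
  · obtain ⟨M, hM, w, hw⟩ := key n (n + 1) y rfl hy
    obtain ⟨w', rfl⟩ := hdiv _ w M hM
    rw [map_nsmul] at hw
    obtain ⟨t, ht⟩ := htor n (y - L.d (n - 1) n w') (isOfFinAddOrder_iff_nsmul_eq_zero.2 ⟨M, hM, by
      rw [smul_sub, hw, sub_self]⟩)
    refine ⟨t, w', hinj (n + 1) ?_, by rw [ht, sub_add_cancel]⟩
    rw [← hcomm, ht, map_sub, hy, map_zero, zero_sub, neg_eq_zero]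
    exact ConcreteCategory.congr_hom (L.d_comp_d _ _ _) w'
  · obtain ⟨N, hN, h0⟩ := isOfFinAddOrder_iff_nsmul_eq_zero.1 (hK t)
    have hcyc : L.d (n - 1) n (N • z) = 0 := by rw [map_nsmul, hz, ← map_nsmul, h0, map_zero]
    obtain ⟨M, hM, v, hv⟩ := key (n - 1) n (N • z) (by omega) hcyc
    obtain ⟨v', rfl⟩ := hdiv _ v (M * N) (Nat.mul_pos hM hN)
    rw [map_nsmul] at hv
    obtain ⟨t', ht'⟩ := htor (n - 1) (z - L.d (n - 1 - 1) (n - 1) v') (isOfFinAddOrder_iff_nsmul_eq_zero.2
      ⟨M * N, Nat.mul_pos hM hN, by rw [smul_sub, hv, ← mul_nsmul' z M N, sub_self]⟩)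
    refine ⟨t', hinj n ?_⟩
    rw [← hcomm, ht', map_sub, hz]
    exact sub_eq_self.2 (ConcreteCategory.congr_hom (L.d_comp_d _ _ _) v')

/-- The torsion model of a bounded below complex of injectives with torsion cohomology. -/
theorem exists_torsion_model (I : CochainComplex (EtCoh.Ab X) ℤ) [∀ n, Injective (I.X n)] (a : ℤ)
    [I.IsStrictlyGE a] (hH : ∀ n, EtCoh.IsTorsion (I.homology n)) :
    ∃ (T : CochainComplex (EtCoh.Ab X) ℤ) (i : T ⟶ I), QuasiIso i ∧ T.IsStrictlyGE a ∧
      ∀ n, EtCoh.IsTorsion (T.X n) ∧ PBC51.QAcyclic (T.X n) := by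
  obtain ⟨T, i, hT, htor⟩ := exists_torsion_subcomplex I
  have hge : T.IsStrictlyGE a := by
    rw [CochainComplex.isStrictlyGE_iff]
    intro n hn
    have := (hT n).1
    exact IsZero.of_mono (i.f n) (I.isZero_of_isStrictlyGE a n hn)
  refine ⟨T, i, ⟨fun n => (quasiIsoAt_iff_isIso_homologyMap i n).2 ?_⟩, hge, fun n => (hT n).2⟩
  refine Unr55.EtSh.isIso_of_stalks _ fun K _ _ η => (ConcreteCategory.isIso_iff_bijective _).1 ?_
  let P := EtCoh.stalk η
  refine (isIso_map_homologyMap_iff P i n).2 ?_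
  refine isIso_homologyMap_of_torsionPart _ n (fun m => ?_) (fun m z N hN => exists_nsmul_stalk (I.X m) hN η z)
    (fun m b hb => htor m K η b hb) (fun t => (isTorsion_iff_stalks _).1 (hT n).2.1 K η t) fun m x => ?_
  · have := (hT m).1
    exact (AddCommGrpCat.mono_iff_injective _).1 (inferInstance : Mono (P.map (i.f m)))
  · let e := mhi P I m
    have h := (isTorsion_iff_stalks _).1 (hH m) K η (e.hom x)
    have := AddMonoidHom.isOfFinAddOrder e.inv.hom h
    rwa [show e.inv.hom (e.hom x) = x from ConcreteCategory.congr_hom e.hom_inv_id x] at this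

end Groth.Agent.EtBC48
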